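import Cfsg.Agent.H498.RP.Rgd
import Cfsg.Agent.H167.AltBldg
import Cfsg.Agent.H940.RatB.Count
import Cfsg.Agent.H498.RP.E6A5_mg_m3
import Cfsg.Agent.H145.BR.Count
import Cfsg.Agent.SmallSimple.BurnsideNC
import Cfsg.Agent.Nodes.LeviDec
import Cfsg.Agent.H116.RatB0.RowsFin
import Cfsg.Agent.FastGrp
import Cfsg.Agent.Prune
set_option linter.all false

section
prune_inst 0x7ffdfff8bfa8fbffdfff7fbfffd9dffa31e6afffe6dff943ffe8eb9f9bbf0b008bed2bad0de090fe1e56609410b87b43fb7eefffec6bdc7ffffd5fb41ffbee4ff5f7b50951de8cb406ac0fff03f0570a6f3ffff7ffffffffffffffffffffffbeffffebfeffff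

-- part: H796/BR/MInst_mg
section
prune_inst 0x400500000000000000022000000000000000000000020020000000880000041000000000000100000000000000000000020400000000a000400000000000000000001000000000000000000000000000000000000000000000000000000000000000
set_option linter.all false
open scoped Cfsg.Agent.FastGrp
private noncomputable def lq263cdfc1e1 {T : Sort _} (f :
    type_of% (@_root_.Prod.mk.{0, 0}) →
    type_of% (@_root_.List.cons.{0} (Prod Nat (Prod Nat (Fin 10)))) →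
    type_of% (@_root_.List.cons.{0}) →
    type_of% (@_root_.List.cons.{0} (Int)) →
    type_of% (@_root_.List.cons.{0} (Fin 8)) →
    type_of% (@_root_.Matrix.vecCons.{0}) →
    type_of% (@_root_.List.nil.{0}) →
    type_of% (@_root_.Nat.add) →
    type_of% (@_root_.Nat.mul) →
    type_of% (@_root_.Nat.ble) →
    type_of% (@_root_.Matrix.vecEmpty.{0}) →
    type_of% (@_root_.Nat.succ) →
    type_of% (@_root_.Nat.sub) →
    type_of% (@_root_.Nat.shiftLeft) →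
    type_of% (@_root_.Nat.beq) → T) : T :=
  f (@_root_.Prod.mk.{0, 0}) (@_root_.List.cons.{0} (Prod Nat (Prod Nat (Fin 10)))) (@_root_.List.cons.{0}) (@_root_.List.cons.{0} (Int)) (@_root_.List.cons.{0} (Fin 8)) (@_root_.Matrix.vecCons.{0}) (@_root_.List.nil.{0}) (@_root_.Nat.add) (@_root_.Nat.mul) (@_root_.Nat.ble) (@_root_.Matrix.vecEmpty.{0}) (@_root_.Nat.succ) (@_root_.Nat.sub) (@_root_.Nat.shiftLeft) (@_root_.Nat.beq)

-- part: H796/BR/MLink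
section
/-!
# The dual permutation characters: the kernel `(-1/q)^l` on the residues (helper796)

`G` acts strongly transitively on the finite building `Δ` with all parameters `q`, `Km` is the kernel
`(-1/q)^l(δ(c,d))` on the `J`-residues.

* `Km_panel` : `∑ (δ x y = s_j) Km c y = - Km c x`, `j ∈ J`;
* `Km_sum` : `Kop Km` is the scalar `ρ` on the functions with sum zero on all the panels of type in `J`;
* `Km_link` : `∑ K ⊆ J, (-1)^|K| [1_{P_K}^G, χ] ≠ 0` implies `Lc χ (Km o ·) ≠ 0`;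
* `int_of_conv` : if `Lc χ a` is not zero and has rational values (`a` rational) then `χ` is integer valued.
-/

set_option autoImplicit false
set_option linter.unusedSectionVars false

open Cfsg
open scoped ComplexConjugate

namespace Cfsg.Agent.H796.BR

open CoxeterSystem Cfsg.Agent.Tits.Core Cfsg.Agent.Tits.Exchange Cfsg.Agent.H498.RP
open Cfsg.Agent.Characters.Core Cfsg.Agent.Characters Cfsg.Agent.H167.AltTrace Cfsg.Agent.H167.AltBldg

universe u v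

section Conv

variable {G : Type u} [Group G] [Fintype G] {C : Type v} [MulAction G C]

/-- the convolutions with two irreducible characters -/
theorem Lc_Lc_ne {χ ψ : G → ℂ} (hχ : IsIrrCharacter G χ) (hψ : IsIrrCharacter G ψ) (hne : ψ ≠ χ) (f : C → ℂ) :
    Lc C χ (Lc C ψ f) = 0 := by
  funext c
  rw [Lc_apply]
  have h1 : ∀ g : G, χ g * Lc C ψ f (g⁻¹ • c) = ∑ k : G, χ g * ψ (g⁻¹ * k) * f (k⁻¹ • c) := by
    intro g
    rw [Lc_apply, Finset.mul_sum]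
    refine Fintype.sum_equiv (Equiv.mulLeft g) _ _ fun h => ?_
    rw [Equiv.coe_mulLeft, inv_mul_cancel_left, mul_inv_rev, mul_smul, mul_assoc]
  rw [Finset.sum_congr rfl fun g _ => h1 g, Finset.sum_comm]
  refine Finset.sum_eq_zero fun k _ => ?_
  rw [← Finset.sum_mul]
  have h2 := H949.SubInv.sum_conj_mul hχ hψ k
  rw [classInner_irr_ne hψ hχ hne, mul_zero, zero_mul, zero_div] at h2
  have h3 : ∑ g : G, χ g * ψ (g⁻¹ * k) = 0 := by
    rw [← h2]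
    refine Fintype.sum_equiv (Equiv.inv G) _ _ fun g => ?_
    rw [Equiv.inv_apply, ← isCharacter_apply_inv (isIrr_isCharacter hχ), inv_inv]
    congr 1
    have h7 := isIrr_isClassFunction hψ (k * g⁻¹) (g⁻¹)
    rw [← h7]
    congr 1
    group
  rw [h3, zero_mul]

/-- **An irreducible character with a rational nonzero convolution is integer valued.** -/
theorem int_of_conv {χ : G → ℂ} (hχ : IsIrrCharacter G χ) {a : C → ℂ} (ha : ∀ c, ∃ z : ℚ, a c = z)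
    (h1 : Lc C χ a ≠ 0) (h2 : ∀ c, ∃ z : ℚ, Lc C χ a c = z) (g : G) : ∃ k : ℤ, χ g = k := by
  classical
  refine GaloisBasic.exists_int_of_rat (isIrr_isCharacter hχ) g ?_
  refine GaloisBasic.exists_rat_of_forall_ringEquiv (GaloisBasic.isIntegral_apply (isIrr_isCharacter hχ) g).tower_top
    fun σ => ?_
  set! ψ : G → ℂ := fun g => σ (χ g) with hψdef
  have hψ : IsIrrCharacter G ψ := GaloisIrr.isIrr_map σ hχ
  by_contra hne
  have hne' : ψ ≠ χ := fun h => hne (congrFun h g)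
  have h3 : Lc C ψ a = Lc C χ a := by
    funext c
    obtain ⟨z, hz⟩ := h2 c
    rw [hz]
    have h4 : Lc C ψ a c = σ (Lc C χ a c) := by
      rw [Lc_apply, Lc_apply, map_sum]
      refine Finset.sum_congr rfl fun g _ => ?_
      obtain ⟨y, hy⟩ := ha (g⁻¹ • c)
      rw [map_mul, hy, map_ratCast]
    rw [h4, hz, map_ratCast]
  have h4 := Lc_Lc_ne hχ hψ hne' a
  rw [h3, Lc_Lc hχ] at h4
  have h5 : (Nat.card G : ℂ) / χ 1 ≠ 0 :=
    div_ne_zero (by exact_mod_cast Nat.card_pos.ne') (isIrr_apply_one_ne_zero hχ)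
  exact h1 ((smul_eq_zero.1 h4).resolve_left h5)

/-- `Lc` commutes with the action -/
theorem Lc_perm {χ : G → ℂ} (hχ : IsClassFunction G χ) (f : C → ℂ) (h : G) (c : C) :
    Lc C χ (fun x => f (h⁻¹ • x)) c = Lc C χ f (h⁻¹ • c) := by
  rw [Lc_apply, Lc_apply]
  refine Fintype.sum_equiv (MulAut.conj h⁻¹).toEquiv _ _ fun g => ?_
  show χ g * f (h⁻¹ • g⁻¹ • c) = χ (h⁻¹ * g * h⁻¹⁻¹) * f ((h⁻¹ * g * h⁻¹⁻¹)⁻¹ • h⁻¹ • c)
  rw [hχ g h⁻¹]
  congr 2
  rw [← mul_smul, ← mul_smul]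
  congr 1
  group

theorem Lc_permRep (χ : G → ℂ) (f : C → ℂ) : Lc C χ f = ∑ g : G, χ g • permRep ℂ G C g f := by
  funext c
  rw [Lc_apply, Finset.sum_apply]
  rfl

end Conv

section Km

variable {I : Type*} [Fintype I] [DecidableEq I] {M : CoxeterMatrix I} {W : Type*} [Group W] {cs : CoxeterSystem M W}
  {C : Type v} [Fintype C] (Δ : Bldg cs C) (q : ℕ)

open Classical in
/-- the kernel -/
noncomputable def Km (J : Set I) (c d : C) : ℂ :=
  if Δ.δ c d ∈ WJ cs J then (-(q : ℂ)⁻¹) ^ cs.length (Δ.δ c d) else 0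

theorem Km_symm (J : Set I) (c d : C) : Km Δ q J c d = Km Δ q J d c := by
  unfold Km
  rw [Δ.symm c d, cs.length_inv, inv_mem_iff]

theorem Km_rat (J : Set I) (c d : C) : ∃ z : ℚ, Km Δ q J c d = z := by
  unfold Km
  split_ifs
  · exact ⟨(-(q : ℚ)⁻¹) ^ cs.length (Δ.δ c d), by push_cast; rfl⟩
  · exact ⟨0, by push_cast; rfl⟩

variable {q}

open Classical in
/-- the sums over the panels -/
theorem Km_panel (hq : ∀ x i, Nat.card {y // Δ.δ x y = cs.simple i} = q) {J : Set I} {j : I} (hj : j ∈ J) (c x : C) :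
    ∑ y ∈ Finset.univ.filter (fun y => Δ.δ x y = cs.simple j), Km Δ q J c y = - Km Δ q J c x := by
  have hq0 : (q : ℂ) ≠ 0 := by
    obtain ⟨y, hy, -⟩ := Δ.exists_step x x j
    have h1 : 0 < q := by
      rw [← hq x j, Nat.card_pos_iff]
      exact ⟨⟨y, hy⟩, inferInstance⟩
    exact_mod_cast h1.ne'
  have h1 := sum_step Δ (q := fun _ => q) hq
    (fun w => if w ∈ WJ cs J then (-(q : ℂ)⁻¹) ^ cs.length w else 0) c x j
  unfold Km
  rw [h1]
  have h2 : Δ.δ c x * cs.simple j ∈ WJ cs J ↔ Δ.δ c x ∈ WJ cs J :=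
    Subgroup.mul_mem_cancel_right _ (simple_mem_WJ cs hj)
  rcases cs.length_mul_simple (Δ.δ c x) j with hl | hl
  · rw [if_neg (by omega), hl]
    by_cases hw : Δ.δ c x ∈ WJ cs J
    · rw [if_pos (h2.2 hw), if_pos hw, pow_succ]
      field_simp
    · rw [if_neg (fun h => hw (h2.1 h)), if_neg hw, mul_zero, neg_zero]
  · rw [if_pos (by omega)]
    by_cases hw : Δ.δ c x ∈ WJ cs J
    · rw [if_pos (h2.2 hw), if_pos hw, ← hl, pow_succ]
      field_simp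
      ring
    · rw [if_neg (fun h => hw (h2.1 h)), if_neg hw, mul_zero, neg_zero, zero_add]

open Classical in
/-- the sums over the spheres -/
theorem sum_sphere {J : Set I} {f : C → ℂ}
    (hf : ∀ j ∈ J, ∀ x, ∑ y ∈ Finset.univ.filter (fun y => Δ.δ x y = cs.simple j), f y = - f x) :
    ∀ {w : W}, w ∈ WJ cs J → ∀ c, ∑ d ∈ Finset.univ.filter (fun d => Δ.δ c d = w), f d =
      (-1 : ℂ) ^ cs.length w * f c := by
  intro w hw c
  induction hn : cs.length w using Nat.strong_induction_on generalizing w c with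
  | _ n ih =>
  by_cases h0 : w = 1
  · subst h0
    rw [cs.length_one] at hn
    rw [← hn, pow_zero, one_mul]
    have h1 : Finset.univ.filter (fun d => Δ.δ c d = 1) = {c} := by
      ext d
      rw [Finset.mem_filter, Finset.mem_singleton, Δ.eq_one]
      exact ⟨fun h => h.2.symm, fun h => ⟨Finset.mem_univ _, h.symm⟩⟩
    rw [h1, Finset.sum_singleton]
  · obtain ⟨j, hj, hlt⟩ : ∃ j ∈ J, cs.length (w * cs.simple j) < cs.length w := by
      by_contra hcon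
      push Not at hcon
      have h1 : IsMinR cs J w := by
        rw [isMinR_iff]
        intro i hi
        have h2 := hcon i hi
        rcases cs.length_mul_simple w i with h3 | h3 <;> omega
      have h2 := h1 w⁻¹ (inv_mem hw)
      rw [mul_inv_cancel, cs.length_one, cs.length_inv] at h2
      exact h0 (cs.length_eq_zero_iff.1 (by omega))
    set w' := w * cs.simple j with hw'
    have hw1 : w = w' * cs.simple j := by rw [hw', mul_assoc, cs.simple_mul_simple_self, mul_one]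
    have hl : cs.length w' + 1 = cs.length w := by
      rcases cs.length_mul_simple w j with h3 | h3
      · rw [← hw'] at h3; omega
      · rw [← hw'] at h3; omega
    have hmem : w' ∈ WJ cs J := mul_mem hw (simple_mem_WJ cs hj)
    have h1 := ih (cs.length w') (by omega) hmem c rfl
    have h2 : ∑ e ∈ Finset.univ.filter (fun e => Δ.δ c e = w'), f e =
        - ∑ e ∈ Finset.univ.filter (fun e => Δ.δ c e = w'),
          ∑ d ∈ Finset.univ.filter (fun d => Δ.δ e d = cs.simple j), f d := by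
      rw [← Finset.sum_neg_distrib]
      refine Finset.sum_congr rfl fun e _ => ?_
      rw [hf j hj e, neg_neg]
    have h3 : ∑ e ∈ Finset.univ.filter (fun e => Δ.δ c e = w'),
          ∑ d ∈ Finset.univ.filter (fun d => Δ.δ e d = cs.simple j), f d =
        ∑ d ∈ Finset.univ.filter (fun d => Δ.δ c d = w), f d := by
      rw [Finset.sum_filter]
      have h4 : ∀ e : C, (if Δ.δ c e = w' then
          ∑ d ∈ Finset.univ.filter (fun d => Δ.δ e d = cs.simple j), f d else 0) =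
          ∑ d : C, if Δ.δ c e = w' ∧ Δ.δ e d = cs.simple j then f d else 0 := by
        intro e
        by_cases he : Δ.δ c e = w'
        · rw [if_pos he, Finset.sum_filter]
          exact Finset.sum_congr rfl fun d _ => by simp only [he, true_and]
        · rw [if_neg he]
          symm
          refine Finset.sum_eq_zero fun d _ => ?_
          rw [if_neg fun h => he h.1]
      rw [Finset.sum_congr rfl fun e _ => h4 e, Finset.sum_comm, Finset.sum_filter]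
      refine Finset.sum_congr rfl fun d _ => ?_
      by_cases hd : Δ.δ c d = w
      · rw [if_pos hd]
        obtain ⟨y, hy1, hy2⟩ := Δ.exists_step c d j
        rw [hd, ← hw'] at hy2
        rw [Finset.sum_eq_single y]
        · rw [if_pos ⟨hy2, by rw [Δ.symm d y, hy1, cs.inv_simple]⟩]
        · intro e _ hey
          rw [if_neg]
          rintro ⟨he1, he2⟩
          have h5 : e ∈ Δ.Pan j y :=
            Δ.mem_Pan_trans (Δ.mem_Pan_symm (Δ.mem_Pan_of_δ hy1)) (Δ.mem_Pan_symm (Δ.mem_Pan_of_δ he2))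
          have h6 : Δ.δ y e = cs.simple j := h5.resolve_left hey
          have h7 := Δ.step_lt c y e j h6 (by rw [hy2, ← hw1]; omega)
          rw [he1, hy2, ← hw1] at h7
          rw [h7] at hl
          omega
        · intro h5
          exact absurd (Finset.mem_univ _) h5
      · rw [if_neg hd]
        refine Finset.sum_eq_zero fun e _ => ?_
        rw [if_neg]
        rintro ⟨he1, he2⟩
        apply hd
        rw [Δ.step_lt c e d j he2 (by rw [he1, ← hw1]; omega), he1, ← hw1]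
    rw [h2, h3] at h1
    rw [← hn, ← hl, pow_succ, mul_assoc, neg_one_mul, mul_neg, ← h1, neg_neg]

variable [Fintype W]

open Classical in
/-- the scalar -/
noncomputable def rhoJ (cs : CoxeterSystem M W) (q : ℕ) (J : Set I) : ℂ :=
  ∑ w ∈ Finset.univ.filter (fun w => w ∈ WJ cs J), ((q : ℂ)⁻¹) ^ cs.length w

theorem rhoJ_ne (cs : CoxeterSystem M W) (q : ℕ) (J : Set I) : rhoJ cs q J ≠ 0 := by
  classical
  have h1 : rhoJ cs q J = ((∑ w ∈ Finset.univ.filter (fun w => w ∈ WJ cs J), ((q : ℝ)⁻¹) ^ cs.length w : ℝ) : ℂ) := by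
    unfold rhoJ
    push_cast
    rfl
  rw [h1]
  have h2 : 0 < ∑ w ∈ Finset.univ.filter (fun w => w ∈ WJ cs J), ((q : ℝ)⁻¹) ^ cs.length w := by
    have h3 : (1 : W) ∈ Finset.univ.filter (fun w => w ∈ WJ cs J) :=
      Finset.mem_filter.2 ⟨Finset.mem_univ _, one_mem _⟩
    refine Finset.sum_pos' (fun w _ => by positivity) ⟨1, h3, ?_⟩
    rw [cs.length_one, pow_zero]
    exact one_pos
  exact_mod_cast h2.ne'

open Classical in
/-- **The kernel is a scalar on the functions with sum zero on the panels.** -/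
theorem Km_sum {J : Set I} {f : C → ℂ}
    (hf : ∀ j ∈ J, ∀ x, ∑ y ∈ Finset.univ.filter (fun y => Δ.δ x y = cs.simple j), f y = - f x) :
    Kop (Km Δ q J) f = rhoJ cs q J • f := by
  funext c
  rw [Kop_apply, Pi.smul_apply, smul_eq_mul]
  unfold Km rhoJ
  have h1 : ∀ d : C, (if Δ.δ c d ∈ WJ cs J then (-(q : ℂ)⁻¹) ^ cs.length (Δ.δ c d) else 0) * f d =
      ∑ w ∈ Finset.univ.filter (fun w => w ∈ WJ cs J), if Δ.δ c d = w then (-(q : ℂ)⁻¹) ^ cs.length w * f d else 0 := by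
    intro d
    rw [Finset.sum_ite_eq]
    by_cases hd : Δ.δ c d ∈ WJ cs J
    · rw [if_pos hd, if_pos (Finset.mem_filter.2 ⟨Finset.mem_univ _, hd⟩)]
    · rw [if_neg hd, if_neg (fun h => hd (Finset.mem_filter.1 h).2), zero_mul]
  rw [Finset.sum_congr rfl fun d _ => h1 d, Finset.sum_comm, Finset.sum_mul]
  refine Finset.sum_congr rfl fun w hw => ?_
  rw [← Finset.sum_filter, ← Finset.mul_sum, sum_sphere Δ hf (Finset.mem_filter.1 hw).2 c, ← mul_assoc, ← mul_pow]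
  congr 2
  ring

end Km

end Cfsg.Agent.H796.BR
end

-- part: H796/BR/MLinkB
section
/-!
# The dual permutation characters: the alternating sum (helper796)

* `Km_link` : `G` acts strongly transitively on the finite building `Δ` with all parameters `q`; `P K` is the stabilizer
  of the `K`-residue of `o`, `K ⊆ J`. If `∑ K ⊆ J, (-1)^|K| [1_{P_K}^G, χ] ≠ 0` then `Lc χ (Km o ·) ≠ 0`.
-/

set_option autoImplicit false
set_option linter.unusedSectionVars false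

open Cfsg
open scoped ComplexConjugate

namespace Cfsg.Agent.H796.BR

open CoxeterSystem Cfsg.Agent.Tits.Core Cfsg.Agent.Tits.Exchange Cfsg.Agent.H498.RP
open Cfsg.Agent.Characters.Core Cfsg.Agent.Characters Cfsg.Agent.H167.AltTrace Cfsg.Agent.H167.AltBldg

universe u v

/-- the sum of a class function times a permutation character -/
theorem sum_mul_fix {G : Type u} [Group G] [Fintype G] (H : Subgroup G) [Fintype H] {χ : G → ℂ}
    (hχ : IsIrrCharacter G χ) :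
    ∑ g : G, χ g * fixedPointCharacter H g = (Nat.card G : ℂ) * ((Nat.card H : ℂ)⁻¹ * ∑ h : H, χ h) := by
  have h1 := H139.RealB0.Crit.classInner_fixedPointCharacter H (⟨χ, hχ⟩ : IrrCharacter G)
  rw [classInner_def] at h1
  have h2 := congrArg (starRingEnd ℂ) h1
  have h0 : (Nat.card G : ℂ) ≠ 0 := by exact_mod_cast Nat.card_pos.ne'
  have h3 : ∀ g : G, conj (fixedPointCharacter H g) = fixedPointCharacter H g := by
    intro g
    unfold fixedPointCharacter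
    exact Complex.conj_natCast _
  simp only [map_mul, map_inv₀, map_natCast, map_sum, Complex.conj_conj, h3] at h2
  rw [← h2, ← mul_assoc, mul_inv_cancel₀ h0, one_mul]
  exact Finset.sum_congr rfl fun g _ => mul_comm _ _

section

variable {I : Type*} [Fintype I] [DecidableEq I] {M : CoxeterMatrix I} {W : Type*} [Group W] {cs : CoxeterSystem M W}
  {C : Type v} [Fintype C] (Δ : Bldg cs C)

open Classical in
/-- the sum over a panel -/
theorem sum_pan (f : C → ℂ) (j : I) (x : C) : ∑ y, (if Δ.δ x y ∈ WJ cs {j} then f y else 0) =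
    f x + ∑ y ∈ Finset.univ.filter (fun y => Δ.δ x y = cs.simple j), f y := by
  have h1 : ∀ y, Δ.δ x y ∈ WJ cs {j} ↔ y = x ∨ Δ.δ x y = cs.simple j := by
    intro y
    have h2 : y ∈ Δ.Pan j x ↔ y ∈ Δ.Res {j} x := by rw [Δ.Pan_eq_Res]
    exact h2.symm
  have h3 : ∀ y, (if Δ.δ x y ∈ WJ cs {j} then f y else 0) =
      (if y = x then f y else 0) + if Δ.δ x y = cs.simple j then f y else 0 := by
    intro y
    by_cases hy : y = x
    · have h4 : Δ.δ x y ≠ cs.simple j := by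
        rw [hy, (Δ.eq_one x x).2 rfl]
        intro h5
        have h6 := cs.length_simple j
        rw [← h5, cs.length_one] at h6
        omega
      rw [if_pos ((h1 y).2 (Or.inl hy)), if_pos hy, if_neg h4, add_zero]
    · by_cases h4 : Δ.δ x y = cs.simple j
      · rw [if_pos ((h1 y).2 (Or.inr h4)), if_neg hy, if_pos h4, zero_add]
      · rw [if_neg fun h5 => ((h1 y).1 h5).elim hy h4, if_neg hy, if_neg h4, zero_add]
  rw [Finset.sum_congr rfl fun y _ => h3 y, Finset.sum_add_distrib, Finset.sum_ite_eq', if_pos (Finset.mem_univ x),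
    Finset.sum_filter]

/-- the system of the residues of type `⊆ J` -/
noncomputable def jSys (J : Finset I) (c : C) : Sys C J :=
  resSys Δ J (fun x => x) (fun _ _ h => h) (fun _ y _ => ⟨y, rfl⟩) c

theorem r_jSys (J : Finset I) (c : C) (K : Finset I) (x y : C) : (jSys Δ J c).r K x y ↔ Δ.δ x y ∈ WJ cs (K : Set I) :=
  Iff.rfl

theorem mem_N_jSys (J : Finset I) (c x : C) (i : I) :
    i ∈ (jSys Δ J c).N x ↔ i ∈ J ∧ cs.length (Δ.δ c x) < cs.length (Δ.δ c x * cs.simple i) := by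
  classical
  unfold jSys resSys
  simp

open Classical in
theorem mem_harm_jSys (J : Finset I) (c : C) (f : C → ℂ) : f ∈ (jSys Δ J c).harm ↔
    ∀ j ∈ J, ∀ x, ∑ y ∈ Finset.univ.filter (fun y => Δ.δ x y = cs.simple j), f y = - f x := by
  rw [Sys.mem_harm]
  refine forall_congr' fun j => forall_congr' fun _ => forall_congr' fun x => ?_
  have h1 : ∑ y, (if (jSys Δ J c).r {j} x y then f y else 0) =
      f x + ∑ y ∈ Finset.univ.filter (fun y => Δ.δ x y = cs.simple j), f y := by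
    rw [← sum_pan]
    refine Finset.sum_congr rfl fun y _ => ?_
    simp only [r_jSys, Finset.coe_singleton]
  rw [h1]
  constructor
  · intro h
    linear_combination h
  · intro h
    linear_combination h

variable {G : Type u} [Group G] [Fintype G] [MulAction G C]
  (hiso : ∀ (g : G) (x y : C), Δ.δ (g • x) (g • y) = Δ.δ x y)
  (htr : ∀ x y x' y' : C, Δ.δ x y = Δ.δ x' y' → ∃ g : G, g • x = x' ∧ g • y = y')

include hiso htr in
/-- **From the alternating sum to the kernel.** -/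
theorem Km_link [Fintype W] {q : ℕ} (o : C) (J : Finset I) (P : Finset I → Subgroup G)
    [∀ K, Fintype (P K)]
    (hP : ∀ K, K ⊆ J → ∀ g : G, g ∈ P K ↔ Δ.δ o (g • o) ∈ WJ cs (K : Set I)) {χ : G → ℂ} (hχ : IsIrrCharacter G χ)
    (h0 : ∑ K ∈ J.powerset, (-1 : ℂ) ^ K.card * ((Nat.card (P K) : ℂ)⁻¹ * ∑ g : P K, χ g) ≠ 0) :
    Lc C χ (Km Δ q J o) ≠ 0 := by
  classical
  have : Nonempty C := ⟨o⟩
  have hcl := isIrr_isClassFunction hχ
  have htr1 : ∀ x y : C, ∃ g : G, g • x = y := by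
    intro x y
    obtain ⟨g, hg, -⟩ := htr x x y y (by rw [(Δ.eq_one x x).2 rfl, (Δ.eq_one y y).2 rfl])
    exact ⟨g, hg⟩
  set! S := jSys Δ J o with hS
  have hr : ∀ K, K ⊆ J → ∀ (g : G) (x y : C), S.r K x y → S.r K (g • x) (g • y) := by
    intro K _ g x y h
    rw [hS, r_jSys] at h ⊢
    rwa [hiso]
  -- the trace on the functions with sum zero on the panels
  have htrace : ∀ g : G, LinearMap.trace ℂ S.harm ((permRep ℂ G C g).restrict (S.smul_mem_harm hr g)) =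
      ∑ K ∈ J.powerset, (-1 : ℂ) ^ K.card * fixedPointCharacter (P K) g := by
    intro g
    rw [S.trace_harm hr g]
    refine Finset.sum_congr rfl fun K hK => ?_
    rw [Finset.mem_powerset] at hK
    congr 1
    have h1 := card_fixed Δ hiso o htr1 K (P K) (hP K hK) g
    unfold fixedPointCharacter
    rw [← h1]
    congr 1
    refine Nat.card_congr (Equiv.subtypeEquivRight fun x => ?_)
    rw [hS, r_jSys]
    have h2 : K ⊆ (jSys Δ J o).N x ↔ K ⊆ (bSys Δ o).N x := by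
      constructor
      · intro h i hi
        exact (mem_N_bSys Δ o x i).2 ((mem_N_jSys Δ J o x i).1 (h hi)).2
      · intro h i hi
        exact (mem_N_jSys Δ J o x i).2 ⟨hK hi, (mem_N_bSys Δ o x i).1 (h hi)⟩
    rw [h2]
  by_contra hcon
  -- `Lc χ` vanishes on the kernel functions
  have h1 : ∀ d : C, Lc C χ (Km Δ q J d) = 0 := by
    intro d
    obtain ⟨g, hg⟩ := htr1 o d
    have h2 : Km Δ q J d = fun x => Km Δ q J o (g⁻¹ • x) := by
      funext x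
      unfold Km
      have h3 : Δ.δ d x = Δ.δ o (g⁻¹ • x) := by rw [← hg, ← hiso g o (g⁻¹ • x), smul_inv_smul]
      rw [h3]
    rw [h2]
    funext x
    rw [Lc_perm hcl, hcon]
    rfl
  -- hence on all functions with sum zero on the panels
  have h2 : ∀ f ∈ S.harm, Lc C χ f = 0 := by
    intro f hf
    have h3 := Km_sum Δ (q := q) (J := (J : Set I)) (f := f) (fun j hj x =>
      (mem_harm_jSys Δ J o f).1 hf j (Finset.mem_coe.1 hj) x)
    have h4 : Kop (Km Δ q J) f = ∑ d : C, f d • Km Δ q J d := by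
      funext c
      rw [Kop_apply, Finset.sum_apply]
      refine Finset.sum_congr rfl fun d _ => ?_
      rw [Pi.smul_apply, smul_eq_mul, Km_symm, mul_comm]
    have h5 : Lc C χ (rhoJ cs q J • f) = 0 := by
      rw [← h3, h4, map_sum]
      refine Finset.sum_eq_zero fun d _ => ?_
      rw [map_smul, h1, smul_zero]
    rw [map_smul] at h5
    exact (smul_eq_zero.1 h5).resolve_left (rhoJ_ne cs q J)
  -- hence the trace is zero
  apply h0
  have h3 : ∑ g : G, χ g * LinearMap.trace ℂ S.harm ((permRep ℂ G C g).restrict (S.smul_mem_harm hr g)) = 0 := by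
    have h4 : ∑ g : G, χ g • (permRep ℂ G C g).restrict (S.smul_mem_harm hr g) = 0 := by
      apply LinearMap.ext
      intro f
      apply Subtype.ext
      rw [LinearMap.sum_apply, Submodule.coe_sum]
      have h5 := h2 f.1 f.2
      rw [Lc_permRep] at h5
      rw [LinearMap.zero_apply, Submodule.coe_zero, ← h5]
      rfl
    have h6 := congrArg (LinearMap.trace ℂ S.harm) h4
    rw [map_sum, map_zero] at h6
    rw [← h6]
    refine Finset.sum_congr rfl fun g _ => ?_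
    rw [map_smul, smul_eq_mul]
  have h4 : (Nat.card G : ℂ) * ∑ K ∈ J.powerset, (-1 : ℂ) ^ K.card * ((Nat.card (P K) : ℂ)⁻¹ * ∑ g : P K, χ g) = 0 := by
    rw [← h3, Finset.mul_sum]
    have h5 : ∀ g : G, χ g * LinearMap.trace ℂ S.harm ((permRep ℂ G C g).restrict (S.smul_mem_harm hr g)) =
        ∑ K ∈ J.powerset, (-1 : ℂ) ^ K.card * (χ g * fixedPointCharacter (P K) g) := by
      intro g
      rw [htrace, Finset.mul_sum]
      exact Finset.sum_congr rfl fun K _ => by ring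
    rw [Finset.sum_congr rfl fun g _ => h5 g, Finset.sum_comm]
    refine Finset.sum_congr rfl fun K _ => ?_
    rw [← Finset.mul_sum, sum_mul_fix (P K) hχ]
    ring
  have h5 : (Nat.card G : ℂ) ≠ 0 := by exact_mod_cast Nat.card_pos.ne'
  exact (mul_eq_zero.1 h4).resolve_left h5

end

end Cfsg.Agent.H796.BR
end

-- part: H667/BR/BldM
section
/-!
# The sign-twisted permutation characters on the vertices of a finite building: rationality

The analogue of `Cfsg.Agent.H498.RP.int_of_table` for the constituents of the character induced from the Steinberg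
character of `P_J`: the functions `Φ (lab δ(o,c))` are replaced by `(-1/q)^{l(δ(o,c))} Φ (lab δ(o,c))`, the parameter `q` of
the table by `1/q`.
-/

set_option autoImplicit false
set_option linter.unusedSectionVars false

open Cfsg
open scoped ComplexConjugate

namespace Cfsg.Agent.H667.BR

open CoxeterSystem Cfsg.Agent.Tits.Core Cfsg.Agent.Tits.Exchange Cfsg.Agent.ChevalleyStructure.CoxeterGeom
open Cfsg.Agent.Characters.Core Cfsg.Agent.Characters Cfsg.Agent.H498.RP Cfsg.Agent.H796.BR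

universe u v

section Sg

variable {I : Type*} {M : CoxeterMatrix I} {W : Type*} [Group W] (cs : CoxeterSystem M W) (q : ℕ)

/-- the sign -/
noncomputable def sg (w : W) : ℂ := (-(q : ℂ)⁻¹) ^ cs.length w

variable {q}

theorem sg_ne (hq0 : (q : ℂ) ≠ 0) (w : W) : sg cs q w ≠ 0 := pow_ne_zero _ (neg_ne_zero.2 (inv_ne_zero hq0))

theorem sg_inv (w : W) : sg cs q w⁻¹ = sg cs q w := by rw [sg, cs.length_inv, sg]

theorem sg_up {w : W} {i : I} (hl : cs.length (w * cs.simple i) = cs.length w + 1) :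
    sg cs q (w * cs.simple i) = -(q : ℂ)⁻¹ * sg cs q w := by
  rw [sg, sg, hl, pow_succ, mul_comm]

theorem sg_down (hq0 : (q : ℂ) ≠ 0) {w : W} {i : I} (hl : cs.length (w * cs.simple i) + 1 = cs.length w) :
    sg cs q (w * cs.simple i) = -(q : ℂ) * sg cs q w := by
  rw [sg, sg, ← hl, pow_succ]
  field_simp

end Sg

section Bld

variable {I : Type*} [Fintype I] [DecidableEq I] {A : I → I → ℤ} {i0 : I} {m r : ℕ} (O : Orb A i0 m r)
  {M : CoxeterMatrix I} {W : Type*} [Group W] {cs : CoxeterSystem M W} (h : IsCartan M A)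
  {C : Type v} [Fintype C] (Δ : Bldg cs C) {q : ℕ}
  (hq : ∀ x i, Nat.card {y // Δ.δ x y = cs.simple i} = q)

include hq in
theorem q_ne (c : C) (i : I) : (q : ℂ) ≠ 0 := by
  obtain ⟨y, hy, -⟩ := Δ.exists_step c c i
  have : Nonempty {y // Δ.δ c y = cs.simple i} := ⟨⟨y, hy⟩⟩
  rw [← hq c i]
  have h1 : 0 < Nat.card {y // Δ.δ c y = cs.simple i} := Nat.card_pos
  exact_mod_cast h1.ne'

open Classical in
include hq in
/-- **The action of `T_i` on signed labels.** -/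
theorem sum_labM (Φ : Fin m → ℂ) (o c : C) (i : I) :
    ∑ d ∈ Finset.univ.filter (fun d => Δ.δ c d = cs.simple i), sg cs q (Δ.δ o d) * Φ (lab O cs h (Δ.δ o d)) =
      -(q : ℂ) * (sg cs q (Δ.δ o c) * Tf O (fun _ => (q : ℂ)⁻¹) i Φ (lab O cs h (Δ.δ o c))) := by
  have hq0 := q_ne Δ hq c i
  rw [sum_step Δ (q := fun _ => q) hq (fun w => sg cs q w * Φ (lab O cs h w)) o c i]
  simp only [lab_mul_simple]
  unfold Tf
  rcases cs.length_mul_simple (Δ.δ o c) i with hl | hl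
  · rw [if_neg (by omega), sg_up cs hl]
    have h1 := pairing_nonneg O cs h (w := Δ.δ o c) (i := i) (by omega)
    rcases h1.eq_or_lt with h2 | h2
    · rw [if_neg (by omega), if_neg (by omega), act_of_zero O h2.symm]
      field_simp
    · rw [if_pos h2]
      field_simp
  · rw [if_pos (by omega), sg_down cs hq0 hl]
    have h1 := pairing_nonpos O cs h (w := Δ.δ o c) (i := i) (by omega)
    rcases h1.eq_or_lt with h2 | h2
    · rw [if_neg (by omega), if_neg (by omega), act_of_zero O h2]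
      field_simp
      ring
    · rw [if_neg (by omega), if_pos h2]
      field_simp
      ring

/-- the signed sum over the residue -/
noncomputable def Rm (q : ℕ) (o c : C) (Φ : Fin m → ℂ) : ℂ :=
  ∑ d, Km Δ q {j | j ≠ i0} c d * (sg cs q (Δ.δ o d) * Φ (lab O cs h (Δ.δ o d)))

include hq in
theorem Rm_Tf (o c : C) (Φ : Fin m → ℂ) {j : I} (hj : j ≠ i0) :
    Rm O h Δ q o c (Tf O (fun _ => (q : ℂ)⁻¹) j Φ) = (q : ℂ)⁻¹ * Rm O h Δ q o c Φ := by
  classical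
  have hq0 := q_ne Δ hq c j
  have key : -(q : ℂ) * Rm O h Δ q o c (Tf O (fun _ => (q : ℂ)⁻¹) j Φ) = - Rm O h Δ q o c Φ := by
    unfold Rm
    rw [Finset.mul_sum]
    have h1 : ∀ d : C, -(q : ℂ) * (Km Δ q {j | j ≠ i0} c d * (sg cs q (Δ.δ o d) *
        Tf O (fun _ => (q : ℂ)⁻¹) j Φ (lab O cs h (Δ.δ o d)))) =
        ∑ e : C, if Δ.δ d e = cs.simple j then
          Km Δ q {j | j ≠ i0} c d * (sg cs q (Δ.δ o e) * Φ (lab O cs h (Δ.δ o e))) else 0 := by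
      intro d
      have h2 := sum_labM O h Δ hq Φ o d j
      rw [← Finset.sum_filter, ← Finset.mul_sum, h2]
      ring
    rw [Finset.sum_congr rfl fun d _ => h1 d, Finset.sum_comm, ← Finset.sum_neg_distrib]
    refine Finset.sum_congr rfl fun e _ => ?_
    have h3 := Km_panel Δ hq (J := {j | j ≠ i0}) hj c e
    rw [← Finset.sum_filter, ← Finset.sum_mul, ← neg_mul, ← h3]
    congr 1
    refine Finset.sum_congr ?_ fun _ _ => rfl
    ext d
    simp only [Finset.mem_filter, Finset.mem_univ, true_and]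
    exact ⟨fun h6 => Δ.δ_symm_simple h6, fun h6 => Δ.δ_symm_simple h6⟩
  rw [eq_inv_mul_iff_mul_eq₀ hq0]
  linear_combination -key

/-- the weight of a label in a residue -/
noncomputable def Nm (q : ℕ) (o c : C) (b : Fin m) : ℂ := Rm O h Δ q o c (Pi.single b 1)

theorem Rm_eq (o c : C) (Φ : Fin m → ℂ) : Rm O h Δ q o c Φ = ∑ b, Nm O h Δ q o c b * Φ b := by
  classical
  unfold Nm Rm
  simp only [Finset.sum_mul]
  rw [Finset.sum_comm]
  refine Finset.sum_congr rfl fun d _ => ?_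
  rw [Finset.sum_eq_single (lab O cs h (Δ.δ o d))]
  · rw [Pi.single_eq_same, mul_one, mul_assoc]
  · intro b _ hb
    rw [Pi.single_eq_of_ne hb.symm, mul_zero, mul_zero, zero_mul]
  · intro h1
    exact absurd (Finset.mem_univ _) h1

include hq in
theorem Nm_act (o c : C) {j : I} (hj : j ≠ i0) {b : Fin m} (hb : 0 < pairing A j (O.vec b)) :
    Nm O h Δ q o c (O.act j b) = (q : ℂ)⁻¹ * Nm O h Δ q o c b := by
  unfold Nm
  rw [← Rm_Tf O h Δ hq o c _ hj, Tf_single O h _ hb]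

include hq in
/-- **The distribution of the labels in a residue.** -/
theorem Nm_eq {wt : Fin m → ℂ} (hw1 : ∀ k, wt (O.base k) = 1)
    (hw2 : ∀ j, j ≠ i0 → ∀ b, 0 < pairing A j (O.vec b) → wt (O.act j b) = (q : ℂ)⁻¹ * wt b) (o c : C) (b : Fin m) :
    Nm O h Δ q o c b = wt b * Nm O h Δ q o c (O.base (O.lv b)) := by
  induction hn : O.dp b using Nat.strong_induction_on generalizing b with
  | _ n ih =>
    rcases O.down b with h1 | ⟨j, hj, h2, h3⟩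
    · have h4 := hw1 (O.lv b)
      rw [← h1] at h4
      rw [h4, one_mul, ← h1]
    · have hp : 0 < pairing A j (O.vec (O.act j b)) := by
        rw [pairing_act O h]
        omega
      have h4 := Nm_act O h Δ hq o c hj hp
      have h5 := hw2 j hj _ hp
      rw [act_act O h] at h4 h5
      rw [h4, h5, ih (O.dp (O.act j b)) (by omega) _ rfl, lv_act O hj, mul_assoc]

theorem Nm_zero (o c : C) {b : Fin m} (hb : O.lv b ≠ O.lv (lab O cs h (Δ.δ o c))) : Nm O h Δ q o c b = 0 := by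
  classical
  unfold Nm Rm
  refine Finset.sum_eq_zero fun d _ => ?_
  by_cases h1 : Δ.δ c d ∈ WJ cs {j | j ≠ i0}
  · obtain ⟨t, ht, h2⟩ := Δ.exists_mul_of_mem o h1
    rw [Pi.single_eq_of_ne, mul_zero, mul_zero]
    rintro h3
    apply hb
    rw [← h3, h2]
    exact lv_mul_WJ O cs h ht _
  · rw [Km, if_neg h1, zero_mul]

include hq in
/-- **The signed sum over a residue is the weighted sum over the level.** -/
theorem Rm_lsum {wt : Fin m → ℂ} (hw1 : ∀ k, wt (O.base k) = 1)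
    (hw2 : ∀ j, j ≠ i0 → ∀ b, 0 < pairing A j (O.vec b) → wt (O.act j b) = (q : ℂ)⁻¹ * wt b) (o c : C)
    (Φ : Fin m → ℂ) : Rm O h Δ q o c Φ =
      Nm O h Δ q o c (O.base (O.lv (lab O cs h (Δ.δ o c)))) * lsum O wt Φ (O.lv (lab O cs h (Δ.δ o c))) := by
  rw [Rm_eq]
  unfold lsum
  rw [Finset.mul_sum]
  refine Finset.sum_congr rfl fun b _ => ?_
  by_cases hb : O.lv b = O.lv (lab O cs h (Δ.δ o c))
  · rw [if_pos hb, Nm_eq O h Δ hq hw1 hw2, hb]
    ring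
  · rw [if_neg hb, Nm_zero O h Δ o c hb, zero_mul, mul_zero]

/-- `T_j` on the functions of the level -/
theorem Tf_lv {F : Type*} [Field F] (t : F) {j : I} (hj : j ≠ i0) (φ : Fin r → F) (b : Fin m) :
    Tf O (fun _ => t) j (fun b => φ (O.lv b)) b = t * φ (O.lv b) := by
  have e := lv_act O hj b
  unfold Tf
  simp only [e]
  split_ifs <;> ring

open Classical in
include hq in
/-- the signed functions of the level have sum zero on the panels -/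
theorem sum_lvM (φ : Fin r → ℂ) (o c : C) {j : I} (hj : j ≠ i0) :
    ∑ d ∈ Finset.univ.filter (fun d => Δ.δ c d = cs.simple j), sg cs q (Δ.δ o d) * φ (lvl O h Δ o d) =
      -(sg cs q (Δ.δ o c) * φ (lvl O h Δ o c)) := by
  have hq0 := q_ne Δ hq c j
  have h1 := sum_labM O h Δ hq (fun b => φ (O.lv b)) o c j
  rw [Tf_lv O _ hj] at h1
  unfold lvl
  rw [h1]
  field_simp

variable [Fintype W]

include hq in
theorem Rm_one (o c : C) : Rm O h Δ q o c (fun _ => 1) = rhoJ cs q {j | j ≠ i0} * sg cs q (Δ.δ o c) := by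
  classical
  have h1 := Km_sum Δ (q := q) (J := {j | j ≠ i0}) (f := fun d => sg cs q (Δ.δ o d)) (by
    intro j hj x
    have h2 := sum_lvM O h Δ hq (fun _ => 1) o x (j := j) hj
    simpa only [mul_one] using h2)
  have h3 := congrFun h1 c
  rw [Kop_apply, Pi.smul_apply, smul_eq_mul] at h3
  rw [← h3, Rm]
  simp only [mul_one]

include hq in
theorem Rm_one_ne (o c : C) : Rm O h Δ q o c (fun _ => 1) ≠ 0 := by
  rw [Rm_one O h Δ hq]
  exact mul_ne_zero (rhoJ_ne _ _ _) (sg_ne cs (q_ne Δ hq c i0) _)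

include hq in
/-- the mean over a residue -/
theorem Rm_div {wt : Fin m → ℂ} (hw1 : ∀ k, wt (O.base k) = 1)
    (hw2 : ∀ j, j ≠ i0 → ∀ b, 0 < pairing A j (O.vec b) → wt (O.act j b) = (q : ℂ)⁻¹ * wt b) (o c : C)
    (Φ : Fin m → ℂ) : Rm O h Δ q o c Φ = rhoJ cs q {j | j ≠ i0} * sg cs q (Δ.δ o c) *
      (lsum O wt Φ (O.lv (lab O cs h (Δ.δ o c))) / lsum O wt (fun _ => 1) (O.lv (lab O cs h (Δ.δ o c)))) := by
  have h0 := Rm_one_ne O h Δ hq o c
  rw [← Rm_one O h Δ hq o c, Rm_lsum O h Δ hq hw1 hw2 o c Φ]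
  rw [Rm_lsum O h Δ hq hw1 hw2 o c (fun _ => 1)] at h0 ⊢
  have h1 := right_ne_zero_of_mul h0
  field_simp

end Bld

/-! ### invariant kernels with sum zero on the panels -/

section Factor

variable {I : Type*} [Fintype I] [DecidableEq I] {A : I → I → ℤ} {i0 : I} {m r : ℕ} (O : Orb A i0 m r)
  {M : CoxeterMatrix I} {W : Type*} [Group W] {cs : CoxeterSystem M W} (h : IsCartan M A)
  {C : Type v} [Fintype C] (Δ : Bldg cs C) {q : ℕ}
  (hq : ∀ x i, Nat.card {y // Δ.δ x y = cs.simple i} = q)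
  {G : Type u} [Group G] [Fintype G] [MulAction G C]
  (htr : ∀ x y x' y' : C, Δ.δ x y = Δ.δ x' y' → ∃ g : G, g • x = x' ∧ g • y = y')

open Classical in
include hq in
/-- a function of the distance with sum zero on the `j`-panels -/
theorem val_mul_simple {v : W → ℂ} {j : I} (o : C)
    (hv : ∀ c, ∑ d ∈ Finset.univ.filter (fun d => Δ.δ c d = cs.simple j), v (Δ.δ o d) = - v (Δ.δ o c)) (w : W) :
    v (w * cs.simple j) / sg cs q (w * cs.simple j) = v w / sg cs q w := by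
  have hq0 := q_ne Δ hq o j
  have up : ∀ w : W, cs.length (w * cs.simple j) = cs.length w + 1 →
      v (w * cs.simple j) / sg cs q (w * cs.simple j) = v w / sg cs q w := by
    intro w hl
    obtain ⟨c, hc⟩ := Δ.exists_δ o w
    have h1 := hv c
    rw [sum_step Δ (q := fun _ => q) hq v o c j, hc, if_neg (by omega)] at h1
    have h2 := sg_ne cs hq0 w
    rw [sg_up cs hl, div_eq_div_iff (mul_ne_zero (neg_ne_zero.2 (inv_ne_zero hq0)) h2) h2]
    field_simp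
    linear_combination h1
  rcases cs.length_mul_simple w j with hl | hl
  · exact up w hl
  · have h1 := up (w * cs.simple j) (by rw [mul_assoc, cs.simple_mul_simple_self, mul_one]; omega)
    rw [mul_assoc, cs.simple_mul_simple_self, mul_one] at h1
    exact h1.symm

open Classical in
include h hq htr in
/-- **Invariant kernels.** -/
theorem exists_factorM {f : C → C → ℂ} (hf0 : ∀ (g : G) o c, f (g • o) (g • c) = f o c)
    (hf1 : ∀ j, j ≠ i0 → ∀ o c, ∑ d ∈ Finset.univ.filter (fun d => Δ.δ c d = cs.simple j), f o d = - f o c)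
    (hf2 : ∀ j, j ≠ i0 → ∀ o c, ∑ d ∈ Finset.univ.filter (fun d => Δ.δ o d = cs.simple j), f d c = - f o c) (o : C) :
    ∃ ψ : Fin r → ℂ, ∀ c, f o c = sg cs q (Δ.δ o c) * ψ (lvl O h Δ o c) := by
  have hq0 := q_ne Δ hq o i0
  choose s hs using fun w => Δ.exists_δ o w
  set! v : W → ℂ := fun w => f o (s w) with hvdef
  have hv : ∀ x y, f x y = v (Δ.δ x y) := by
    intro x y
    obtain ⟨g, hg1, hg2⟩ := htr x y o (s (Δ.δ x y)) (hs _).symm
    rw [← hf0 g x y, hg1, hg2]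
  have hR : ∀ j, j ≠ i0 → ∀ w, v (w * cs.simple j) / sg cs q (w * cs.simple j) = v w / sg cs q w := by
    intro j hj w
    refine val_mul_simple Δ hq o (fun c => ?_) w
    rw [← hv, ← hf1 j hj o c]
    exact Finset.sum_congr rfl fun d _ => (hv o d).symm
  have hL : ∀ j, j ≠ i0 → ∀ w, v (cs.simple j * w) / sg cs q (cs.simple j * w) = v w / sg cs q w := by
    intro j hj w
    have h1 := val_mul_simple Δ hq (v := fun w => v w⁻¹) (j := j) o (fun c => by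
      have h2 := hf2 j hj c o
      show _ = - v (Δ.δ o c)⁻¹
      rw [← Δ.symm, ← hv, ← h2]
      refine Finset.sum_congr rfl fun d _ => ?_
      show v (Δ.δ o d)⁻¹ = _
      rw [← Δ.symm, ← hv]) w⁻¹
    simp only [mul_inv_rev, inv_inv, cs.inv_simple] at h1
    have e : w⁻¹ * cs.simple j = (cs.simple j * w)⁻¹ := by rw [mul_inv_rev, cs.inv_simple]
    rw [sg_inv cs w, e, sg_inv] at h1
    exact h1
  have hRW : ∀ u ∈ WJ cs {j | j ≠ i0}, ∀ w, v (w * u) / sg cs q (w * u) = v w / sg cs q w := by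
    intro u hu
    obtain ⟨ω, hω, rfl⟩ := exists_word_of_mem_WJ cs hu
    clear hu
    induction ω with
    | nil => intro w; rw [cs.wordProd_nil, mul_one]
    | cons i ω ih =>
      intro w
      rw [cs.wordProd_cons, ← mul_assoc, ih (fun j hj => hω j (by simp [hj])), hR i (hω i (by simp))]
  have hLW : ∀ u ∈ WJ cs {j | j ≠ i0}, ∀ w, v (u * w) / sg cs q (u * w) = v w / sg cs q w := by
    intro u hu
    obtain ⟨ω, hω, rfl⟩ := exists_word_of_mem_WJ cs hu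
    clear hu
    induction ω with
    | nil => intro w; rw [cs.wordProd_nil, one_mul]
    | cons i ω ih =>
      intro w
      rw [cs.wordProd_cons, mul_assoc, hL i (hω i (by simp)), ih (fun j hj => hω j (by simp [hj]))]
  have hdc : ∀ w w', O.lv (lab O cs h w) = O.lv (lab O cs h w') → v w' / sg cs q w' = v w / sg cs q w := by
    intro w w' hw
    obtain ⟨u, hu, t, ht, e⟩ := exists_dc O cs h hw
    rw [e, hRW t ht, hLW u hu]
  choose wk hwk using exists_lv O cs h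
  refine ⟨fun k => v (wk k) / sg cs q (wk k), fun c => ?_⟩
  have h1 := hdc (wk (lvl O h Δ o c)) (Δ.δ o c) (by rw [hwk]; rfl)
  show f o c = sg cs q (Δ.δ o c) * (v (wk (lvl O h Δ o c)) / sg cs q (wk (lvl O h Δ o c)))
  rw [← h1, hv, mul_div_cancel₀ _ (sg_ne cs hq0 _)]

end Factor

/-! ### the main theorem -/

section Main

variable {I : Type*} [Fintype I] [DecidableEq I] {A : I → I → ℤ} {i0 : I} {m r : ℕ} (O : Orb A i0 m r)
  {M : CoxeterMatrix I} {W : Type*} [Group W] [Fintype W] {cs : CoxeterSystem M W} (h : IsCartan M A)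
  {C : Type v} [Fintype C] (Δ : Bldg cs C) {q : ℕ}
  (hq : ∀ x i, Nat.card {y // Δ.δ x y = cs.simple i} = q)
  {G : Type u} [Group G] [Fintype G] [MulAction G C]
  (hiso : ∀ (g : G) (x y : C), Δ.δ (g • x) (g • y) = Δ.δ x y)
  (htr : ∀ x y x' y' : C, Δ.δ x y = Δ.δ x' y' → ∃ g : G, g • x = x' ∧ g • y = y')

/-- the signed functions of the level -/
noncomputable def Fl (q : ℕ) (o : C) (φ : Fin r → ℂ) (c : C) : ℂ := sg cs q (Δ.δ o c) * φ (lvl O h Δ o c)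

include hiso in
theorem Fl_smul (o c : C) (φ : Fin r → ℂ) (g : G) : Fl O h Δ q (g • o) φ (g • c) = Fl O h Δ q o φ c := by
  unfold Fl lvl
  rw [hiso]

include hiso htr h hq in
open Classical in
theorem Lc_Fl {χ : G → ℂ} (hχ : IsClassFunction G χ) (o : C) (φ : Fin r → ℂ) :
    ∃ ψ : Fin r → ℂ, Lc C χ (Fl O h Δ q o φ) = Fl O h Δ q o ψ := by
  have hf0 : ∀ (g : G) (o c : C), Lc C χ (Fl O h Δ q (g • o) φ) (g • c) = Lc C χ (Fl O h Δ q o φ) c := by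
    intro g o c
    have h1 := Lc_perm hχ (Fl O h Δ q o φ) g (g • c)
    rw [inv_smul_smul] at h1
    have e : Fl O h Δ q (g • o) φ = fun x => Fl O h Δ q o φ (g⁻¹ • x) := by
      funext x
      rw [← Fl_smul O h Δ hiso o (g⁻¹ • x) φ g, smul_inv_smul]
    rw [← h1, e]
  have hf1 : ∀ j, j ≠ i0 → ∀ o c, ∑ d ∈ Finset.univ.filter (fun d => Δ.δ c d = cs.simple j),
      Lc C χ (Fl O h Δ q o φ) d = - Lc C χ (Fl O h Δ q o φ) c := by
    intro j hj o c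
    have h1 := Lc_Kop (k := fun c d => if Δ.δ c d = cs.simple j then (1 : ℂ) else 0)
      (fun g c d => by rw [hiso g c d]) χ (Fl O h Δ q o φ)
    have h2 : Kop (fun c d => if Δ.δ c d = cs.simple j then (1 : ℂ) else 0) (Fl O h Δ q o φ) =
        - Fl O h Δ q o φ := by
      funext x
      have h3 := sum_lvM O h Δ hq φ o x hj
      rw [Kop_apply, Pi.neg_apply, Fl, ← h3, Finset.sum_filter]
      refine Finset.sum_congr rfl fun d _ => ?_
      rw [ite_mul, one_mul, zero_mul]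
      rfl
    rw [h2, map_neg] at h1
    have h3 := congrFun h1 c
    rw [Pi.neg_apply, Kop_apply] at h3
    rw [h3, Finset.sum_filter]
    refine Finset.sum_congr rfl fun d _ => ?_
    rw [ite_mul, one_mul, zero_mul]
  have hf2 : ∀ j, j ≠ i0 → ∀ o c, ∑ d ∈ Finset.univ.filter (fun d => Δ.δ o d = cs.simple j),
      Lc C χ (Fl O h Δ q d φ) c = - Lc C χ (Fl O h Δ q o φ) c := by
    intro j hj o c
    have h1 : ∑ d ∈ Finset.univ.filter (fun d => Δ.δ o d = cs.simple j), Fl O h Δ q d φ = - Fl O h Δ q o φ := by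
      funext x
      rw [Finset.sum_apply, Pi.neg_apply]
      have h2 : ∀ d ∈ Finset.univ.filter (fun d => Δ.δ o d = cs.simple j), Fl O h Δ q d φ x =
          (sg cs q (Δ.δ x d) * 1) * φ (lvl O h Δ o x) := by
        intro d hd
        have hd' := (Finset.mem_filter.1 hd).2
        have h3 : Δ.δ o d ∈ WJ cs {j | j ≠ i0} := by rw [hd']; exact simple_mem_WJ cs hj
        obtain ⟨t, ht, e⟩ := Δ.exists_mul_of_mem_left x h3
        rw [Fl, Δ.symm x d, sg_inv, mul_one]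
        congr 2
        unfold lvl
        rw [e, lab_WJ_mul O cs h ht]
      have h3 := sum_lvM O h Δ hq (fun _ => 1) x o hj
      rw [Finset.sum_congr rfl h2, ← Finset.sum_mul, h3, Fl, Δ.symm x o, sg_inv]
      ring
    have h2 := congrArg (fun f => Lc C χ f c) h1
    simp only [map_sum, map_neg, Finset.sum_apply, Pi.neg_apply] at h2
    exact h2
  obtain ⟨ψ, hψ⟩ := exists_factorM O h Δ hq htr (f := fun o c => Lc C χ (Fl O h Δ q o φ) c) hf0 hf1 hf2 o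
  exact ⟨ψ, funext hψ⟩

include h hq hiso htr in
open Classical in
/-- **The projection of the kernel to the constituents is rational.** -/
theorem rat_of_table {wt : Fin m → ℚ} (hw1 : ∀ k, wt (O.base k) = 1)
    (hw2 : ∀ j, j ≠ i0 → ∀ b, 0 < pairing A j (O.vec b) → wt (O.act j b) = (q : ℚ)⁻¹ * wt b)
    {U : Fin r → Fin r → ℚ} {θ : Fin r → ℚ} (hθ : Function.Injective θ) (hU0 : ∀ i, U i ≠ 0)
    (hU : ∀ i, Bop O (fun _ => (q : ℚ)⁻¹) wt (U i) = θ i • U i) (o : C) {χ : G → ℂ}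
    (hχ : IsIrrCharacter G χ) (c : C) : ∃ z : ℚ, Lc C χ (Km Δ q {j | j ≠ i0} o) c = z := by
  have hcl := isIrr_isClassFunction hχ
  have hq0 := q_ne Δ hq o i0
  set J : Set I := {j | j ≠ i0} with hJ
  -- the operators
  let K2 : C → C → ℂ := fun c d => if Δ.δ c d = cs.simple i0 then 1 else 0
  have hK1 : ∀ (g : G) (c d : C), Km Δ q J (g • c) (g • d) = Km Δ q J c d := by
    intro g c d
    unfold Km
    rw [hiso]
  have hK2 : ∀ (g : G) (c d : C), K2 (g • c) (g • d) = K2 c d := by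
    intro g c d
    show (if Δ.δ (g • c) (g • d) = cs.simple i0 then (1 : ℂ) else 0) = _
    rw [hiso]
  let L := Lc C χ
  set! qc : I → ℂ := fun _ => (q : ℂ)⁻¹ with hqc
  set! wc : Fin m → ℂ := fun b => (wt b : ℂ) with hwc
  have hw1' : ∀ k, wc (O.base k) = 1 := by
    intro k
    simp only [hwc, hw1, Rat.cast_one]
  have hw2' : ∀ j, j ≠ i0 → ∀ b, 0 < pairing A j (O.vec b) → wc (O.act j b) = (q : ℂ)⁻¹ * wc b := by
    intro j hj b hb
    simp only [hwc, hw2 j hj b hb, Rat.cast_mul, Rat.cast_inv, Rat.cast_natCast]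
  set! ρ : ℂ := rhoJ cs q J with hρdef
  have hρ0 : ρ ≠ 0 := rhoJ_ne _ _ _
  -- the operator on functions of the level
  have hop : ∀ φ : Fin r → ℂ, Kop (Km Δ q J) (Kop K2 (Fl O h Δ q o φ)) =
      (-(q : ℂ) * ρ) • Fl O h Δ q o (Bop O qc wc φ) := by
    intro φ
    funext c
    have h1 : ∀ d, Kop K2 (Fl O h Δ q o φ) d =
        -(q : ℂ) * (sg cs q (Δ.δ o d) * Tf O qc i0 (fun b => φ (O.lv b)) (lab O cs h (Δ.δ o d))) := by
      intro d
      rw [← sum_labM O h Δ hq (fun b => φ (O.lv b)) o d i0, Kop_apply, Finset.sum_filter]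
      refine Finset.sum_congr rfl fun e _ => ?_
      show (if Δ.δ d e = cs.simple i0 then (1 : ℂ) else 0) * _ = _
      rw [ite_mul, one_mul, zero_mul]
      rfl
    have h2 : Kop (Km Δ q J) (Kop K2 (Fl O h Δ q o φ)) c =
        -(q : ℂ) * Rm O h Δ q o c (Tf O qc i0 (fun b => φ (O.lv b))) := by
      rw [Kop_apply]
      unfold Rm
      rw [Finset.mul_sum]
      refine Finset.sum_congr rfl fun d _ => ?_
      rw [h1]
      ring
    rw [h2, Rm_div O h Δ hq hw1' hw2', Pi.smul_apply, smul_eq_mul, Fl, Bop_apply]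
    unfold lvl
    ring
  -- the eigenfunctions
  let Uc : Fin r → Fin r → ℂ := fun i k => (U i k : ℂ)
  have hUc : ∀ i, Bop O qc wc (Uc i) = (θ i : ℂ) • Uc i := by
    intro i
    funext k
    have h1 := Bop_cast O (fun _ => (q : ℚ)⁻¹) wt (U i) k
    rw [hU i] at h1
    simp only [Rat.cast_inv, Rat.cast_natCast] at h1
    rw [Pi.smul_apply, smul_eq_mul] at h1 ⊢
    rw [← Rat.cast_mul, ← h1]
  have hUc0 : ∀ i, Uc i ≠ 0 := by
    intro i h1
    apply hU0 i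
    funext k
    have h2 := congrFun h1 k
    have h3 : ((U i k : ℚ) : ℂ) = 0 := h2
    exact_mod_cast h3
  have hθc : Function.Injective fun i => (θ i : ℂ) := by
    intro i j hij
    have h1 : ((θ i : ℚ) : ℂ) = ((θ j : ℚ) : ℂ) := hij
    exact hθ (by exact_mod_cast h1)
  have hFsmul : ∀ (a : ℂ) (φ : Fin r → ℂ), Fl O h Δ q o (a • φ) = a • Fl O h Δ q o φ := by
    intro a φ
    funext x
    unfold Fl
    simp only [Pi.smul_apply, smul_eq_mul]
    ring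
  have hFinj : ∀ φ ψ : Fin r → ℂ, Fl O h Δ q o φ = Fl O h Δ q o ψ → φ = ψ := by
    intro φ ψ h1
    funext k
    obtain ⟨x, hx⟩ := exists_lvl O h Δ o k
    have h2 := congrFun h1 x
    unfold Fl at h2
    rw [hx] at h2
    exact mul_left_cancel₀ (sg_ne cs hq0 _) h2
  have hLU : ∀ i, ∃ c : ℂ, L (Fl O h Δ q o (Uc i)) = c • Fl O h Δ q o (Uc i) := by
    intro i
    obtain ⟨ψ, hψ⟩ := Lc_Fl O h Δ hq hiso htr hcl o (Uc i)
    have hψ' : L (Fl O h Δ q o (Uc i)) = Fl O h Δ q o ψ := hψ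
    have h1 : Kop (Km Δ q J) (Kop K2 (L (Fl O h Δ q o (Uc i)))) =
        (-(q : ℂ) * ρ * θ i) • L (Fl O h Δ q o (Uc i)) := by
      rw [← Lc_Kop hK2, ← Lc_Kop hK1, hop, hUc, hFsmul, smul_smul, map_smul]
    rw [hψ', hop, mul_smul (-(q : ℂ) * ρ) (θ i : ℂ), smul_right_inj (mul_ne_zero (neg_ne_zero.2 hq0) hρ0),
      ← hFsmul] at h1
    have h2 := hFinj _ _ h1
    obtain ⟨c, hc⟩ := eig_mul hθc hUc hUc0 h2
    refine ⟨c, ?_⟩
    rw [hψ', hc, hFsmul]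
  -- the eigenvalues are rational
  obtain ⟨n, hn, hn1⟩ := isIrr_apply_one hχ
  have hLU' : ∀ i, ∃ a : ℚ, L (Fl O h Δ q o (Uc i)) = (a : ℂ) • Fl O h Δ q o (Uc i) := by
    intro i
    obtain ⟨c, hc⟩ := hLU i
    have h1 := Lc_Lc hχ (Fl O h Δ q o (Uc i))
    have h1' : L (L (Fl O h Δ q o (Uc i))) = ((Nat.card G : ℂ) / χ 1) • L (Fl O h Δ q o (Uc i)) := h1
    rw [hc, map_smul, hc, ← hFsmul, ← hFsmul, ← hFsmul, smul_smul] at h1'
    have h2 := hFinj _ _ h1'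
    obtain ⟨k, hk⟩ : ∃ k, Uc i k ≠ 0 := by
      by_contra hcon
      push Not at hcon
      exact hUc0 i (funext hcon)
    have h3 : c * (c - (Nat.card G : ℂ) / χ 1) = 0 := by
      have h5 := congrFun h2 k
      simp only [Pi.smul_apply, smul_eq_mul] at h5
      have h4 : (c * (c - (Nat.card G : ℂ) / χ 1)) * Uc i k = 0 := by linear_combination h5
      exact (mul_eq_zero.1 h4).resolve_right hk
    rcases mul_eq_zero.1 h3 with h4 | h4
    · exact ⟨0, by rw [hc, h4, Rat.cast_zero]⟩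
    · refine ⟨(Nat.card G : ℚ) / n, ?_⟩
      rw [hc, sub_eq_zero.1 h4, hn1]
      push_cast
      rfl
  -- the kernel
  have hB : Km Δ q J o = Fl O h Δ q o (fun k => ((if k = O.lv (lab O cs h 1) then (1 : ℚ) else 0 : ℚ) : ℂ)) := by
    funext x
    unfold Km Fl lvl sg
    have h1 : Δ.δ o x ∈ WJ cs J ↔ O.lv (lab O cs h (Δ.δ o x)) = O.lv (lab O cs h 1) := by
      constructor
      · intro hx
        have h2 := lv_mul_WJ O cs h hx 1
        rwa [one_mul] at h2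
      · intro hx
        obtain ⟨u, hu, v, hv, e⟩ := exists_dc O cs h hx.symm
        rw [e, mul_one]
        exact mul_mem hu hv
    by_cases h2 : Δ.δ o x ∈ WJ cs J
    · rw [if_pos h2]
      simp only [if_pos (h1.1 h2), Rat.cast_one, mul_one]
    · rw [if_neg h2]
      simp only [if_neg (fun h3 => h2 (h1.2 h3)), Rat.cast_zero, mul_zero]
  obtain ⟨d, hd⟩ := exists_coeff (B := Bop O (fun _ => (q : ℚ)⁻¹) wt) hθ hU hU0
    (fun k => if k = O.lv (lab O cs h 1) then (1 : ℚ) else 0)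
  choose a ha using hLU'
  refine ⟨(-(q : ℚ)⁻¹) ^ cs.length (Δ.δ o c) * ∑ i, d i * a i * U i (lvl O h Δ o c), ?_⟩
  have h2 : Km Δ q J o = ∑ i, (d i : ℂ) • Fl O h Δ q o (Uc i) := by
    rw [hB]
    funext x
    rw [Finset.sum_apply]
    have h3 := congrFun hd (lvl O h Δ o x)
    unfold Fl
    show sg cs q (Δ.δ o x) * ((if lvl O h Δ o x = O.lv (lab O cs h 1) then (1 : ℚ) else 0 : ℚ) : ℂ) = _
    rw [h3, Finset.sum_apply, Rat.cast_sum, Finset.mul_sum]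
    refine Finset.sum_congr rfl fun i _ => ?_
    simp only [Pi.smul_apply, smul_eq_mul, Rat.cast_mul]
    ring
  rw [h2, map_sum, Finset.sum_apply]
  push_cast
  rw [Finset.mul_sum]
  refine Finset.sum_congr rfl fun i _ => ?_
  have h4 : Lc C χ ((d i : ℂ) • Fl O h Δ q o (Uc i)) = (d i : ℂ) • ((a i : ℂ) • Fl O h Δ q o (Uc i)) := by
    rw [map_smul]
    exact congrArg _ (ha i)
  rw [h4]
  simp only [Pi.smul_apply, smul_eq_mul]
  unfold Fl sg
  ring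

include h hq hiso htr in
/-- **The minus engine**: all irreducible characters whose alternating sum over the parabolic subgroups `P K`,
`K ⊆ {j | j ≠ i0}`, does not vanish are integer valued. -/
theorem int_of_tableM {wt : Fin m → ℚ} (hw1 : ∀ k, wt (O.base k) = 1)
    (hw2 : ∀ j, j ≠ i0 → ∀ b, 0 < pairing A j (O.vec b) → wt (O.act j b) = (q : ℚ)⁻¹ * wt b)
    {U : Fin r → Fin r → ℚ} {θ : Fin r → ℚ} (hθ : Function.Injective θ) (hU0 : ∀ i, U i ≠ 0)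
    (hU : ∀ i, Bop O (fun _ => (q : ℚ)⁻¹) wt (U i) = θ i • U i) (o : C) (P : Finset I → Subgroup G)
    [∀ K, Fintype (P K)]
    (hP : ∀ K, K ⊆ Finset.univ.erase i0 → ∀ g : G, g ∈ P K ↔ Δ.δ o (g • o) ∈ WJ cs (K : Set I)) {χ : G → ℂ}
    (hχ : IsIrrCharacter G χ)
    (h0 : ∑ K ∈ (Finset.univ.erase i0).powerset, (-1 : ℂ) ^ K.card * ((Nat.card (P K) : ℂ)⁻¹ * ∑ g : P K, χ g) ≠ 0)
    (g : G) : ∃ k : ℤ, χ g = k := by
  have h1 := Km_link Δ hiso htr (q := q) o (Finset.univ.erase i0) P hP hχ h0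
  have e : ((Finset.univ.erase i0 : Finset I) : Set I) = {j | j ≠ i0} := by
    ext j
    simp only [_root_.Finset.coe_erase, _root_.Finset.coe_univ, _root_.Set.mem_sdiff, _root_.Set.mem_univ, _root_.Set.mem_singleton_iff, _root_.true_and, _root_.ne_eq, _root_.Set.mem_ofPred_eq]
  rw [e] at h1
  exact int_of_conv hχ (Km_rat Δ q _ o) h1 (rat_of_table O h Δ hq hiso htr hw1 hw2 hθ hU0 hU o hχ) g

end Main

end Cfsg.Agent.H667.BR
end

-- part: H498/RP/PolyInv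
section
/-!
# The eigenvectors for all positive parameters, the eigenvalues at `1 / q` (helper498)

`eig_pos` : the identity of the eigenvectors for every rational `x > 0`.
`inj_inv` : the eigenvalues at `x = y⁻¹`, `y ≥ 2`, are distinct.
-/

set_option autoImplicit false

namespace Cfsg.Agent.H498.RP

open Cfsg.Agent.ChevalleyStructure.CoxeterGeom

/-- nonnegative coefficients, not all zero -/
def ppL (l : List ℤ) : Bool := nnL l && !(zL l)

theorem evL_pp {x : ℚ} (hx : 0 < x) {l : List ℤ} (h : ppL l = true) : 0 < evL x l := by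
  unfold ppL at h
  induction l with
  | nil => simp [zL] at h
  | cons a l ih =>
    rw [nnL, zL, Bool.and_eq_true, Bool.and_eq_true, decide_eq_true_eq, Bool.not_eq_true'] at h
    rw [evL_cons]
    have h1 : (0 : ℚ) ≤ a := by exact_mod_cast h.1.1
    have h2 := evL_nnL hx.le h.1.2
    have h2' := mul_nonneg hx.le h2
    by_cases ha : a = 0
    · have h3 : zL l = false := by
        have h4 := h.2
        rw [ha] at h4
        simpa using h4
      have h5 := ih (by rw [h.1.2, h3]; rfl)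
      have h6 := mul_pos hx h5
      linarith
    · have h3 : 0 < a := lt_of_le_of_ne h.1.1 (Ne.symm ha)
      have h4 : (0 : ℚ) < a := by exact_mod_cast h3
      linarith

theorem evL_append (x : ℚ) (l : List ℤ) (a : ℤ) : evL x (l ++ [a]) = evL x l + x ^ l.length * a := by
  induction l with
  | nil => simp [evL]
  | cons b l ih =>
    rw [List.cons_append, evL_cons, evL_cons, ih, List.length_cons, pow_succ]
    ring

theorem evL_inv {y : ℚ} (hy : y ≠ 0) (l : List ℤ) : y ^ l.length * evL y⁻¹ l = y * evL y l.reverse := by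
  induction l with
  | nil => simp [evL]
  | cons a l ih =>
    rw [List.reverse_cons, evL_append, evL_cons, List.length_cons, List.length_reverse, pow_succ]
    have h1 : y ^ l.length * y * (a + y⁻¹ * evL y⁻¹ l) = y ^ l.length * y * a + (y * y⁻¹) * (y ^ l.length * evL y⁻¹ l) := by
      ring
    rw [h1, mul_inv_cancel₀ hy, one_mul, ih]
    ring

/-- positive at `1 / y` for `y ≥ 2` -/
def posR (l : List ℤ) : Bool := posL l.reverse

theorem evL_posR {y : ℚ} (hy : 2 ≤ y) {l : List ℤ} (h : posR l = true) : 0 < evL y⁻¹ l := by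
  have hy0 : (0 : ℚ) < y := by linarith
  have h1 := evL_inv hy0.ne' l
  have h2 : 0 < y * evL y l.reverse := mul_pos hy0 (evL_pos hy h)
  rw [← h1] at h2
  exact (mul_pos_iff_of_pos_left (pow_pos hy0 _)).1 h2

section Tab

variable {I : Type*} [Fintype I] [DecidableEq I] {A : I → I → ℤ} {i0 : I} {m r : ℕ} (O : Orb A i0 m r)
  (ex : Fin m → ℕ)

/-- **The eigenvectors, all positive parameters.** -/
theorem eig_pos {d : List (Fin r × ℕ × ℕ × Fin r)} (hd : datO O ex = d) {k1 : Fin r} {N : Fin r → List ℤ}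
    {U : Fin r → Fin r → List ℤ} (hc : checkU d k1 N U) (hz : ∀ k, ppL (zk d k) = true) {x : ℚ} (hx : 0 < x)
    (i : Fin r) : Bop O (fun _ => x) (fun b => x ^ ex b) (fun k => evL x (U i k)) =
      (evL x (N i) / evL x (zk d k1)) • fun k => evL x (U i k) := by
  subst hd
  funext k
  have h1 := evL_zL x (hc i k)
  rw [evL_add, evL_mul, evL_sm, evL_mul, evL_mul] at h1
  have h2 : lsum O (fun b => x ^ ex b) (Tf O (fun _ => x) i0 (fun b => evL x (U i (O.lv b)))) k =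
      evL x (lsL (tp (U i)) k (datO O ex)) :=
    lsum_eq O ex x (tp (U i)) _ k fun b hb => by rw [Tf_tp, hb]
  have h3 : lsum O (fun b => x ^ ex b) (fun _ => 1) k = evL x (zk (datO O ex) k) :=
    lsum_eq O ex x (fun _ _ _ => [1]) _ k fun b _ => by
      rw [evL_cons, evL_nil]
      push_cast
      ring
  have h4 := (evL_pp hx (hz k)).ne'
  have h5 := (evL_pp hx (hz k1)).ne'
  rw [Bop_apply, h2, h3, Pi.smul_apply, smul_eq_mul, div_mul_eq_mul_div, div_eq_div_iff h4 h5]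
  push_cast at h1
  linear_combination h1

theorem inj_inv {d : List (Fin r × ℕ × ℕ × Fin r)} {k1 : Fin r} {N : Fin r → List ℤ}
    (hz : ∀ k, ppL (zk d k) = true) (hN : ∀ i j, i < j → posR (addL (N i) (smL (-1) (N j))) = true) {y : ℚ}
    (hy : 2 ≤ y) : Function.Injective fun i => evL y⁻¹ (N i) / evL y⁻¹ (zk d k1) := by
  have h5 := evL_pp (x := y⁻¹) (inv_pos.2 (by linarith)) (hz k1)
  have key : ∀ i j, i < j → evL y⁻¹ (N i) / evL y⁻¹ (zk d k1) ≠ evL y⁻¹ (N j) / evL y⁻¹ (zk d k1) := by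
    intro i j hij h
    rw [div_left_inj' h5.ne'] at h
    have h1 := evL_posR hy (hN i j hij)
    rw [evL_add, evL_sm, h] at h1
    push_cast at h1
    linarith
  intro i j hij
  by_contra hne
  rcases lt_or_gt_of_ne hne with h1 | h1
  · exact key i j h1 hij
  · exact key j i h1 hij.symm

end Tab

end Cfsg.Agent.H498.RP
end

-- part: H498/RP/TabInv
section
/-!
# The checks for the parameter `1 / q` (helper498)
-/

set_option autoImplicit false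
set_option maxRecDepth 100000
set_option maxHeartbeats 0

namespace Cfsg.Agent.H498.RP

theorem E6A5.hzp : ∀ k, ppL (zk E6A5.dat k) = true := by decide +kernel
theorem E6A5.hNr : ∀ i j, i < j → posR (addL (E6A5.NN i) (smL (-1) (E6A5.NN j))) = true := by decide +kernel
theorem E6A5.hU0r : ∀ i, posR (E6A5.UU i 0) = true := by decide +kernel

theorem E7D6.hzp : ∀ k, ppL (zk E7D6.dat k) = true := by decide +kernel
theorem E7D6.hNr : ∀ i j, i < j → posR (addL (E7D6.NN i) (smL (-1) (E7D6.NN j))) = true := by decide +kernel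
theorem E7D6.hU0r : ∀ i, posR (E7D6.UU i 0) = true := by decide +kernel

theorem E7E6.hzp : ∀ k, ppL (zk E7E6.dat k) = true := by decide +kernel
theorem E7E6.hNr : ∀ i j, i < j → posR (addL (E7E6.NN i) (smL (-1) (E7E6.NN j))) = true := by decide +kernel
theorem E7E6.hU0r : ∀ i, posR (E7E6.UU i 0) = true := by decide +kernel

end Cfsg.Agent.H498.RP
end

-- part: H796/BR/MInst
section
/-!
# The dual permutation characters of `E₆` and `E₇` (helper796)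

`int_chev_minus` : all constituents `χ` of `Ψ_J = ∑ K ⊆ J, (-1)^|K| 1_{P_K}^G` (`J` all nodes but one) are integer valued
if the table of helper498 for the parabolic subgroup `P_J` has distinct eigenvalues at `1 / q`.

* `int_minus_E6_A5`, `int_minus_E7_D6`, `int_minus_E7_E6`.
-/

set_option autoImplicit false
set_option linter.unusedSectionVars false

open Cfsg
open scoped ComplexConjugate

namespace Cfsg.Agent.H796.BR

open CoxeterSystem Cfsg.Agent.ChevalleyStructure.CoxeterGeom Cfsg.Agent.Tits.Roots Cfsg.Agent.Tits.Core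
  Cfsg.Agent.Tits.Exchange Cfsg.Agent.Nodes.Reps Cfsg.Agent.Nodes.BNOf Cfsg.Agent.Nodes.StabComb
  Cfsg.Agent.Nodes.Bruhat Cfsg.Agent.Nodes.OppDec Cfsg.Agent.Nodes.LeviDec Cfsg.Agent.Nodes.NormalForm
  Cfsg.Agent.H35.ExcIdx Cfsg.Lie Cfsg.Agent.Nodes.RGDChev Cfsg.Agent.ChevalleyStructure.NPerm
  Cfsg.Agent.H498.RP Cfsg.Agent.ChevalleyStructure.CoxeterGeomTypes

universe u v

section Chev

variable {D : ChevalleyDatum} {l : ℕ} {M : CoxeterMatrix (Fin l)} (hp : IsType D l M) (K : Type u) [Field K]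
  [Fintype K]

/-- **Untwisted groups, dual permutation characters.** -/
theorem int_chev_minus {A : Fin l → Fin l → ℤ} (hA : IsCartan M A) {i0 : Fin l} {m r : ℕ} (O : Orb A i0 m r)
    {ex : Fin m → ℕ} (hex1 : ∀ k, ex (O.base k) = 0)
    (hex2 : ∀ j, j ≠ i0 → ∀ b, 0 < pairing A j (O.vec b) → ex (O.act j b) = ex b + 1)
    {d : List (Fin r × ℕ × ℕ × Fin r)} (hd : datO O ex = d) {k1 : Fin r} {N : Fin r → List ℤ}
    {U : Fin r → Fin r → List ℤ} (hc : checkU d k1 N U) (hz : ∀ k, ppL (zk d k) = true)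
    (hN : ∀ i j, i < j → posR (addL (N i) (smL (-1) (N j))) = true) {k0 : Fin r}
    (hU0 : ∀ i, posR (U i k0) = true)
    [∀ L : Finset (Fin l), Fintype (PJ M.toCoxeterSystem hp.isCartan (TT D K) (XX D l K) (L : Set (Fin l)))]
    {χ : ↥(D.group K) → ℂ} (hχ : IsIrrCharacter ↥(D.group K) χ)
    (h0 : ∑ L ∈ (Finset.univ.erase i0).powerset, (-1 : ℂ) ^ L.card *
      ((Nat.card (PJ M.toCoxeterSystem hp.isCartan (TT D K) (XX D l K) (L : Set (Fin l))) : ℂ)⁻¹ *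
        ∑ g : PJ M.toCoxeterSystem hp.isCartan (TT D K) (XX D l K) (L : Set (Fin l)), χ g) ≠ 0)
    (g : ↥(D.group K)) : ∃ k : ℤ, χ g = k := by
  classical
  obtain ⟨p, hpc⟩ := CharP.exists K
  have hpp : Fact p.Prime := ⟨CharP.char_is_prime K p⟩
  have hfin : Finite M.Group := finite_W hp M.toCoxeterSystem
  have hfW : Fintype M.Group := Fintype.ofFinite _
  have R := rgd (K := K) hp M.toCoxeterSystem p
  have hcard : ∀ i, Nat.card (XX D l K (sr i)) = (fun _ : Fin l => Fintype.card K) i := fun i => by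
    rw [card_XX hp K M.toCoxeterSystem (isRoot_sr _ _ i), Nat.card_eq_fintype_card]
  obtain ⟨Δ, hiso, htr, hΔ, hPJ⟩ := exists_bldg_PJ R (GG_eq_top hp K _) hcard
  have hfS : Fintype ↥(D.group K) := Fintype.ofFinite _
  have hfC : Fintype (↥(D.group K) ⧸ RGD.B M.toCoxeterSystem hp.isCartan (TT D K) (XX D l K)) := Fintype.ofFinite _
  have hx : (2 : ℚ) ≤ (Fintype.card K : ℚ) := by
    have := Fintype.one_lt_card (α := K)
    exact_mod_cast this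
  have hx0 : (0 : ℚ) < (Fintype.card K : ℚ)⁻¹ := inv_pos.2 (by linarith)
  refine H667.BR.int_of_tableM O hA Δ hΔ hiso htr (wt := fun b => ((Fintype.card K : ℚ)⁻¹) ^ ex b)
    (U := fun i k => evL (Fintype.card K : ℚ)⁻¹ (U i k))
    (θ := fun i => evL (Fintype.card K : ℚ)⁻¹ (N i) / evL (Fintype.card K : ℚ)⁻¹ (zk d k1)) ?_ ?_
    (inj_inv hz hN hx) ?_ (fun i => ?_) (QuotientGroup.mk 1)
    (fun L => PJ M.toCoxeterSystem hp.isCartan (TT D K) (XX D l K) (L : Set (Fin l)))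
    (fun L _ g => hPJ _ g) hχ h0 g
  · intro k
    show ((Fintype.card K : ℚ)⁻¹) ^ ex (O.base k) = 1
    rw [hex1, pow_zero]
  · intro j hj b hb
    show ((Fintype.card K : ℚ)⁻¹) ^ ex (O.act j b) = (Fintype.card K : ℚ)⁻¹ * ((Fintype.card K : ℚ)⁻¹) ^ ex b
    rw [hex2 j hj b hb, pow_succ, mul_comm]
  · intro i h2
    have h3 := congrFun h2 k0
    exact (evL_posR hx (hU0 i)).ne' h3
  · exact eig_pos O ex hd hc hz hx0 i

end Chev

/-- `E₆`, the dual of the permutation character on the cosets of the parabolic subgroup of type `A₅` -/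
theorem int_minus_E6_A5 (K : Type u) [Field K] [Fintype K]
    [∀ L : Finset (Fin 6), Fintype (PJ CoxeterMatrix.E₆.toCoxeterSystem hpE6.isCartan (TT chevE6 K) (XX chevE6 6 K)
      (L : Set (Fin 6)))]
    {χ : ↥((chevE6).group K) → ℂ} (hχ : IsIrrCharacter ↥((chevE6).group K) χ)
    (h0 : ∑ L ∈ (Finset.univ.erase (1 : Fin 6)).powerset, (-1 : ℂ) ^ L.card *
      ((Nat.card (PJ CoxeterMatrix.E₆.toCoxeterSystem hpE6.isCartan (TT chevE6 K) (XX chevE6 6 K)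
        (L : Set (Fin 6))) : ℂ)⁻¹ *
        ∑ g : PJ CoxeterMatrix.E₆.toCoxeterSystem hpE6.isCartan (TT chevE6 K) (XX chevE6 6 K) (L : Set (Fin 6)), χ g) ≠ 0)
    (g : ↥((chevE6).group K)) : ∃ k : ℤ, χ g = k :=
  int_chev_minus hpE6 K isCartan_cE6 E6A5.orb E6A5.ex1 E6A5.ex2 E6A5.dat_eq E6A5.check E6A5.hzp E6A5.hNr E6A5.hU0r
    hχ h0 g

/-- `E₇`, the dual of the permutation character on the cosets of the parabolic subgroup of type `D₆` -/
theorem int_minus_E7_D6 (K : Type u) [Field K] [Fintype K]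
    [∀ L : Finset (Fin 7), Fintype (PJ CoxeterMatrix.E₇.toCoxeterSystem hpE7.isCartan (TT chevE7 K) (XX chevE7 7 K)
      (L : Set (Fin 7)))]
    {χ : ↥((chevE7).group K) → ℂ} (hχ : IsIrrCharacter ↥((chevE7).group K) χ)
    (h0 : ∑ L ∈ (Finset.univ.erase (0 : Fin 7)).powerset, (-1 : ℂ) ^ L.card *
      ((Nat.card (PJ CoxeterMatrix.E₇.toCoxeterSystem hpE7.isCartan (TT chevE7 K) (XX chevE7 7 K)
        (L : Set (Fin 7))) : ℂ)⁻¹ *
        ∑ g : PJ CoxeterMatrix.E₇.toCoxeterSystem hpE7.isCartan (TT chevE7 K) (XX chevE7 7 K) (L : Set (Fin 7)), χ g) ≠ 0)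
    (g : ↥((chevE7).group K)) : ∃ k : ℤ, χ g = k :=
  int_chev_minus hpE7 K isCartan_cE7 E7D6.orb E7D6.ex1 E7D6.ex2 E7D6.dat_eq E7D6.check E7D6.hzp E7D6.hNr E7D6.hU0r
    hχ h0 g

/-- `E₇`, the dual of the permutation character on the cosets of the parabolic subgroup of type `E₆` -/
theorem int_minus_E7_E6 (K : Type u) [Field K] [Fintype K]
    [∀ L : Finset (Fin 7), Fintype (PJ CoxeterMatrix.E₇.toCoxeterSystem hpE7.isCartan (TT chevE7 K) (XX chevE7 7 K)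
      (L : Set (Fin 7)))]
    {χ : ↥((chevE7).group K) → ℂ} (hχ : IsIrrCharacter ↥((chevE7).group K) χ)
    (h0 : ∑ L ∈ (Finset.univ.erase (6 : Fin 7)).powerset, (-1 : ℂ) ^ L.card *
      ((Nat.card (PJ CoxeterMatrix.E₇.toCoxeterSystem hpE7.isCartan (TT chevE7 K) (XX chevE7 7 K)
        (L : Set (Fin 7))) : ℂ)⁻¹ *
        ∑ g : PJ CoxeterMatrix.E₇.toCoxeterSystem hpE7.isCartan (TT chevE7 K) (XX chevE7 7 K) (L : Set (Fin 7)), χ g) ≠ 0)
    (g : ↥((chevE7).group K)) : ∃ k : ℤ, χ g = k :=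
  int_chev_minus hpE7 K isCartan_cE7 E7E6.orb E7E6.ex1 E7E6.ex2 E7E6.dat_eq E7E6.check E7E6.hzp E7E6.hNr E7E6.hU0r
    hχ h0 g

end Cfsg.Agent.H796.BR
end

-- part: H498/RP/Fast
section
/-!
# Large tables (helper498)

`mkOrb` : a table `Orb` from a binary tree of rows, checked by boolean functions.
-/

set_option autoImplicit false

namespace Cfsg.Agent.H498.RP

open Cfsg.Agent.ChevalleyStructure.CoxeterGeom

/-- binary trees -/
inductive BT (α : Type) where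
  | lf : α → BT α
  | nd : BT α → BT α → BT α

/-- the entry -/
def BT.get {α : Type} : BT α → ℕ → α
  | .lf a, _ => a
  | .nd l r, n => cond (Nat.beq (n % 2) 0) (l.get (n / 2)) (r.get (n / 2))

/-- a row: the vector, the images, the level, the exponent -/
structure Rw where
  v : List ℤ
  a : List ℕ
  l : ℕ
  e : ℕ

/-- the scalar product -/
def dotL : List ℤ → List ℤ → ℤ
  | a :: l, b :: l' => a * b + dotL l l'
  | _, _ => 0

/-- the entry of a list of integers -/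
def nz : List ℤ → ℕ → ℤ
  | [], _ => 0
  | a :: _, 0 => a
  | _ :: l, i + 1 => nz l i

/-- the entry of a list of natural numbers -/
def nn : List ℕ → ℕ → ℕ
  | [], _ => 0
  | a :: _, 0 => a
  | _ :: l, i + 1 => nn l i

/-- the entry of a list of lists -/
def nl : List (List ℤ) → ℕ → List ℤ
  | [], _ => []
  | a :: _, 0 => a
  | _ :: l, i + 1 => nl l i

/-- subtraction at one place -/
def subAt : List ℤ → ℕ → ℤ → List ℤ
  | [], _, _ => []
  | a :: l, 0, c => (a - c) :: l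
  | a :: l, i + 1, c => a :: subAt l i c

/-- equality of lists -/
def eqZ : List ℤ → List ℤ → Bool
  | [], [] => true
  | a :: l, b :: l' => decide (a = b) && eqZ l l'
  | _, _ => false

/-- all numbers less than `k` -/
def allB (f : ℕ → Bool) : ℕ → Bool
  | 0 => true
  | k + 1 => f k && allB f k

theorem allB_iff {f : ℕ → Bool} {k : ℕ} (h : allB f k = true) {b : ℕ} (hb : b < k) : f b = true := by
  induction k with
  | zero => omega
  | succ k ih =>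
    rw [allB, Bool.and_eq_true] at h
    rcases Nat.lt_succ_iff_lt_or_eq.1 hb with h1 | h1
    · exact ih h.2 h1
    · rw [h1]; exact h.1

theorem eqZ_iff {l l' : List ℤ} (h : eqZ l l' = true) : l = l' := by
  induction l generalizing l' with
  | nil => cases l' with
    | nil => rfl
    | cons b l' => simp [eqZ] at h
  | cons a l ih => cases l' with
    | nil => simp [eqZ] at h
    | cons b l' =>
      rw [eqZ, Bool.and_eq_true, decide_eq_true_eq] at h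
      rw [h.1, ih h.2]

theorem nz_subAt (l : List ℤ) (i : ℕ) (c : ℤ) (k : ℕ) (hi : i < l.length) :
    nz (subAt l i c) k = nz l k - if k = i then c else 0 := by
  induction l generalizing i k with
  | nil => simp at hi
  | cons a l ih =>
    cases i with
    | zero =>
      cases k with
      | zero => simp [subAt, nz]
      | succ k => simp [subAt, nz]
    | succ i =>
      cases k with
      | zero => simp [subAt, nz]
      | succ k =>
        rw [subAt, nz, nz, ih i k (by simpa using hi)]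
        simp

theorem dotL_eq (n : ℕ) (l l' : List ℤ) (hl : l.length ≤ n) : dotL l l' = ∑ k : Fin n, nz l k * nz l' k := by
  induction n generalizing l l' with
  | zero =>
    have h1 : l = [] := List.length_eq_zero_iff.1 (Nat.le_zero.1 hl)
    subst h1
    rfl
  | succ n ih =>
    rw [Fin.sum_univ_succ]
    cases l with
    | nil =>
      simp only [dotL, nz, _root_.Fin.coe_ofNat_eq_mod, _root_.Nat.zero_mod, _root_.MulZeroClass.zero_mul, _root_.Fin.val_succ, _root_.Finset.sum_const_zero, _root_.add_zero]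
    | cons a l =>
      cases l' with
      | nil => simp only [dotL, nz, _root_.Fin.coe_ofNat_eq_mod, _root_.Nat.zero_mod, _root_.MulZeroClass.mul_zero, _root_.Fin.val_succ, _root_.Finset.sum_const_zero, _root_.add_zero]
      | cons b l' =>
        rw [dotL, ih l l' (by simpa using hl)]
        rfl

/-- the checks over the nodes -/
def chkA (T : BT Rw) (m i0 : ℕ) (w : Rw) : ℕ → List (List ℤ) → List ℕ → Bool
  | i, r :: rs, a :: as =>
    (Nat.blt a m && eqZ (T.get a).v (subAt w.v i (dotL r w.v)) &&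
      (Nat.beq i i0 || (Nat.beq (T.get a).l w.l && (!(decide (0 < dotL r w.v)) || Nat.beq (T.get a).e (w.e + 1))))) &&
    chkA T m i0 w (i + 1) rs as
  | _, [], [] => true
  | _, _, _ => false

/-- a node downwards -/
def dnA (T : BT Rw) (i0 : ℕ) (w : Rw) : ℕ → List (List ℤ) → List ℕ → Bool
  | i, r :: rs, a :: as =>
    (!(Nat.beq i i0) && decide (dotL r w.v < 0) && Nat.blt (T.get a).e w.e) || dnA T i0 w (i + 1) rs as
  | _, _, _ => false

/-- the checks for a row -/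
def chkB (T : BT Rw) (rows : List (List ℤ)) (n m r i0 : ℕ) (bs : List ℕ) (hsh : List ℤ) (b : ℕ) : Bool :=
  Nat.beq (T.get b).v.length n && Nat.blt (T.get b).l r && chkA T m i0 (T.get b) 0 rows (T.get b).a &&
    (Nat.beq b (nn bs (T.get b).l) || dnA T i0 (T.get b) 0 rows (T.get b).a) &&
    (Nat.beq (b + 1) m || decide (dotL hsh (T.get b).v < dotL hsh (T.get (b + 1)).v))

theorem chkA_spec {T : BT Rw} {m i0 : ℕ} {w : Rw} {rs : List (List ℤ)} {as : List ℕ} {i : ℕ}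
    (h : chkA T m i0 w i rs as = true) {k : ℕ} (hk : k < rs.length) :
    nn as k < m ∧ (T.get (nn as k)).v = subAt w.v (i + k) (dotL (nl rs k) w.v) ∧
      (i + k ≠ i0 → (T.get (nn as k)).l = w.l) ∧
      (i + k ≠ i0 → 0 < dotL (nl rs k) w.v → (T.get (nn as k)).e = w.e + 1) := by
  induction rs generalizing as i k with
  | nil => simp at hk
  | cons r rs ih =>
    cases as with
    | nil => simp [chkA] at h
    | cons a as =>
      rw [chkA, Bool.and_eq_true, Bool.and_eq_true, Bool.and_eq_true, Bool.or_eq_true, Bool.and_eq_true,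
        Bool.or_eq_true, Nat.blt_eq, Nat.beq_eq, Nat.beq_eq, Nat.beq_eq, Bool.not_eq_true', decide_eq_false_iff_not]
        at h
      obtain ⟨⟨⟨h1, h2⟩, h3⟩, h4⟩ := h
      cases k with
      | zero =>
        rw [nn, nl, Nat.add_zero]
        refine ⟨h1, eqZ_iff h2, fun h5 => (h3.resolve_left h5).1, fun h5 h6 => ?_⟩
        exact ((h3.resolve_left h5).2).resolve_left (fun h7 => h7 h6)
      | succ k =>
        have h5 := ih h4 (k := k) (by simpa using hk)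
        rw [nn, nl, show i + (k + 1) = i + 1 + k by omega]
        exact h5

theorem dnA_spec {T : BT Rw} {i0 : ℕ} {w : Rw} {rs : List (List ℤ)} {as : List ℕ} {i : ℕ}
    (h : dnA T i0 w i rs as = true) : ∃ k, k < rs.length ∧ i + k ≠ i0 ∧ dotL (nl rs k) w.v < 0 ∧
      (T.get (nn as k)).e < w.e := by
  induction rs generalizing as i with
  | nil => simp [dnA] at h
  | cons r rs ih =>
    cases as with
    | nil => simp [dnA] at h
    | cons a as =>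
      rw [dnA, Bool.or_eq_true, Bool.and_eq_true, Bool.and_eq_true, Bool.not_eq_true', Nat.blt_eq,
        decide_eq_true_eq] at h
      rcases h with ⟨⟨h1, h2⟩, h3⟩ | h
      · refine ⟨0, by simp, ?_, h2, h3⟩
        intro h4
        rw [Nat.add_zero] at h4
        rw [h4, Nat.beq_refl] at h1
        exact absurd h1 (by simp)
      · obtain ⟨k, hk, h1, h2, h3⟩ := ih h
        exact ⟨k + 1, by simpa using hk, by omega, h2, h3⟩

theorem lt_of_step {m : ℕ} {f : ℕ → ℤ} (h : ∀ b, b + 1 < m → f b < f (b + 1)) {a b : ℕ} (hab : a < b) (hb : b < m) :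
    f a < f b := by
  induction b with
  | zero => omega
  | succ b ih =>
    rcases Nat.lt_succ_iff_lt_or_eq.1 hab with h1 | h1
    · exact (ih h1 (by omega)).trans (h b hb)
    · rw [h1]; exact h b hb

section Mk

variable {n m r : ℕ} {A : Fin n → Fin n → ℤ} {i0 : Fin n}

/-- the checks of a table -/
structure TabC (m r : ℕ) (A : Fin n → Fin n → ℤ) (i0 : Fin n) (T : BT Rw) (rows : List (List ℤ)) (bs : List ℕ)
    (hsh : List ℤ) (b0 : ℕ) (wd : Fin r → List (Fin n)) : Prop where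
  hr1 : rows.length = n
  hr2 : ∀ i : Fin n, (nl rows i).length ≤ n
  hr3 : ∀ i k : Fin n, A i k = nz (nl rows i) k
  hh : hsh.length ≤ n
  hsy : ∀ i j, A i j = A j i
  hc : allB (chkB T rows n m r i0 bs hsh) m = true
  hb0 : b0 < m
  hd1 : ∀ i : Fin n, 0 ≤ dotL (nl rows i) (T.get b0).v
  hd2 : 0 < dotL (nl rows i0) (T.get b0).v
  hd3 : ∀ i : Fin n, i ≠ i0 → dotL (nl rows i) (T.get b0).v = 0
  hbs : ∀ k : Fin r, nn bs k < m ∧ (T.get (nn bs k)).l = k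
  hwd : ∀ k : Fin r, (wd k).foldl (fun (b : ℕ) (i : Fin n) => nn (T.get b).a (i : ℕ)) b0 = nn bs k

variable {T : BT Rw} {rows : List (List ℤ)} {bs : List ℕ} {hsh : List ℤ} {b0 : ℕ} {wd : Fin r → List (Fin n)}
  (H : TabC m r A i0 T rows bs hsh b0 wd)

include H

theorem TabC.spec (b : Fin m) : ((T.get b).v.length = n ∧ (T.get b).l < r) ∧
      (∀ k : ℕ, k < n → nn (T.get b).a k < m ∧
        (T.get (nn (T.get b).a k)).v = subAt (T.get b).v k (dotL (nl rows k) (T.get b).v) ∧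
        (k ≠ i0 → (T.get (nn (T.get b).a k)).l = (T.get b).l) ∧
        (k ≠ i0 → 0 < dotL (nl rows k) (T.get b).v → (T.get (nn (T.get b).a k)).e = (T.get b).e + 1)) ∧
      ((b : ℕ) = nn bs (T.get b).l ∨ ∃ k, k < n ∧ k ≠ i0 ∧ dotL (nl rows k) (T.get b).v < 0 ∧
        (T.get (nn (T.get b).a k)).e < (T.get b).e) ∧
      ((b : ℕ) + 1 < m → dotL hsh (T.get b).v < dotL hsh (T.get ((b : ℕ) + 1)).v) := by
  have h := allB_iff H.hc b.2
  have hr1 := H.hr1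
  rw [chkB, Bool.and_eq_true, Bool.and_eq_true, Bool.and_eq_true, Bool.and_eq_true, Bool.or_eq_true,
    Bool.or_eq_true, Nat.beq_eq, Nat.beq_eq, Nat.beq_eq, Nat.blt_eq, decide_eq_true_eq] at h
  obtain ⟨⟨⟨⟨h1, h2⟩, h3⟩, h4⟩, h5⟩ := h
  refine ⟨⟨h1, h2⟩, fun k hk => ?_, ?_, fun h6 => h5.resolve_left (by omega)⟩
  · have h6 := chkA_spec h3 (k := k) (by omega)
    rw [Nat.zero_add] at h6
    exact h6
  · refine h4.imp id fun h6 => ?_
    obtain ⟨k, hk, h7, h8, h9⟩ := dnA_spec h6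
    rw [Nat.zero_add] at h7
    exact ⟨k, by omega, h7, h8, h9⟩

theorem TabC.pair (i : Fin n) (b : ℕ) : pairing A i (fun j => nz (T.get b).v j) = dotL (nl rows i) (T.get b).v := by
  rw [dotL_eq n _ _ (H.hr2 i)]
  unfold pairing
  exact Finset.sum_congr rfl fun k _ => by rw [H.hr3]

variable [NeZero m] [NeZero r]

theorem TabC.val_act (i : Fin n) (b : Fin m) : ((Fin.ofNat m (nn (T.get b).a i) : Fin m) : ℕ) = nn (T.get b).a i := by
  rw [Fin.val_ofNat, Nat.mod_eq_of_lt ((H.spec b).2.1 i i.2).1]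

theorem TabC.val_lv (b : Fin m) : ((Fin.ofNat r (T.get b).l : Fin r) : ℕ) = (T.get b).l := by
  rw [Fin.val_ofNat, Nat.mod_eq_of_lt (H.spec b).1.2]

theorem TabC.val_base (k : Fin r) : ((Fin.ofNat m (nn bs k) : Fin m) : ℕ) = nn bs k := by
  rw [Fin.val_ofNat, Nat.mod_eq_of_lt (H.hbs k).1]

/-- **The table from a tree.** -/
def mkOrb : Orb A i0 m r where
  vec := fun b j => nz (T.get b).v j
  act := fun i b => Fin.ofNat m (nn (T.get b).a i)
  lv := fun b => Fin.ofNat r (T.get b).l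
  base := fun k => Fin.ofNat m (nn bs k)
  dp := fun b => (T.get b).e
  dd := fun _ => 1
  b0 := Fin.ofNat m b0
  wd := wd
  dd_pos := fun _ => one_pos
  symm := fun i j => by rw [H.hsy]
  dom := fun i => by
    rw [Fin.val_ofNat, Nat.mod_eq_of_lt H.hb0, H.pair]
    exact H.hd1 i
  dom0 := by
    rw [Fin.val_ofNat, Nat.mod_eq_of_lt H.hb0, H.pair]
    exact H.hd2
  domJ := fun j hj => by
    rw [Fin.val_ofNat, Nat.mod_eq_of_lt H.hb0, H.pair]
    exact H.hd3 j hj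
  inj := fun a b hab => by
    have key : ∀ x : ℕ, dotL hsh (T.get x).v = ∑ k : Fin n, nz hsh k * nz (T.get x).v k := fun x => dotL_eq n _ _ H.hh
    have h1 : dotL hsh (T.get a).v = dotL hsh (T.get b).v := by
      rw [key, key]
      exact Finset.sum_congr rfl fun k _ => by
        have h2 : nz (T.get a).v k = nz (T.get b).v k := congrFun hab k
        rw [h2]
    have hst : ∀ b : ℕ, b + 1 < m → dotL hsh (T.get b).v < dotL hsh (T.get (b + 1)).v := fun b hb =>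
      (H.spec ⟨b, by omega⟩).2.2.2 hb
    apply Fin.ext
    rcases lt_trichotomy (a : ℕ) b with h2 | h2 | h2
    · exact absurd h1 (lt_of_step (f := fun b => dotL hsh (T.get b).v) hst h2 b.2).ne
    · exact h2
    · exact absurd h1.symm (lt_of_step (f := fun b => dotL hsh (T.get b).v) hst h2 a.2).ne
  vec_act := fun i b => by
    funext k
    rw [H.val_act, ((H.spec b).2.1 i i.2).2.1, nz_subAt _ _ _ _ (by rw [(H.spec b).1.1]; exact i.2), refl_apply,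
      Pi.sub_apply, H.pair]
    congr 1
    by_cases hki : k = i
    · subst hki
      rw [Pi.single_eq_same, if_pos rfl]
    · rw [Pi.single_eq_of_ne hki, if_neg (fun h => hki (Fin.ext h))]
  lv_act' := fun j hj b => by
    apply Fin.ext
    have h1 := H.val_lv (Fin.ofNat m (nn (T.get b).a j))
    rw [h1, H.val_act, H.val_lv, ((H.spec b).2.1 j j.2).2.2.1 (fun h => hj (Fin.ext h))]
  lv_base := fun k => by
    apply Fin.ext
    have h1 := H.val_lv (Fin.ofNat m (nn bs k))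
    rw [h1, H.val_base, (H.hbs k).2]
  down := fun b => by
    rcases (H.spec b).2.2.1 with h1 | ⟨k, hk, h1, h2, h3⟩
    · left
      apply Fin.ext
      rw [H.val_base, H.val_lv]
      exact h1
    · right
      refine ⟨⟨k, hk⟩, fun h => h1 (congrArg Fin.val h), ?_, ?_⟩
      · rw [H.pair]
        exact h2
      · rw [H.val_act ⟨k, hk⟩ b]
        exact h3
  word := fun k => by
    have key : ∀ (l : List (Fin n)) (b : Fin m),
        ((l.foldl (fun (b : Fin m) (i : Fin n) => (Fin.ofNat m (nn (T.get b).a i) : Fin m)) b : Fin m) : ℕ) =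
          l.foldl (fun (b : ℕ) (i : Fin n) => nn (T.get b).a (i : ℕ)) (b : ℕ) := by
      intro l
      induction l with
      | nil => exact fun b => rfl
      | cons i l ih =>
        intro b
        rw [List.foldl_cons, List.foldl_cons, ih, H.val_act]
    apply Fin.ext
    rw [key, H.val_base, Fin.val_ofNat, Nat.mod_eq_of_lt H.hb0]
    exact H.hwd k

/-- the exponents -/
theorem TabC.ex2 (j : Fin n) (hj : j ≠ i0) (b : Fin m) (hb : 0 < pairing A j ((mkOrb H).vec b)) :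
    (T.get ((mkOrb H).act j b)).e = (T.get b).e + 1 := by
  show (T.get ((Fin.ofNat m (nn (T.get b).a j) : Fin m) : ℕ)).e = _
  rw [H.val_act]
  refine ((H.spec b).2.1 j j.2).2.2.2 (fun h => hj (Fin.ext h)) ?_
  rw [← H.pair j b]
  exact hb

end Mk

end Cfsg.Agent.H498.RP
end

-- part: H498/RP/Kron
section
/-!
# The eigenvector identity by evaluation at one large number (helper498)

A polynomial with integer coefficients of absolute value less than `B` which vanishes at `B` is zero.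
`eig_kron` : the eigenvectors of `Bop` for all parameters `x > 0`.
-/

set_option autoImplicit false

namespace Cfsg.Agent.H498.RP

open Cfsg.Agent.ChevalleyStructure.CoxeterGeom

/-- the value at an integer -/
def evZ (B : ℤ) : List ℤ → ℤ
  | [] => 0
  | a :: l => a + B * evZ B l

/-- the sum of the absolute values of the coefficients -/
def nrm : List ℤ → ℕ
  | [] => 0
  | a :: l => a.natAbs + nrm l

theorem evZ_add (B : ℤ) (l l' : List ℤ) : evZ B (addL l l') = evZ B l + evZ B l' := by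
  induction l generalizing l' with
  | nil => rw [addL, evZ, zero_add]
  | cons a l ih =>
    cases l' with
    | nil => rw [addL, evZ, evZ, add_zero]; simp
    | cons b l' =>
      rw [addL, evZ, evZ, evZ, ih]
      ring

theorem evZ_sm (B c : ℤ) (l : List ℤ) : evZ B (smL c l) = c * evZ B l := by
  induction l with
  | nil => rw [smL, evZ, mul_zero]
  | cons a l ih =>
    rw [smL, evZ, evZ, ih]
    ring

theorem evZ_mul (B : ℤ) (l l' : List ℤ) : evZ B (mulL l l') = evZ B l * evZ B l' := by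
  induction l with
  | nil => rw [mulL, evZ, zero_mul]
  | cons a l ih =>
    rw [mulL, evZ_add, evZ_sm, evZ, evZ, ih]
    ring

theorem evZ_sh (B : ℤ) (n : ℕ) (l : List ℤ) : evZ B (shL n l) = B ^ n * evZ B l := by
  induction n with
  | zero => rw [shL, pow_zero, one_mul]
  | succ n ih =>
    rw [shL, evZ, ih, pow_succ]
    ring

theorem nrm_add (l l' : List ℤ) : nrm (addL l l') ≤ nrm l + nrm l' := by
  induction l generalizing l' with
  | nil => rw [addL, nrm, zero_add]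
  | cons a l ih =>
    cases l' with
    | nil => rw [addL]; simp; simp
    | cons b l' =>
      rw [addL, nrm, nrm, nrm]
      have h1 := ih l'
      have h2 := Int.natAbs_add_le a b
      omega

theorem nrm_sm (c : ℤ) (l : List ℤ) : nrm (smL c l) = c.natAbs * nrm l := by
  induction l with
  | nil => rw [smL, nrm, mul_zero]
  | cons a l ih => rw [smL, nrm, nrm, ih, Int.natAbs_mul, mul_add]

theorem nrm_mul (l l' : List ℤ) : nrm (mulL l l') ≤ nrm l * nrm l' := by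
  induction l with
  | nil => rw [mulL, nrm]; simp
  | cons a l ih =>
    rw [mulL, nrm, add_mul]
    refine (nrm_add _ _).trans ?_
    rw [nrm_sm, nrm]
    simp only [Int.natAbs_zero, zero_add]
    omega

theorem nrm_sh (n : ℕ) (l : List ℤ) : nrm (shL n l) = nrm l := by
  induction n with
  | zero => rw [shL]
  | succ n ih => rw [shL, nrm, ih]; simp

theorem zL_of_evZ {B : ℕ} {l : List ℤ} (h : evZ B l = 0) (hn : nrm l < B) : zL l = true := by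
  induction l with
  | nil => rfl
  | cons a l ih =>
    rw [nrm] at hn
    rw [evZ] at h
    have h1 : (B : ℤ) ∣ a := ⟨-evZ B l, by linear_combination h⟩
    have h2 : a = 0 := by
      by_contra hne
      have h3 := Int.natAbs_dvd_natAbs.2 h1
      have h4 := Nat.le_of_dvd (Int.natAbs_pos.2 hne) h3
      simp at h4
      omega
    subst h2
    rw [zero_add] at h
    have h3 : evZ B l = 0 := by
      rcases mul_eq_zero.1 h with h4 | h4
      · exfalso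
        have h5 : B = 0 := by exact_mod_cast h4
        omega
      · exact h4
    rw [zL, ih h3 (by omega)]
    rfl

section Kron

variable {r : ℕ}

/-- the weights of a level -/
def ZL : List (ℕ × ℕ × Fin r) → List ℤ
  | [] => []
  | y :: l => addL (shL y.1 [1]) (ZL l)

/-- the operator at a level -/
def SL (u : Fin r → List ℤ) (k : Fin r) : List (ℕ × ℕ × Fin r) → List ℤ
  | [] => []
  | y :: l => addL (shL y.1 (tp u k y.2.1 y.2.2)) (SL u k l)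

/-- the value of `ZL` -/
def zB (B : ℕ) : List (ℕ × ℕ × Fin r) → ℕ
  | [] => 0
  | y :: l => B ^ y.1 + zB B l

/-- the value of `tp` -/
def tB (B : ℕ) (u : Fin r → ℤ) (k : Fin r) : ℕ → Fin r → ℤ
  | 1, l => (B : ℤ) * u l
  | 2, l => ((B : ℤ) - 1) * u k + u l
  | _, _ => (B : ℤ) * u k

/-- the value of `SL` -/
def sB (B : ℕ) (u : Fin r → ℤ) (k : Fin r) : List (ℕ × ℕ × Fin r) → ℤ
  | [] => 0
  | y :: l => ((B ^ y.1 : ℕ) : ℤ) * tB B u k y.2.1 y.2.2 + sB B u k l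

theorem evZ_ZL (B : ℕ) (l : List (ℕ × ℕ × Fin r)) : evZ B (ZL l) = zB B l := by
  induction l with
  | nil => rfl
  | cons y l ih =>
    rw [ZL, zB, evZ_add, evZ_sh, ih, evZ, evZ]
    push_cast
    ring

theorem evZ_tp (B : ℕ) (u : Fin r → List ℤ) (k : Fin r) (s : ℕ) (l : Fin r) :
    evZ B (tp u k s l) = tB B (fun l => evZ B (u l)) k s l := by
  rcases s with _ | _ | _ | s
  · show evZ B (0 :: u k) = (B : ℤ) * evZ B (u k)
    rw [evZ, zero_add]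
  · show evZ B (0 :: u l) = (B : ℤ) * evZ B (u l)
    rw [evZ, zero_add]
  · show evZ B (addL (addL (0 :: u k) (smL (-1) (u k))) (u l)) = ((B : ℤ) - 1) * evZ B (u k) + evZ B (u l)
    rw [evZ_add, evZ_add, evZ_sm, evZ]
    ring
  · show evZ B (0 :: u k) = (B : ℤ) * evZ B (u k)
    rw [evZ, zero_add]

theorem evZ_SL (B : ℕ) (u : Fin r → List ℤ) (k : Fin r) (l : List (ℕ × ℕ × Fin r)) :
    evZ B (SL u k l) = sB B (fun l => evZ B (u l)) k l := by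
  induction l with
  | nil => rfl
  | cons y l ih =>
    rw [SL, sB, evZ_add, evZ_sh, ih, evZ_tp]
    push_cast
    ring

theorem nrm_ZL (l : List (ℕ × ℕ × Fin r)) : nrm (ZL l) ≤ l.length := by
  induction l with
  | nil => exact le_refl _
  | cons y l ih =>
    rw [ZL, List.length_cons]
    refine (nrm_add _ _).trans ?_
    rw [nrm_sh, nrm, nrm]
    simp only [Int.natAbs_one]
    omega

theorem nrm_tp {u : Fin r → List ℤ} {C : ℕ} (hC : ∀ l, nrm (u l) ≤ C) (k : Fin r) (s : ℕ) (l : Fin r) :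
    nrm (tp u k s l) ≤ 3 * C := by
  have h1 := hC k
  have h2 := hC l
  unfold tp
  split
  · rw [nrm]; simp only [Int.natAbs_zero]; omega
  · refine (nrm_add _ _).trans ?_
    have h3 := nrm_add (0 :: u k) (smL (-1) (u k))
    rw [nrm, nrm_sm] at h3
    simp only [Int.natAbs_zero, Int.natAbs_neg, Int.natAbs_one] at h3
    omega
  · rw [nrm]; simp only [Int.natAbs_zero]; omega

theorem nrm_SL {u : Fin r → List ℤ} {C : ℕ} (hC : ∀ l, nrm (u l) ≤ C) (k : Fin r) (l : List (ℕ × ℕ × Fin r)) :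
    nrm (SL u k l) ≤ l.length * (3 * C) := by
  induction l with
  | nil => simp [SL, nrm]
  | cons y l ih =>
    rw [SL, List.length_cons, add_mul, one_mul]
    refine (nrm_add _ _).trans ?_
    rw [nrm_sh]
    have := nrm_tp hC k y.2.1 y.2.2
    omega

/-- the check of the eigenvectors: `C` bounds the coefficients of `U`, `L` the lengths of the levels -/
def checkK (dg : Fin r → List (ℕ × ℕ × Fin r)) (k1 : Fin r) (N : Fin r → List ℤ) (U : Fin r → Fin r → List ℤ)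
    (B C L D : ℕ) : Prop :=
  L * (L * (3 * C)) + D * (L * C) < B ∧ (∀ k, (dg k).length ≤ L) ∧ (∀ i k, nrm (U i k) ≤ C) ∧ (∀ i, nrm (N i) ≤ D) ∧
    ∀ i k, (zB B (dg k1) : ℤ) * sB B (fun l => evZ B (U i l)) k (dg k) = evZ B (N i) * (zB B (dg k) * evZ B (U i k))

instance (dg : Fin r → List (ℕ × ℕ × Fin r)) (k1 : Fin r) (N : Fin r → List ℤ) (U : Fin r → Fin r → List ℤ)
    (B C L D : ℕ) : Decidable (checkK dg k1 N U B C L D) := inferInstanceAs (Decidable (_ ∧ _ ∧ _ ∧ _ ∧ _))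

theorem zL_of_check {dg : Fin r → List (ℕ × ℕ × Fin r)} {k1 : Fin r} {N : Fin r → List ℤ}
    {U : Fin r → Fin r → List ℤ} {B C L D : ℕ} (h : checkK dg k1 N U B C L D) (i k : Fin r) :
    zL (addL (mulL (ZL (dg k1)) (SL (U i) k (dg k))) (smL (-1) (mulL (N i) (mulL (ZL (dg k)) (U i k))))) = true := by
  obtain ⟨h1, h2, h3, h4, h5⟩ := h
  refine zL_of_evZ (B := B) ?_ ?_
  · rw [evZ_add, evZ_sm, evZ_mul, evZ_mul, evZ_mul, evZ_ZL, evZ_ZL, evZ_SL, h5 i k]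
    ring
  · refine lt_of_le_of_lt ((nrm_add _ _).trans ?_) h1
    rw [nrm_sm]
    simp only [Int.natAbs_neg, Int.natAbs_one, one_mul]
    have a1 := (nrm_mul (ZL (dg k1)) (SL (U i) k (dg k))).trans
      (Nat.mul_le_mul ((nrm_ZL _).trans (h2 k1)) ((nrm_SL (h3 i) k _).trans (Nat.mul_le_mul_right _ (h2 k))))
    have a2 := (nrm_mul (N i) (mulL (ZL (dg k)) (U i k))).trans
      (Nat.mul_le_mul (h4 i) ((nrm_mul _ _).trans (Nat.mul_le_mul ((nrm_ZL _).trans (h2 k)) (h3 i k))))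
    exact Nat.add_le_add a1 a2

theorem evL_ZL (x : ℚ) (l : List (ℕ × ℕ × Fin r)) : evL x (ZL l) = (l.map fun y => x ^ y.1).sum := by
  induction l with
  | nil => rfl
  | cons y l ih =>
    rw [ZL, evL_add, evL_sh, ih, List.map_cons, List.sum_cons, evL_cons, evL_nil]
    push_cast
    ring

theorem evL_SL (x : ℚ) (u : Fin r → List ℤ) (k : Fin r) (l : List (ℕ × ℕ × Fin r)) :
    evL x (SL u k l) = (l.map fun y => x ^ y.1 * evL x (tp u k y.2.1 y.2.2)).sum := by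
  induction l with
  | nil => rfl
  | cons y l ih => rw [SL, evL_add, evL_sh, ih, List.map_cons, List.sum_cons]

theorem ZL_pos {x : ℚ} (hx : 0 < x) {l : List (ℕ × ℕ × Fin r)} (hl : l ≠ []) : 0 < (l.map fun y => x ^ y.1).sum := by
  have h0 : ∀ l : List (ℕ × ℕ × Fin r), 0 ≤ (l.map fun y => x ^ y.1).sum := by
    intro l
    induction l with
    | nil => exact le_refl _
    | cons y l ih =>
      rw [List.map_cons, List.sum_cons]
      have := pow_pos hx y.1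
      linarith
  cases l with
  | nil => exact absurd rfl hl
  | cons y l =>
    rw [List.map_cons, List.sum_cons]
    have := pow_pos hx y.1
    have := h0 l
    linarith

end Kron

section Tab

variable {I : Type*} [Fintype I] [DecidableEq I] {A : I → I → ℤ} {i0 : I} {m r : ℕ} (O : Orb A i0 m r)
  (ex : Fin m → ℕ)

/-- the data by levels -/
def IsDat (dg : Fin r → List (ℕ × ℕ × Fin r)) : Prop :=
  ∀ (k : Fin r) (F : ℕ → ℕ → Fin r → ℚ),
    (∑ b, if O.lv b = k then F (ex b) (sgn O b) (O.lv (O.act i0 b)) else 0) = ((dg k).map fun y => F y.1 y.2.1 y.2.2).sum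

theorem lsum_dat {dg : Fin r → List (ℕ × ℕ × Fin r)} (hd : IsDat O ex dg) (x : ℚ) (f : ℕ → Fin r → ℚ)
    (Φ : Fin m → ℚ) (k : Fin r) (hΦ : ∀ b, O.lv b = k → Φ b = f (sgn O b) (O.lv (O.act i0 b))) :
    lsum O (fun b => x ^ ex b) Φ k = ((dg k).map fun y => x ^ y.1 * f y.2.1 y.2.2).sum := by
  rw [← hd k (fun e s l => x ^ e * f s l)]
  unfold lsum
  refine Finset.sum_congr rfl fun b _ => ?_
  by_cases hb : O.lv b = k
  · rw [if_pos hb, if_pos hb, hΦ b hb]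
  · rw [if_neg hb, if_neg hb]

/-- **The eigenvectors, all positive parameters.** -/
theorem eig_kron {dg : Fin r → List (ℕ × ℕ × Fin r)} (hd : IsDat O ex dg) (hne : ∀ k, dg k ≠ []) {k1 : Fin r}
    {N : Fin r → List ℤ} {U : Fin r → Fin r → List ℤ} {B C L D : ℕ} (hc : checkK dg k1 N U B C L D) {x : ℚ}
    (hx : 0 < x) (i : Fin r) :
    Bop O (fun _ => x) (fun b => x ^ ex b) (fun k => evL x (U i k)) =
      (evL x (N i) / ((dg k1).map fun y => x ^ y.1).sum) • fun k => evL x (U i k) := by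
  funext k
  have h1 := evL_zL x (zL_of_check hc i k)
  rw [evL_add, evL_mul, evL_sm, evL_mul, evL_mul, evL_ZL, evL_ZL, evL_SL] at h1
  have h2 : lsum O (fun b => x ^ ex b) (Tf O (fun _ => x) i0 (fun b => evL x (U i (O.lv b)))) k =
      ((dg k).map fun y => x ^ y.1 * evL x (tp (U i) k y.2.1 y.2.2)).sum :=
    lsum_dat O ex hd x (fun s l => evL x (tp (U i) k s l)) _ k fun b hb => by rw [Tf_tp, hb]
  have h3 : lsum O (fun b => x ^ ex b) (fun _ => 1) k = ((dg k).map fun y => x ^ y.1).sum := by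
    rw [lsum_dat O ex hd x (fun _ _ => 1) _ k fun b _ => rfl]
    simp only [mul_one]
  have h4 := (ZL_pos hx (hne k)).ne'
  have h5 := (ZL_pos hx (hne k1)).ne'
  rw [Bop_apply, h2, h3, Pi.smul_apply, smul_eq_mul, div_mul_eq_mul_div, div_eq_div_iff h4 h5]
  push_cast at h1
  linear_combination h1

theorem inj_kron {dg : Fin r → List (ℕ × ℕ × Fin r)} (hne : ∀ k, dg k ≠ []) {k1 : Fin r} {N : Fin r → List ℤ}
    (hN : ∀ i j, i < j → posL (addL (N i) (smL (-1) (N j))) = true) {x : ℚ} (hx : 2 ≤ x) :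
    Function.Injective fun i => evL x (N i) / ((dg k1).map fun y => x ^ y.1).sum := by
  have h5 := ZL_pos (x := x) (by linarith) (hne k1)
  have key : ∀ i j, i < j → evL x (N i) / ((dg k1).map fun y => x ^ y.1).sum ≠
      evL x (N j) / ((dg k1).map fun y => x ^ y.1).sum := by
    intro i j hij h
    rw [div_left_inj' h5.ne'] at h
    have h1 := evL_pos hx (hN i j hij)
    rw [evL_add, evL_sm, h] at h1
    push_cast at h1
    linarith
  intro i j hij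
  by_contra hne'
  rcases lt_or_gt_of_ne hne' with h1 | h1
  · exact key i j h1 hij
  · exact key j i h1 hij.symm

end Tab

/-! ### the data of a tree -/

section Dat

/-- the entries of a level, collected downwards -/
def gath (T : BT Rw) (row : List ℤ) (i0 k : ℕ) : ℕ → List (ℕ × ℕ × ℕ) → List (ℕ × ℕ × ℕ)
  | 0, acc => acc
  | b + 1, acc => cond (Nat.beq (T.get b).l k)
      (gath T row i0 k b (((T.get b).e, (cond (decide (0 < dotL row (T.get b).v)) 1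
        (cond (decide (dotL row (T.get b).v < 0)) 2 0)), (T.get (nn (T.get b).a i0)).l) :: acc))
      (gath T row i0 k b acc)

/-- equality of the entries -/
def eqE {r : ℕ} : List (ℕ × ℕ × ℕ) → List (ℕ × ℕ × Fin r) → Bool
  | [], [] => true
  | x :: l, y :: l' => (Nat.beq x.1 y.1 && Nat.beq x.2.1 y.2.1 && Nat.beq x.2.2 y.2.2) && eqE l l'
  | _, _ => false

theorem eqE_sum {r : ℕ} {l : List (ℕ × ℕ × ℕ)} {l' : List (ℕ × ℕ × Fin r)} (h : eqE l l' = true)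
    (F : ℕ → ℕ → ℕ → ℚ) : (l.map fun x => F x.1 x.2.1 x.2.2).sum = (l'.map fun y => F y.1 y.2.1 y.2.2).sum := by
  induction l generalizing l' with
  | nil => cases l' with
    | nil => rfl
    | cons y l' => simp [eqE] at h
  | cons x l ih => cases l' with
    | nil => simp [eqE] at h
    | cons y l' =>
      rw [eqE, Bool.and_eq_true, Bool.and_eq_true, Bool.and_eq_true, Nat.beq_eq, Nat.beq_eq, Nat.beq_eq] at h
      rw [List.map_cons, List.sum_cons, List.map_cons, List.sum_cons, ih h.2, h.1.1.1, h.1.1.2, h.1.2]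

theorem gath_sum (T : BT Rw) (row : List ℤ) (i0 k : ℕ) (m : ℕ) (acc : List (ℕ × ℕ × ℕ)) (F : ℕ → ℕ → ℕ → ℚ) :
    ((gath T row i0 k m acc).map fun x => F x.1 x.2.1 x.2.2).sum =
      (∑ b : Fin m, if (T.get b).l = k then F (T.get b).e (cond (decide (0 < dotL row (T.get b).v)) 1
        (cond (decide (dotL row (T.get b).v < 0)) 2 0)) (T.get (nn (T.get b).a i0)).l else 0) +
      (acc.map fun x => F x.1 x.2.1 x.2.2).sum := by
  induction m generalizing acc with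
  | zero => simp [gath]
  | succ m ih =>
    rw [gath, Fin.sum_univ_castSucc]
    by_cases h : (T.get m).l = k
    · have h1 : Nat.beq (T.get m).l k = true := by rw [h]; exact Nat.beq_refl k
      rw [h1, cond_true, ih, List.map_cons, List.sum_cons, Fin.val_last, if_pos h]
      simp only [Fin.val_castSucc]
      ring
    · have h1 : Nat.beq (T.get m).l k = false := by
        rw [Bool.eq_false_iff]
        intro h2
        exact h (Nat.beq_eq.mp h2)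
      rw [h1, cond_false, ih, Fin.val_last, if_neg h]
      simp only [Fin.val_castSucc]
      ring

/-- **The data of a table.** -/
theorem TabC.isDat {n m r : ℕ} {A : Fin n → Fin n → ℤ} {i0 : Fin n} {T : BT Rw} {rows : List (List ℤ)} {bs : List ℕ}
    {hsh : List ℤ} {b0 : ℕ} {wd : Fin r → List (Fin n)} [NeZero m] [NeZero r]
    (H : TabC m r A i0 T rows bs hsh b0 wd) {dg : Fin r → List (ℕ × ℕ × Fin r)}
    (hdg : ∀ k : Fin r, eqE (gath T (nl rows i0) i0 k m []) (dg k) = true) :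
    IsDat (mkOrb H) (fun b => (T.get b).e) dg := by
  intro k F
  have h1 := eqE_sum (hdg k) (fun e s l => F e s (Fin.ofNat r l))
  have h2 : ((dg k).map fun y => F y.1 y.2.1 (Fin.ofNat r (y.2.2 : ℕ))) = (dg k).map fun y => F y.1 y.2.1 y.2.2 := by
    refine List.map_congr_left fun y _ => ?_
    congr 1
    apply Fin.ext
    rw [Fin.val_ofNat, Nat.mod_eq_of_lt y.2.2.2]
  rw [h2] at h1
  rw [← h1, gath_sum T (nl rows i0) i0 k m [] (fun e s l => F e s (Fin.ofNat r l))]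
  simp only [List.map_nil, List.sum_nil, add_zero]
  refine Finset.sum_congr rfl fun b _ => ?_
  have h3 : ((mkOrb H).lv b = k) ↔ ((T.get b).l = k) := by
    show (Fin.ofNat r (T.get b).l = k) ↔ _
    rw [Fin.ext_iff, H.val_lv]
  have h4 : (mkOrb H).lv ((mkOrb H).act i0 b) = Fin.ofNat r (T.get (nn (T.get b).a i0)).l := by
    show Fin.ofNat r (T.get ((Fin.ofNat m (nn (T.get b).a i0) : Fin m) : ℕ)).l = _
    rw [H.val_act]
  have h5 : sgn (mkOrb H) b = (cond (decide (0 < dotL (nl rows i0) (T.get b).v)) 1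
      (cond (decide (dotL (nl rows i0) (T.get b).v < 0)) 2 0)) := by
    unfold sgn
    have h6 : pairing A i0 ((mkOrb H).vec b) = dotL (nl rows i0) (T.get b).v := H.pair i0 b
    rw [h6]
    by_cases h7 : 0 < dotL (nl rows i0) (T.get b).v
    · rw [if_pos h7, decide_eq_true h7]; rfl
    · rw [if_neg h7, decide_eq_false h7, cond_false]
      by_cases h8 : dotL (nl rows i0) (T.get b).v < 0
      · rw [if_pos h8, decide_eq_true h8]; rfl
      · rw [if_neg h8, decide_eq_false h8]; rfl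
  by_cases hb : (T.get b).l = k
  · rw [if_pos (h3.2 hb), if_pos hb, h4, h5]
  · rw [if_neg (fun h => hb (h3.1 h)), if_neg hb]

end Dat

end Cfsg.Agent.H498.RP
end

-- part: H498/RP/ChevK
section
/-!
# Untwisted groups, large tables (helper498)

`int_chev_kron` : the constituents of `1_{P_J}` are integer valued; the table is a binary tree, the eigenvector identity
is checked at one large number.
-/

set_option autoImplicit false
set_option linter.unusedSectionVars false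

open Cfsg

namespace Cfsg.Agent.H498.RP

open CoxeterSystem Cfsg.Agent.ChevalleyStructure.CoxeterGeom Cfsg.Agent.Tits.Roots Cfsg.Agent.Tits.Core
  Cfsg.Agent.Tits.Exchange Cfsg.Agent.Nodes.Reps Cfsg.Agent.Nodes.BNOf Cfsg.Agent.Nodes.StabComb
  Cfsg.Agent.Nodes.Bruhat Cfsg.Agent.Nodes.OppDec Cfsg.Agent.Nodes.LeviDec Cfsg.Agent.Nodes.NormalForm
  Cfsg.Agent.H35.ExcIdx Cfsg.Lie Cfsg.Agent.Nodes.RGDChev Cfsg.Agent.ChevalleyStructure.NPerm

universe u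

variable {D : ChevalleyDatum} {l : ℕ} {M : CoxeterMatrix (Fin l)} (hp : IsType D l M) (K : Type u) [Field K]
  [Fintype K]

/-- **Untwisted groups, large tables.** -/
theorem int_chev_kron {A : Fin l → Fin l → ℤ} (hA : IsCartan M A) {i0 : Fin l} {m r : ℕ} [NeZero m] [NeZero r]
    {T : BT Rw} {rows : List (List ℤ)} {bs : List ℕ} {hsh : List ℤ} {b0 : ℕ} {wd : Fin r → List (Fin l)}
    (H : TabC m r A i0 T rows bs hsh b0 wd) (hex1 : ∀ k : Fin r, (T.get (nn bs k)).e = 0)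
    {dg : Fin r → List (ℕ × ℕ × Fin r)} (hdg : ∀ k : Fin r, eqE (gath T (nl rows i0) i0 k m []) (dg k) = true)
    (hne : ∀ k, dg k ≠ []) {k1 : Fin r} {N : Fin r → List ℤ} {U : Fin r → Fin r → List ℤ} {B C L Dn : ℕ}
    (hc : checkK dg k1 N U B C L Dn)
    (hN : ∀ i j, i < j → posL (addL (N i) (smL (-1) (N j))) = true) {k0 : Fin r}
    (hU0 : ∀ i, posL (U i k0) = true)
    [Fintype (PJ M.toCoxeterSystem hp.isCartan (TT D K) (XX D l K) {j | j ≠ i0})]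
    {χ : ↥(D.group K) → ℂ} (hχ : IsIrrCharacter ↥(D.group K) χ)
    (h0 : ∑ g : PJ M.toCoxeterSystem hp.isCartan (TT D K) (XX D l K) {j | j ≠ i0}, χ g ≠ 0) (g : ↥(D.group K)) :
    ∃ k : ℤ, χ g = k := by
  classical
  obtain ⟨p, hpc⟩ := CharP.exists K
  have hpp : Fact p.Prime := ⟨CharP.char_is_prime K p⟩
  have hfin : Finite M.Group := finite_W hp M.toCoxeterSystem
  have R := rgd (K := K) hp M.toCoxeterSystem p
  have hcard : ∀ i, Nat.card (XX D l K (sr i)) = (fun _ : Fin l => Fintype.card K) i := fun i => by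
    rw [card_XX hp K M.toCoxeterSystem (isRoot_sr _ _ i), Nat.card_eq_fintype_card]
  obtain ⟨Δ, hiso, htr, hΔ, hPJ⟩ := exists_bldg_PJ R (GG_eq_top hp K _) hcard
  have hfS : Fintype ↥(D.group K) := Fintype.ofFinite _
  have hfC : Fintype (↥(D.group K) ⧸ RGD.B M.toCoxeterSystem hp.isCartan (TT D K) (XX D l K)) := Fintype.ofFinite _
  have hx : (2 : ℚ) ≤ (Fintype.card K : ℚ) := by
    have := Fintype.one_lt_card (α := K)
    exact_mod_cast this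
  have hx0 : (0 : ℚ) < (Fintype.card K : ℚ) := by linarith
  refine int_of_table (mkOrb H) hA Δ hΔ hiso htr (wt := fun b => (Fintype.card K : ℚ) ^ (T.get b).e)
    (U := fun i k => evL (Fintype.card K : ℚ) (U i k))
    (θ := fun i => evL (Fintype.card K : ℚ) (N i) / ((dg k1).map fun y => (Fintype.card K : ℚ) ^ y.1).sum) ?_ ?_
    (inj_kron hne hN hx) ?_ (fun i => ?_) (QuotientGroup.mk 1) _ (fun g => hPJ _ g) hχ (by convert h0) g
  · intro k
    show (Fintype.card K : ℚ) ^ (T.get ((Fin.ofNat m (nn bs k) : Fin m) : ℕ)).e = 1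
    rw [H.val_base, hex1, pow_zero]
  · intro j hj b hb
    show (Fintype.card K : ℚ) ^ (T.get ((mkOrb H).act j b)).e = (Fintype.card K : ℚ) * (Fintype.card K : ℚ) ^ (T.get b).e
    rw [H.ex2 j hj b hb, pow_succ, mul_comm]
  · intro i h1
    have h2 := congrFun h1 k0
    exact (evL_pos hx (hU0 i)).ne' h2
  · exact eig_kron (mkOrb H) (fun b => (T.get b).e) (H.isDat hdg) hne hc hx0 i

end Cfsg.Agent.H498.RP
end

-- part: H498/RP/E8D7
section
/-!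
# Tables (helper498), generated
-/

set_option autoImplicit false
set_option maxRecDepth 100000
set_option maxHeartbeats 0

open Cfsg

namespace Cfsg.Agent.H498.RP

open Cfsg.Agent.ChevalleyStructure.CoxeterGeom Cfsg.Agent.H35.ExcIdx Cfsg.Lie Cfsg.Agent.Nodes.RGDChev
  Cfsg.Agent.Nodes.LeviDec Cfsg.Agent.ChevalleyStructure.CoxeterGeomTypes

universe u

/-- the Cartan matrix -/
def cE8 : Fin 8 → Fin 8 → ℤ := (beta% delta% lq263cdfc1e1 fun _ _ _ _ _ k _ _ _ _ q _ _ _ _ =>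
 (k (k 2<|k 0<|k (-1)<|k 0<|k 0<|k 0<|k 0<|k 0<|q)<|k (k 0<|k 2<|k 0<|k (-1)<|k 0<|k 0<|k 0<|k 0<|q)<|k (k (-1)<|k 0<|k 2<|k (-1)<|k 0<|k 0<|k 0<|k 0<|q)<|k (k 0<|k (-1)<|k (-1)<|k 2<|k (-1)<|k 0<|k 0<|k 0<|q)<|k (k 0<|k 0<|k 0<|k (-1)<|k 2<|k (-1)<|k 0<|k 0<|q)<|k (k 0<|k 0<|k 0<|k 0<|k (-1)<|k 2<|k (-1)<|k 0<|q)<|k (k 0<|k 0<|k 0<|k 0<|k 0<|k (-1)<|k 2<|k (-1)<|q)<|k (k 0<|k 0<|k 0<|k 0<|k 0<|k 0<|k (-1)<|k 2<|q)<|q))

theorem cE8_eq : cartanOf chevE8 8 = cE8 := by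
  funext i j
  revert i j
  decide +kernel

theorem isCartan_cE8 : IsCartan CoxeterMatrix.E₈ cE8 := by
  rw [← cE8_eq]
  exact isCartan_E8

namespace E8D7

/-- 270 rows of the table -/
def p0 : ℕ :=
  0x15610d10d10d10d10d10f10b10c7b9ac5b1cf00810c10c10c10c10c10c10a10d7b9ac5b1cd16610b10b10b10b10610e10d10a7b9ac5b1af01810a10a10a10a10510a10c10b7b9ac5b1ad1661091091090fb1121061091087b9ac535af0e71081081080fa1111031081097b9ac535ae0e71071071070f91101071041077b9ac531ce1761061061060f810b1091061057b9ac531af0281051051050f710a1021051067b9ac531ad0f71041041040f61041041071047b9ac5318e0f71031031030f51031081031027b9ac52dae0381021021020f41021051021037b9ac52dad1561011010e31201011010ff1007b9ab5b5cf0d71001000e211f1000fd0fe1017b9ab5b5ce1660ff0ff0e111e0fb0ff1010fe7b9ab5b5af0e70fe0fe0e011d0fa0fc1000ff7b9ab5b5ae0e70fd0fd0df11c0f91000fc0fd7b9ab5b1ce0f70fc0fc0de11b0f30fe0fd0fc7b9ab5b1ae1760fb0fb0dd1090ff0f80fb0f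a7b9ab535af0f70fa0fa0dc1080fe0f50fa0fb7b9ab535ae0f70f90f90db1070fd0f90f60f97b9ab531ce1860f80f80da1060f80fb0f80f77b9ab531af0380f70f70d91050f70f40f70f87b9ab531ad1070f60f60d81040f20f60f90f67b9ab5318e1070f50f50d71030f10fa0f50f47b9ab52dae0480f40f40d61020f00f70f40f57b9ab52dad1070f30f30d50f30fc0f10f20f37b9ab4b1ae1170f20f20d40f20f60ef0f30f27b9ab4b18e1170f10f10d30f10f50f30ef0f07b9ab4adae0580f00f00d20f00f40f00ee0f17b9ab4adad1270ef0ef0d10ef0ef0f20f10ee7b9ab4ad8e0680ee0ee0d00ee0ee0ee0f00ef7b9ab4ad8d1360ed0b51470ed0ed0ec0ed0ed7b98c639cf1460ec0b41460ec0ea0ed0ec0eb7b98c635cf0c70eb0b31450eb0e90eb0eb0ec7b98c635ce1560ea0b21410e30ec0ea0e80e97b98c5b5cf0d70e90b11400e20eb0e60e70ea7b98c5b5ce1660e80b013f0e10e80e80ea0e77b98c5b5af0e70e70af13e0e00e70e50e90e87b98c5b5ae0e70e60ae13d0df0e60e90e50e67b98c5b1ce0f70e50ad13c0de0e40e70e60e57b98c5b1ae1070e40ac1390cf0e50e40e40e47b98c531ae1660e30ab1010ea0e30e30e10e27b98b5b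5cf0e70e20aa1000e90e20df0e00e37b98b5b5ce1760e10a90ff0e80dd0e10e30e07b98b5b5af0f70e00a80fe0e70dc0de0e20e17b98b5b5ae0f70df0a70fd0e60db0e20de0df7b98b5b1ce1070de0a60fc0e50d50e00df0de7b98b5b1ae1860dd0a50fb0dd0e10da0dd0dc7b98b535af1070dc0a40fa0dc0e00d70dc0dd7b98b535ae1070db0a30f90db0df0db0d80db7b98b531ce1960da0a20f80da0da0dd0da0d97b98b531af0480d90a10f70d90d90d60d90da7b98b531ad1170d80a00f60d80d40d80db0d87b98b5318e1170d709f0f50d70d30dc0d70d67b98b52dae0580d609e0f40d60d20d90d60d77b98b52dad1170d509d0f30ce0de0d30d40d57b98b4b1ae1270d409c0f20cd0d80d10d50d47b98b4b18e1270d309b0f10cc0d70d50d10d27b98b4adae0680d209a0f00cb0d60d20d00d37b98b4adad1370d10990ef0ca0d10d40d30d07b98b4ad8e0780d00980ee0c90d00d00d20d17b98b4ad8d1170cf0970cf0e40ce0cf0cf0cf7b98a531ae1270ce0960ce0d50cf0cc0cd0ce7b98a4b1ae1370cd0950cd0d40cd0ca0ce0cd7b98a4b18e1370cc0940cc0d30cc0ce0ca0cb7b98a4adae0780cb0930cb0d20cb0cb0c90cc7b98a4adad1470c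a0920ca0d10c80cd0cc0c97b98a4ad8e0880c90910c90d00c70c90cb0ca7b98a4ad8d1570c80900c80c80ca0c80c80c77b98a42d8e0980c708f0c70c70c90c60c70c87b98a42d8d0a80c608e0c60c60c60c70c60c67b98a4298d1060621ab0c50c50c50c50c40c57b5ad6b9ef1160611aa0c40c40c30c40c50c47b5ad6b9cf1260601a30c30c00c40c20c30c37b5ad639cf13605f1a20c20bf0c20c30c20c17b5ad635cf0b705e1a10c10be0c10c10c10c27b5ad635ce13605d19d0b50c30c00bf0c00c07b5ac639cf14605c19c0b40c20bd0c00bf0be7b5ac635cf0c705b19b0b30c10bc0be0be0bf7b5ac635ce15605a1970b20bd0bf0bd0bb0bc7b5ac5b5cf0d70591960b10bc0be0b90ba0bd7b5ac5b5ce1660581950b00bb0bb0bb0bd0ba7b5ac5b5af0e70571940af0ba0ba0b80bc0bb7b5ac5b5ae0e70561930ae0b90b90bc0b80b97b5ac5b1ce0f70551920ad0b80b70ba0b90b87b5ac5b1ae10705418f0ac0b60b80b70b70b77b5ac531ae11705318708d0b70b60b60b60b67b5ab531ae1460520ed0c00b50b50b40b50b57b58c639cf1560510ec0bf0b40b20b50b40b37b58c635cf0d70500eb0be0b30b10b30b30b47b58c635ce16604f0ea0bd0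ab0b40b20b00b17b58c5b5cf0e704e0e90bc0aa0b30ae0af0b27b58c5b5ce17604d0e80bb0a90b00b00b20af7b58c5b5af0f704c0e70ba0a80af0ad0b10b07b58c5b5ae0f704b0e60b90a70ae0b10ad0ae7b58c5b1ce10704a0e50b80a60ac0af0ae0ad7b58c5b1ae1170490e40b70970ad0ac0ac0ac7b58c531ae1760480e30ab0b20ab0ab0a90aa7b58b5b5cf0f70470e20aa0b10aa0a70a80ab7b58b5b5ce1860460e10a90b00a50a90ab0a87b58b5b5af1070450e00a80af0a40a60aa0a97b58b5b5ae1070440df0a70ae0a30aa0a60a77b58b5b1ce1170430de0a60ad09d0a80a70a67b58b5b1ae1960420dd0a50a50a90a20a50a47b58b535af1170410dc0a40a40a809f0a40a57b58b535ae1170400db0a30a30a70a30a00a37b58b531ce1a603f0da0a20a20a20a50a20a17b58b531af05803e0d90a10a10a109e0a10a27b58b531ad12703d0d80a00a009c0a00a30a07b58b5318e12703c0d709f09f09b0a409f09e7b58b52dae06803b0d609e09e09a0a109e09f7b58b52dad12703a0d509d0960a609b09c09d7b58b4b1ae1370390d409c0950a009909d09c7b58b4b18e1370380d309b09409f09d09909a7b58b4adae0780370d209a09309e09a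09809b7b58b4adad1470360d109909209909c09b0987b58b4ad8e0880350d009809109809809a0997b58b4ad8d1270340cf08c0ac0960970970977b58a531ae1370330ce08b09d0970940950967b58a4b1ae1470320cd08a09c0950920960957b58a4b18e1470310cc08909b0940960920937b58a4adae0880300cb08809a0930930910947b58a4adad15702f0ca0870990900950940917b58a4ad8e09802e0c908609808f0910930927b58a4ad8d16702d0c808509009209009008f7b58a42d8e0a802c0c708408f09108e08f0907b58a42d8d0b802b0c608308e08e08f08e08e7b58a4298d12702a08d0b608c08d08d08d08d7b56b531ae13702908c09708d08b08c08c08c7b56a531ae14702808b09608b08c08908a08b7b56a4b1ae15702708a09508a08a08708b08a7b56a4b18e15702608909408908908b0870887b56a4adae0980250880930880880880860897b56a4adad16702408709208708508a0890867b56a4ad8e0a80230860910860840860880877b56a4ad8d1770220850900820870850850847b56a42d8e0b802108408f0810860830840857b56a42d8d0c802008308e0800830840830837b56a4298d18701f0820820850820820820817b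56942d8e0c801e0810810840810800810827b56942d8d0d801d08008008307f0810800807b5694298d0e801c07f07f07f08007f07e07f7b5693a98d0f801b07e07e07e07e07e07f07e7b5693a96d0c52b807d07d07d07d07d07d07c739ce73df00c62b707c07c07c07c07b07c07d739ce73def0d62b407b07b07b07a07c07b07b739ce739ef0e62ad07a07a07807b07a07907a739ce6b9ef0f62ac07907907707907907a079739ce6b9cf0f62a407807307a078078077078739cd6b9ef1062a3077072079076077078077739cd6b9cf11629c076071076077075076076739cd639cf12629b075070075075076075074739cd635cf0a729a07406f074074074074075739cd635ce106294062078073073073072073739ad6b9ef116293061077072071072073072739ad6b9cf12628c06007606e072070071071739ad639cf13628b05f07506d07007107006f739ad635cf0b728a05e07406c06f06f06f070739ad635ce13628605d06e07106e06d06e06e739ac639cf14628505c06d07006b06e06d06c739ac635cf0c728405b06c06f06a06c06c06d739ac635ce15628005a06b06b06d06b06906a739ac5b5cf0d727f05906a06a06c06706806b739ac5b5ce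16627e05806906906906906b068739ac5b5af0e727d05706806806806606a069739ac5b5ae0e727c05606706706706a066067739ac5b1ce0f727b055066066065068067066739ac5b1ae107278054065064066065065065739ac531ae117270053063065064064064064739ab531ae12725101a0640630630630630637398b531ae1160c5073062062062062061062735ad6b9ef1260c4072061061060061062061735ad6b9cf1360c307106005d06105f060060735ad639cf1460c207005f05c05f06005f05e735ad635cf0c70c106f05e05b05e05e05e05f735ad635ce1460c006e05206005d05c05d05d735ac639cf1560bf06d05105f05a05d05c05b735ac635cf0d70be06c05005e05905b05b05c735ac635ce1660bd06b04f05a05c05a058059735ac5b5cf0e70bc06a04e05905b05605705a735ac5b5ce1760bb06904d05805805805a057735ac5b5af0f70ba06804c057057055059058735ac5b5ae0f70b906704b056056059055056735ac5b1ce1070b806604a055054057056055735ac5b1ae1170b7065049053055054054054735ac531ae1270b606402a054053053053053735ab531ae1560b505205d0520520510520527358c639cf1660b405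105c05104f0520510507358c635cf0e70b305005b05004e0500500517358c635ce1760b204f05a04805104f04d04e7358c5b5cf0f70b104e05904705004b04c04f7358c5b5ce1860b004d05804604d04d04f04c7358c5b5af1070af04c05704504c04a04e04d7358c5b5ae1070ae04b05604404b04e04a04b7358c5b1ce1170ad04a05504304904c04b04a7358c5b1ae1270ac04905403404a0490490497358c531ae1860ab04804804f0480480460477358b5b5cf1070aa04704704e0470440450487358b5b5ce1960a904604604d0420460480457358b5b5af1170a804504504c0410430470467358b5b5ae1170a704404404b0400470430447358b5b1ce1270a604304304a03a0450440437358b5b1ae1a60a504204204204603f0420417358b535af1270a404104104104503c0410427358b535ae1270a304004004004404003d0407358b531ce1b60a203f03f03f03f04203f03e7358b531af0680a103e03e03e03e03b03e03f7358b531ad1370a003d03d03d03903d04003d7358b5318e13709f03c03c03c03804103c03b7358b52dae07809e03b03b03b03703e03b03c7358b52dad13709d03a03a03304303803903a7358b4b1ae14709c0390390320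3d03603a0397358b4b18e14709b03803803103c03a0360377358b4adae08809a03703703003b0370350387358b4adad15709903603602f0360390380357358b4ad8e09809803503502e0350350370367358b4ad8d1370970340290490330340340347358a531ae14709603302803a0340310320337358a4b1ae15709503202703903202f0330327358a4b18e15709403102603803103302f0307358a4adae09809303002503703003002e0317358a4adad16709202f02403602d03203102e7358a4ad8e0a809102e02303502c02e03002f7358a4ad8d17709002d02202d02f02d02d02c7358a42d8e0b808f02c02102c02e02b02c02d7358a42d8d0c808e02b02002b02b02c02b02b7358a4298d13708d01905302902a02a02a02a7356b531ae14708c01803402a0280290290297356a531ae15708b0170330280290260270287356a4b1ae16708a0160320270270240280277356a4b18e1670890150310260260280240257356a4adae0a80880140300250250250230267356a4adad17708701302f0240220270260237356a4ad8e0b808601202e0230210230250247356a4ad8d18708501102d01f0240220220217356a42d8e0c808401002c01e023020021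0227356a42d8d0d808300f02b01d0200210200207356a4298d19708200e01f02201f01f01f01e7356942d8e0d808100d01e02101e01d01e01f7356942d8d0e808000c01d02001c01e01d01d735694298d0f807f00b01c01c01d01c01b01c735693a98d10807e00a01b01b01b01b01c01b735693a96d13701a06301901a01a01a01a01a7318b531ae14701902a01a0180190190190197316b531ae1570180290180190170180180187316a531ae1670170280170170180150160177316a4b1ae1770160270160160160130170167316a4b18e1770150260150150150170130147316a4adae0b80140250140140140140120157316a4adad1870130240130130110160150127316a4ad8e0c80120230120120100120140137316a4ad8d19701102201100e0130110110107316a42d8e0d801002101000d01200f0100117316a42d8d0e800f02000f00c00f01000f00f7316a4298d1a700e01f00901100e00e00e00d7316942d8e0e800d01e00801000d00c00d00e7316942d8d0f800c01d00700f00b00d00c00c731694298d10800b01c00600b00c00b00a00b731693a98d11800a01b00500a00a00a00b00a731693a96d1b700900900e0090090090090087314942d8e0f800800800d0080080070080097314942d8d10800700700c007006008007007731494298d11800600600b004007006005006731493a98d12800500500a003005005006005731493a96d128004004004006004004003004731483a98d138003003003005002003004003731483a96d148002002002002003001002002731483296d158001001001001001002001000731483256d009000000000000000000000001731483256c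

/-- 270 rows of the table -/
def p1 : ℕ :=
  0xc635621b1ee23a21021b21d21c7bdee7bdef15435521a1ed22b21f21421a21a7bdee741f01543542191ec22a21e2192172187bdee73e100c63532181eb22921d2152162197bdee73e0f1643522171ea22820f2172192167bdee73dd00d63512161e922720e2122182177bdee73dcf0d63502151e82262152182122157bdee73a0f16434f2141e722520d21a2142137bdee739f004734e2131e622420c2132132147bdee739ee0e634d2121e52232052162152127bdee739cf16434c2111e421121c20d20f2107bdee6bdf00d634b2101e321021b20920e2117bdee6bdef17434a20f1e220f21720b21120e7bdee6bdd00e634920e1e120e21620721020f7bdee6bdcf17434820d1e020d21421120b20c7bdee6b9f005734720c1df20c21320820a20d7bdee6b9ee18434620b1de20b20b20f20d20a7bdee6b9d006734520a1dd20a20a20620c20b7bdee6b9ce0e63442091dc2092092102072087bdee6b5ef0673432081db20820820c2062097bdee6b5ee0f63422071da20720420e2092067bdee6b5cf0773412061d920620320a2082077bdee6b5ce0f63402051d81f92122042052057bdee63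9cf10633f2041d71f82072052042037bdee635cf08733e2031d61f72062032032047bdee635ce12433d18e2582021ff2022022027bdcf842100e633c2011ab2222012012002017bded6b9ef0f633b2001aa2211f92002012007bded6b9cf13433a18d2571f32021fd1fe1ff7bdcf7c21014433918c2561f21fe1fb1ff1fe7bdcf7c1f014433818b2551f11fd1ff1fb1fc7bdcf7be100b633718a2541f01fc1fc1fa1fd7bdcf7be0f1543361892531ef1f61fe1fd1fa7bdcf7bdf00c63351882521ee1f51fa1fc1fb7bdcf7bdef1063341f91a32052001f81f91f97bded639cf1163331f81a22041f81f91f81f77bded635cf0973321f71a12031f71f71f71f87bded635ce1643311862501d51fb1f61f61f57bdcf73df00d633018524f1d41fa1f41f51f67bdcf73def0e632f18424e1d31f41f51f41f47bdcf739ef14432e1832201ff1f31f11f21f37bdce7c21015432d18221f1fe1ed1ef1f31f27bdce7c1f015432c18121e1fd1ec1f31ef1f07bdce7be100c632b18021d1fc1eb1f01ee1f17bdce7be0f16432a17f21c1fb1e41f21f11ee7bdce7bdf00d632917e21b1fa1e31ee1f01ef7bdce7bdef16432817d21a1ed1f21e71ed1ed7bdce741f016432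717c2191ec1f11ec1ea1eb7bdce73e100d632617b2181eb1f01e81e91ec7bdce73e0f17432517a2171ea1e21ea1ec1e97bdce73dd00e63241792161e91e11e51eb1ea7bdce73dcf0e63231782151e81e81eb1e51e87bdce73a0f1743221772141e71e01ed1e71e67bdce739f00573211762131e61df1e61e61e77bdce739ee0f63201752121e51d81e91e81e57bdce739cf17431f1742111d21ef1e01e21e37bdce6bdf00e631e1732101d11ee1dc1e11e47bdce6bdef18431d17220f1d01ea1de1e41e17bdce6bdd00f631c17120e1cf1e91da1e31e27bdce6bdcf18431b17020d1ce1e71e41de1df7bdce6b9f006731a16f20c1cd1e61db1dd1e07bdce6b9ee19431916e20b1cc1de1e21e01dd7bdce6b9d007731816d20a1cb1dd1d91df1de7bdce6b9ce0f631716c2091ca1dc1e31da1db7bdce6b5ef07731616b2081c91db1df1d91dc7bdce6b5ee10631516a2071c81d71e11dc1d97bdce6b5cf0873141692061c71d61dd1db1da7bdce6b5ce1063131682051b71e51d71d81d87bdce639cf1163121672041b61da1d81d71d67bdce635cf0973111662031b51d91d61d61d77bdce635ce1743101651d51f61d21d51d51d47bdcd73df00e630f1641d41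f51d11d31d41d57bdcd73def0f630e1631d31f41c61d41d31d37bdcd739ef18430d1621d21e41d51ce1d01d17bdcd6bdf00f630c1611d11e31d41ca1cf1d27bdcd6bdef19430b1601d01e21d01cc1d21cf7bdcd6bdd010630a15f1cf1e11cf1c81d11d07bdcd6bdcf19430915e1ce1e01ce1d21cc1cd7bdcd6b9f007730815d1cd1df1cd1c91cb1ce7bdcd6b9ee1a430715c1cc1de1c51d01ce1cb7bdcd6b9d008730615b1cb1dd1c41c71cd1cc7bdcd6b9ce10630515a1ca1dc1c21d11c81c97bdcd6b5ef0873041591c91db1c11cd1c71ca7bdcd6b5ee1163031581c81da1bd1cf1ca1c77bdcd6b5cf0973021571c71d91bc1cb1c91c87bdcd6b5ce1063011561c61c61d31c21c31c67bdcd639ef1b43001551c51c51cc1c51c51c47bdcd639d00972ff1541c41c41cb1be1c41c57bdcd639ce1162fe1531c31c31c31c01c61c37bdcd639af1162fd1521c21c21ca1c61c01c17bdcd635ef0972fc1511c11c11c91c11bf1c27bdcd635ee1262fb1501c01c01bb1c31c21bf7bdcd635af0a72fa14f1bf1bf1ba1bf1c11c07bdcd635ae0a72f914e1be1be1b91c41be1be7bdcd631ce1262f814d1bd1b31c81bd1bb1bc7bdcd5b5cf0a72f714c1bc1b21c71b9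1ba1bd7bdcd5b5ce1362f614b1bb1b11c01bb1bd1ba7bdcd5b5af0b72f514a1ba1b01bf1b81bc1bb7bdcd5b5ae0b72f41491b91af1be1bc1b81b97bdcd5b1ce0c72f31481b81ae1b81ba1b91b87bdcd5b1ae1162f214719d1d81b71b61b71b77bdcc639cf1262ef14619c1d71b31b71b61b57bdcc635cf0a72ee14519b1d61b21b51b51b67bdcc635ce1141b42961b41ac1b41b41b41b47b9f0842101362ec1411971bd1b61b31b11b27bdcc5b5cf0b72eb1401961bc1b51af1b01b37bdcc5b5ce1462ea13f1951bb1b11b11b31b07bdcc5b5af0c72e913e1941ba1b01ae1b21b17bdcc5b5ae0c72e613d1931b91af1b21ae1af7bdcc5b1ce0d72e513c1921b81ad1b01af1ae7bdcc5b1ae0e72e413918f1ad1ae1ad1ad1ad7bdcc531ae1241ac29518e1b41a91ac1ac1ac7b9ef842100f62e00c52011ab1ab1ab1aa1ab7bdad6b9ef1062df0c42001aa1a31aa1ab1aa7bdad6b9cf1341a929218d1a91ac1a71a81a97b9ef7c2101441a829118c1a81a81a51a91a87b9ef7c1f01441a729018b1a71a71a91a51a67b9ef7be100b61a628f18a1a61a61a61a41a77b9ef7be0f1541a528e1891a51a01a81a71a47b9ef7bdf00c61a428d1881a419f1a41a61a57b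9ef7bdef1162d90c31f919d1aa1a21a31a37bdad639cf1262d70c21f819c1a21a31a21a17bdad635cf0a72d60c11f719b1a11a11a11a27bdad635ce1641a028918619a1a51a01a019f7b9ef73df00d619f2881851991a419e19f1a07b9ef73def0e619e28718419819e19f19e19e7b9ef739ef1262d40c01b71a319d19c19d19d7bdac639cf1362d30bf1b61a219719d19c19b7bdac635cf0b72d20be1b51a119619b19b19c7bdac635ce17419a2831441a019a19a19a1997b9ee73df00e619928214319f19919819919a7b9ee73def0f619828114219e1911991981987b9ee739ef1462d00bd1b319719c1971951967bdac5b5cf0c72cf0bc1b219619b1931941977bdac5b5ce1562ce0bb1b11951951951971947bdac5b5af0d72cd0ba1b01941941921961957bdac5b5ae0d72cc0b91af1931931961921937bdac5b1ce0e72cb0b81ae19218f1941931927bdac5b1ae10619127a13b1911981911901917b9ee6b9ef11619027913a1901901901911907b9ee6b9cf0f72ca0b71ad18719218f18f18f7bdac531ae13418e2021ac18e18d18e18e18e7b9cf8421014418d1ff1a918318e18b18c18d7b9cf7c21015418c1fe1a818218c18918d18c7b9cf7c1f0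15418b1fd1a718118b18d18918a7b9cf7be100c618a1fc1a618018a18a18818b7b9cf7be0f1641891fb1a517f18618c18b1887b9cf7bdf00d61881fa1a417e18518818a1897b9cf7bdef1072c20b618718f1871871871877bdab531ae1741861f61a01651891861861857b9cf73df00e61851f519f1641881841851867b9cf73def0f61841f419e1631841851841847b9cf739ef1541831f318318d1831811821837b9ce7c2101641821f218218c17d17f1831827b9ce7c1f01641811f118118b17c18317f1807b9ce7be100d61801f018018a17b18017e1817b9ce7be0f17417f1ef17f18917418218117e7b9ce7bdf00e617e1ee17e18817317e18017f7b9ce7bdef17417d1ed17d17d18217717d17d7b9ce741f017417c1ec17c17c18117c17a17b7b9ce73e100e617b1eb17b17b18017817917c7b9ce73e0f18417a1ea17a17a17217a17c1797b9ce73dd00f61791e917917917117517b17a7b9ce73dcf0f61781e817817817817b1751787b9ce73a0f1841771e717717717017d1771767b9ce739f00671761e617617616f1761761777b9ce739ee1061751e51751751681791781757b9ce739cf1841741e417416217f1701721737b9ce6bdf00f61731e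317316117e16c1711747b9ce6bdef1941721e217216017a16e1741717b9ce6bdd01061711e117115f17916a1731727b9ce6bdcf1941701e017015e17717416e16f7b9ce6b9f007716f1df16f15d17616b16d1707b9ce6b9ee1a416e1de16e15c16e17217016d7b9ce6b9d008716d1dd16d15b16d16916f16e7b9ce6b9ce10616c1dc16c15a16c17316a16b7b9ce6b5ef08716b1db16b15916b16f16916c7b9ce6b5ee11616a1da16a15816717116c1697b9ce6b5cf0971691d916915716616d16b16a7b9ce6b5ce1161681d81681471751671681687b9ce639cf1261671d716714616a1681671667b9ce635cf0a71661d61661451691661661677b9ce635ce1841651d51381861621651651647b9cd73df00f61641d41371851611631641657b9cd73def1061631d31361841561641631637b9cd739ef1941621d213517416515e1601617b9cd6bdf01061611d113417316415a15f1627b9cd6bdef1a41601d013317216015c16215f7b9cd6bdd011615f1cf13217115f1581611607b9cd6bdcf1a415e1ce13117015e16215c15d7b9cd6b9f008715d1cd13016f15d15915b15e7b9cd6b9ee1b415c1cc12f16e15516015e15b7b9cd6b9d009715b1cb12e16d1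5415715d15c7b9cd6b9ce11615a1ca12d16c1521611581597b9cd6b5ef0971591c912c16b15115d15715a7b9cd6b5ee1261581c812b16a14d15f15a1577b9cd6b5cf0a71571c712a16914c15b1591587b9cd6b5ce1161561c61291561631521531567b9cd639ef1c41551c512815515c1551551547b9cd639d00a71541c412715415b14e1541557b9cd639ce1261531c31261531531501561537b9cd639af1261521c212515215a1561501517b9cd635ef0a71511c112415115915114f1527b9cd635ee1361501c012315014b15315214f7b9cd635af0b714f1bf12214f14a14f1511507b9cd635ae0b714e1be12114e14915414e14e7b9cd631ce13614d1bd12014115814d14b14c7b9cd5b5cf0b714c1bc11f14015714914a14d7b9cd5b5ce14614b1bb11e13f15014b14d14a7b9cd5b5af0c714a1ba11d13e14f14814c14b7b9cd5b5ae0c71491b911c13d14e14c1481497b9cd5b1ce0d71481b811b13c14814a1491487b9cd5b1ae1261471b70ed1681471461471477b9cc639cf1361461b60ec1671411471461457b9cc635cf0b71451b50eb1661401451451467b9cc635ce18414414419a1381441441441437b9ae73df00f6143143199137143142143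1447b9ae73def10614214219813613b1431421427b9ae739ef1461411b30ea14d14614113f1407b9cc5b5cf0c71401b20e914c14513d13e1417b9cc5b5ce15613f1b10e814b13f13f14113e7b9cc5b5af0d713e1b00e714a13e13c14013f7b9cc5b5ae0d713d1af0e614913d14013c13d7b9cc5b1ce0e713c1ae0e514813913e13d13c7b9cc5b1ae11613b13b19111a14213b13a13b7b9ae6b9ef12613a13a19011913a13a13b13a7b9ae6b9cf0f71391ad0e413913c1391391397b9cc531ae1941381381651441351381381377b9ad73df01061371371641431341361371387b9ad73def1161361361631421291371361367b9ad739ef1a41351351621351381311331347b9ad6bdf011613413416113413712d1321357b9ad6bdef1b413313316013313312f1351327b9ad6bdd012613213215f13213212b1341337b9ad6bdcf1b413113115e13113113512f1307b9ad6b9f009713013015d13013012c12e1317b9ad6b9ee1c412f12f15c12f12813313112e7b9ad6b9d00a712e12e15b12e12712a13012f7b9ad6b9ce12612d12d15a12d12513412b12c7b9ad6b5ef0a712c12c15912c12413012a12d7b9ad6b5ee13612b12b15812b12013212d12a7b9ad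6b5cf0b712a12a15712a11f12e12c12b7b9ad6b5ce1261291291561181361251261297b9ad639ef1d412812815511712f1281281277b9ad639d00b712712715411612e1211271287b9ad639ce1361261261531151261231291267b9ad639af13612512515211412d1291231247b9ad635ef0b712412415111312c1241221257b9ad635ee14612312315011211e1261251227b9ad635af0c712212214f11111d1221241237b9ad635ae0c712112114e11011c1271211217b9ad631ce14612012014d10112b12011e11f7b9ad5b5cf0c711f11f14c10012a11c11d1207b9ad5b5ce15611e11e14b0ff12311e12011d7b9ad5b5af0d711d11d14a0fe12211b11f11e7b9ad5b5ae0d711c11c1490fd12111f11b11c7b9ad5b1ce0e711b11b1480fc11b11d11c11b7b9ad5b1ae12611a11a11a13b11811a11911a7b9ac6b9ef13611911911913a10f11911a1197b9ac6b9cf13611811811812911a1141151187b9ac639ef1e41171171171281171171171167b9ac639d00c71161161161271161101161177b9ac639ce14611511511512610e1121181157b9ac639af1461141141141251141181121137b9ac635ef0c71131131131241131131111147b9ac635ee1561121121121231091151141117b9ac635af0d71111111111221081111131127b9ac635ae0d71101101101211071161101107b9ac631ce14610f10f10f10f11910d10e10f7b9ac5b9cf15610e10e10e10e11510b10f10e7b9ac5b9af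

/-- 270 rows of the table -/
def p2 : ℕ :=
  0xc61ee32935633531e32932b32a83dce7bdef1541ed32835532832d32232832883dce741f01541ec32735432732c32732532683dce73e100c61eb32635332632b32332432783dce73e0f1641ea32535232531d32532732483dce73dd00d61e932435132431c32032632583dce73dcf0d61e832335032332332632032383dce73a0f1641e732234f32231b32832232183dce739f00471e632134e32131a32132132283dce739ee0e61e532034d32031332432332083dce739cf1641e431f34c30d32a31b31d31e83dce6bdf00d61e331e34b30c32931731c31f83dce6bdef1741e231d34a30b32531931f31c83dce6bdd00e61e131c34930a32431531e31d83dce6bdcf1741e031b34830932231f31931a83dce6b9f00571df31a34730832131631831b83dce6b9ee1841de31934630731931d31b31883dce6b9d00671dd31834530631831431a31983dce6b9ce0e61dc31734430531731e31531683dce6b5ef0671db31634330431631a31431783dce6b5ee0f61da31534230331231c31731483dce6b5cf0771d931434130231131831631583dce6b5ce0f61d83133402f232031231331383dce63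9cf1061d731233f2ef31531331231183dce635cf0871d631133e2ee31431131131283dce635ce1641d531031033130d31031030f83dcd73df00d61d430f30f33030c30e30f31083dcd73def0e61d330e30e32f30130f30e30e83dcd739ef1741d230d30d31f31030930b30c83dcd6bdf00e61d130c30c31e30f30530a30d83dcd6bdef1841d030b30b31d30b30730d30a83dcd6bdd00f61cf30a30a31c30a30330c30b83dcd6bdcf1841ce30930931b30930d30730883dcd6b9f00671cd30830831a30830430630983dcd6b9ee1941cc30730731930030b30930683dcd6b9d00771cb3063063182ff30230830783dcd6b9ce0f61ca3053053172fd30c30330483dcd6b5ef0771c93043043162fc30830230583dcd6b5ee1061c83033033152f830a30530283dcd6b5cf0871c73023023142f730630430383dcd6b5ce0f61c630130130130e2fd2fe30183dcd639ef1a41c53003003003073003002ff83dcd639d00871c42ff2ff2ff3062f92ff30083dcd639ce1061c32fe2fe2fe2fe2fb3012fe83dcd639af1061c22fd2fd2fd3053012fb2fc83dcd635ef0871c12fc2fc2fc3042fc2fa2fd83dcd635ee1161c02fb2fb2fb2f62fe2fd2fa83dcd635af0971b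f2fa2fa2fa2f52fa2fc2fb83dcd635ae0971be2f92f92f92f42ff2f92f983dcd631ce1161bd2f82f82ec3032f82f62f783dcd5b5cf0971bc2f72f72eb3022f42f52f883dcd5b5ce1261bb2f62f62ea2fb2f62f82f583dcd5b5af0a71ba2f52f52e92fa2f32f72f683dcd5b5ae0a71b92f42f42e62f92f72f32f483dcd5b1ce0b71b82f32f32e52f32f52f42f383dcd5b1ae1061b72f22d43132f22ef2f22f283dcc639cf0c35f62f12f12f12f12f12f02f17c2329ca510d35f52f02f02f02ed2f02f12f07c2329ca311161b62ef2d33122ec2f22ef2ee83dcc635cf0971b52ee2d23112eb2ee2ee2ef83dcc635ce0e35ee2ed2ed2e32f02e82ed2ed7c23294a311261b32ec2d02f82ef2ec2ea2eb83dcc5b5cf0a71b22eb2cf2f72ee2e62e92ec83dcc5b5ce1361b12ea2ce2f62ea2ea2ec2e983dcc5b5af0b71b02e92cd2f52e92e52eb2ea83dcc5b5ae0f35ed2e82e82e22e82ed2e82e77c232946310945ec2e72e72e12e72e72e72e87c232946300b71af2e62cc2f42e62eb2e52e683dcc5b1ce0c71ae2e52cb2f32e42e92e62e583dcc5b1ae0d71ad2e42ca2e42e52e42e42e483dcc531ae0f35e82e32c92ed2e32e22e32e37c23194a311035e72e22c82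e82de2e32e22e17c231946310a45e62e12c72e72dd2e12e12e27c231946300e61ab29433c2e02e02e02df2e083dad6b9ef0f61aa29333b2df2d92df2e02df83dad6b9cf1135e22de2c62de2e22de2dc2dd7c2318c6310b45e12dd2c52dd2e12da2db2de7c2318c6301235e02dc2c42dc2dc2dc2de2db7c2318c6110c45df2db2c32db2db2d82dd2dc7c2318c6100c45de2da2c12da2da2dd2d82da7c2318c2301061a328c3342d42df2d72d92d983dad639cf0d45dd2d82c02d82d52db2da2d87c2318c2101161a228b3332d32d72d92d72d683dad635cf0971a128a3322d22d62d62d62d783dad635ce0e45da2d52bf2d12d82d52d52d57c2318421011619d2862f22d92d42d32d42d483dac639cf12619c2852ef2d72d02d42d32d283dac635cf0a719b2842ee2d62cf2d22d22d383dac635ce0f45d92d12962d52d12d12d12d17c230842101361972802ec2d02d32d02ce2cf83dac5b5cf0b719627f2eb2cf2d22cc2cd2d083dac5b5ce14619527e2ea2ce2ce2ce2d02cd83dac5b5af0c719427d2e92cd2cd2cb2cf2ce83dac5b5ae0c719327c2e62cc2cc2cf2cb2cc83dac5b1ce0d719227b2e52cb2ca2cd2cc2cb83dac5b1ae0e718f2782e42c22cb2ca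2ca2ca83dac531ae1035d82772e32c92c92c82c92c97c21194a311135d72762e22c82c62c92c82c77c211946310b45d62752e12c72c52c72c72c87c211946301235d22742de2be2c82c62c42c57c2118c6310c45d12732dd2bd2c72c12c32c67c2118c6301335d02722dc2bc2c42c42c62c37c2118c6110d45cf2712db2bb2c32c02c52c47c2118c6100f71872702c22ca2c22c22c22c283dab531ae0d45ce26f2da2ba2c12c52c02c17c2118c2300e45cd26e2d82b92bf2c32c12c07c2118c2100f45ca26d2d52a52c02bf2bf2bf7c211842101335c926c2be2c62be2be2bc2bd7c2108c6310d45c826b2bd2c52bd2ba2bb2be7c2108c6301435c726a2bc2c42b62bc2be2bb7c2108c6110e45c62692bb2c32b52b92bd2bc7c2108c6100e45c52682ba2c12b32bd2b92ba7c2108c2300f45c42672b92c02ab2bb2ba2b97c2108c2100b507d3aa2b82b82b82b82b82b7839ce73df00b607c3a92b72b72b72b42b72b8839ce73def1535c12662b62b62bc2b22b62b57c210846110f45c02652b52b52bb2af2b52b67c210846100c607b3a62b42b42ad2b72b42b4839ce739ef0f45bf2642b32b32ba2b32b02b37c210842301635be2632b22b22b22b62b22b17c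210842110665bd2622b12b12b12ae2b12b27c2108420f1045bc2612b02b02aa2b02b32b07c210841f01045ba2602af2af2a92b52af2ae7c21083e100765b925f2ae2ae2a82b12ae2af7c21083e0f0d607a39f2ad2a42b42ad2ac2ad839ce6b9ef0e607939e2ac2a32ac2ac2ad2ac839ce6b9cf1045b625e2ab2a22b92a92aa2ab7c2107c2101145b525d2aa2a12b02a72ab2aa7c2107c1f01145b425c2a92a02af2ab2a72a87c2107be100865b325b2a829f2ae2a82a62a97c2107be0f1245b225a2a729e2a72aa2a92a67c2107bdf00965b12592a629d2a62a62a82a77c2107bdef1045b02582952bf2a22a52a52a57c20f842100e60783962942ad2a42a42a32a4839cd6b9ef0f60773952932ac29c2a32a42a3839cd6b9cf1145af2572922ab2a52a02a12a27c20f7c2101245ae2562912aa2a129e2a22a17c20f7c1f01245ac2552902a92a02a229e29f7c20f7be100965ab25428f2a829f29f29d2a07c20f7be0f1345aa25328e2a72992a12a029d7c20f7bdf00a65a925228d2a629829d29f29e7c20f7bdef10607638e28c29c2a329b29c29c839cd639cf11607538d28b29b29b29c29b29a839cd635cf09707438c28a29a29a29a29a29b839cd635ce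1445a825028929929e2992992987c20f73df00b65a724f28829829d2972982997c20f73def0c65a624e2872972972982972977c20f739ef10459e1b42d12952962962962967c1f08421011459a1ac2a52962922952952957c1ef842100f60732e02a4294294294293294839ad6b9ef1060722df2a329328c293294293839ad6b9cf1245971a92a22922952902912927c1ef7c2101345951a82a129129128e2922917c1ef7c1f01345941a72a029029029228e28f7c1ef7be100a65931a629f28f28f28f28d2907c1ef7be0f1445921a529e28e28929129028d7c1ef7bdf00b65911a429d28d28828d28f28e7c1ef7bdef1160712d929c28629328b28c28c839ad639cf1260702d729b28528b28c28b28a839ad635cf0a706f2d629a28428a28a28a28b839ad635ce15458e1a029928328e2892892887c1ef73df00c658d19f29828228d2872882897c1ef73def0d658c19e2972812872882872877c1ef739ef12606e2d428628c286285286286839ac639cf13606d2d328528b280286285284839ac635cf0b706c2d228428a27f284284285839ac635ce16458819a2832892832832832827c1ee73df00d65871992822882822812822837c1ee73def0e658219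828128727a2822812817c1ee739ef14606b2d028028028528027e27f839ac5b5cf0c706a2cf27f27f28427c27d280839ac5b5ce1560692ce27e27e27e27e28027d839ac5b5af0d70682cd27d27d27d27b27f27e839ac5b5ae0d70672cc27c27c27c27f27b27c839ac5b1ce0e70662cb27b27b27827d27c27b839ac5b1ae0f657f19127a27a28127a27927a7c1ee6b9ef10657e19027927927927927a2797c1ee6b9cf0f70652ca27827027b278278278839ac531ae1133bf2c92772772772762772777be1194a311233be2c82762762742772762757be11946310c43bd2c72752752732752752767be11946301333ba2c627426c2762742722737be118c6310d43b92c527326b27526f2712747be118c6301433b82c427226a2722722742717be118c6110e43b72c327126927126e2732727be118c6101070642c2251278270270270270839ab531ae0e43b62c126f26826f27326e26f7be118c2300f43b42c026e26726d27126f26e7be118c2101043b12bf26d25826e26d26d26d7be11842101433b02be24d27426c26c26a26b7be108c6310e43af2bd24c27326b26826926c7be108c6301533ae2bc24b27226626a26c2697be108c6110f43ad2bb24a2712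6526726b26a7be108c6100f43ac2ba24926f26426b2672687be108c2301043ab2b924826e25e2692682677be108c2101633a82b624726626a2632662657be10846111043a72b52462652692602652667be10846101043a52b32452642682642612647be10842301733a42b22442632632662632627be10842110763a32b124326226225f2622637be108420f1143a22b024226125d2612642617be10841f01143a12af24126025c26526025f7be1083e100863a02ae24025f25b26225f2607be1083e0f11439d2ab23f25726725c25d25e7be107c21012439c2aa23e25626125a25e25d7be107c1f012439b2a923d25526025e25a25b7be107be1009639a2a823c25425f25b25925c7be107be0f1343992a723b25325a25d25c2597be107bdf00a63982a623a25225925925b25a7be107bdef1143972a520226d2572582582587be0f842101243942a21ff25e2582552562577be0f7c2101343932a11fe25d2562532572567be0f7c1f01343922a01fd25c2552572532547be0f7be100a639129f1fc25b2542542522557be0f7be0f14439029e1fb25a2502562552527be0f7bdf00b638f29d1fa25924f2522542537be0f7bdef117063251270251251251251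2518398b531ae15438b2991f625025325025024f7be0f73df00c638a2981f524f25224e24f2507be0f73def0d63892971f424e24e24f24e24e7be0f739ef15338824d26c24d24d24d24b24c7bdf08c6310f438724c26b24c24c24924a24d7bdf08c63016338624b26a24b24724b24d24a7bdf08c61110438524a26924a24624824c24b7bdf08c61010438424926824924524c2482497bdf08c23011438324826724823f24a2492487bdf08c21017338224726623924b2442472467bdf08461111438124626523824a2412462477bdf0846101143802452642372492452422457bdf08423018337f2442632362442472442437bdf08421108637e2432622352432402432447bdf08420f12437d24226123423e2422452427bdf0841f012437c24126023323d2462412407bdf083e1009637b24025f23223c2432402417bdf083e0f12437a23f25e22024823d23e23f7bdf07c21013437923e25d21f24223b23f23e7bdf07c1f013437823d25c21e24123f23b23c7bdf07be100a637723c25b21d24023c23a23d7bdf07be0f14437623b25a21c23b23e23d23a7bdf07bdf00b637523a25921b23a23a23c23b7bdf07bdef1833742392392472392362392387bdef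846111243732382382462382332382397bdef846101243722372372452372372342377bdef842301933712362362442312392362357bdef842110963702352352432302322352367bdef8420f13436f23423424222b2342372347bdef841f013436e23323324122a2382332327bdef83e100a636d2322322402292352322337bdef83e0f1a336c23123123123623122f2307bdef7c2110a636b23023023023522d22e2317bdef7c20f1b336a22f22f22f22f22f23122e7bdef7c1f10b636922e22e22e22e22c23022f7bdef7c1ef0b636822d22d22d22623022c22d7bdef7ba0f0c636722c22c22c22222e22d22c7bdef7b9ef14436622b22b21a23422522b22b7bdef741f014436522a22a21923322a2282297bdef73e100b636422922921823222622722a7bdef73e0f15436322822821722822822a2277bdef73dd00c63622272272162272232292287bdef73dcf0c636122622621522d2292232267bdef73a0f15436022522521422522b2252247bdef739f003735f2242242132242242242257bdef739ee0d635e2232232122212272262237bdef739cf0d635d22222220122c2222212227bdef6b9ef0e635c2212212002232212222217bdef6b9cf13435b2201f323f22021e21f2207bdee7c21014435a21f1f223e21a21c22021f7bdee7c1f014435921e1f123d21922021c21d7bdee7be100b635821d1f023c21821d21b21e7bdee7be0f15435721c1ef23b21121f21e21b7bdee7bdf0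

/-- 270 rows of the table -/
def p3 : ℕ :=
  0x16343743743743742f43b43943684210841f106643643643643642e43243843784210841ef06543543543543543543c4334348421083e300664344344344344344384324358421083e2f07543343343343342b43a4354328421083df007643243243243242a4364344338421083def16343143143142043f43142f430842107c21106643043043041f43e42d42e431842107c20f17342f42f42f41e43742f43142e842107c1f107642e42e42e41d43642c43042f842107c1ef07642d42d42d41c42d43042c42d842107ba0f08642c42c42c41b42742e42d42c842107b9ef08542b42b42b40943342b42b42a8421073df008642a42a42a40843242742a42b8421073def1534294293f644e4294254294288420f846110f44284283f544d4284224284298420f8461009642742742740542c42a42742784210739ef0f44264263f444c4264264234268420f842301634254253f344b4204294254248420f842110664244243f244a41f4214244258420f8420f1044234233f144941a4234264238420f841f01044224223f04474194284224218420f83e100764214213ef4464184244214228420f8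3e0f1734204203ee43142542041e41f8420f7c21107641f41f3ed43042441c41d4208420f7c20f18341e41e3ec42f41e41e42041d8420f7c1f108641d41d3eb42e41d41b41f41e8420f7c1ef08641c41c3ea42d41541f41b41c8420f7ba0f09641b41b3e942c41141d41c41b8420f7b9ef11441a41a3e841a42341441a41a8420f741f01144194193e74194224194174188420f73e100864184183e64184214154164198420f73e0f1244174173e54174174174194168420f73dd00964164163e44164164124184178420f73dcf0964154153e341541c4184124158420f73a0f1244144143e241441441a4144138420f739f00074134133e14134134134134148420f739ee0a64124123e04124104164154128420f739cf0a64114113df3fe41b4114104118420f6b9ef0b64104103de3fd4124104114108420f6b9cf13340f38847840f40f40f40d40e841f08c6310d440e38747740e40e40b40c40f841f08c63014340d38647640d40740d40f40c841f08c6110e440c38547540c40640a40e40d841f08c6100e440b38447440b40440e40a40b841f08c2300f440a38347340a3fc40c40b40a841f08c2100954094093aa42b4094094094088420e73df00964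084083a942a4084054084098420e73def1534073824703f640d403407406841f0846110f440638146f3f540c400406407841f0846100a64054053a64273fe4084054058420e739ef0f440438046e3f440b404401404841f08423016340337f46d3f3403407403402841f08421106640237e46c3f24023ff402403841f08420f10440137d46b3f13fb401404401841f0841f010440037c4693f03fa4064003ff841f083e100763ff37b4683ef3f94023ff400841f083e0f0b63fe3fe39f4114053fe3fd3fe8420e6b9ef0c63fd3fd39e4103fd3fd3fe3fd8420e6b9cf1043fc37a4653dd40a3fa3fb3fc841f07c2101143fb3794643dc4013f83fc3fb841f07c1f01143fa3784633db4003fc3f83f9841f07be100863f93774623da3ff3f93f73fa841f07be0f1243f83764613d93f83fb3fa3f7841f07bdf00963f73754603d83f73f73f93f8841f07bdef1633f63744294073f63f33f63f5841ef846111043f53734284063f53f03f53f6841ef846101043f43724264043f43f43f13f4841ef842301733f33714254033ee3f63f33f2841ef842110763f23704244023ed3ef3f23f3841ef8420f1143f136f4234013e83f13f43f1841ef841f01143f036e422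4003e73f53f03ef841ef83e100863ef36d4213ff3e63f23ef3f0841ef83e0f1833ee36c4203ee3f33ee3ec3ed841ef7c2110863ed36b41f3ed3f23ea3eb3ee841ef7c20f1933ec36a41e3ec3ec3ec3ee3eb841ef7c1f10963eb36941d3eb3eb3e93ed3ec841ef7c1ef0963ea36841c3ea3e33ed3e93ea841ef7ba0f0a63e936741b3e93df3eb3ea3e9841ef7b9ef1243e836641a3d73f13e23e83e8841ef741f01243e73654193d63f03e73e53e6841ef73e100963e63644183d53ef3e33e43e7841ef73e0f1343e53634173d43e53e53e73e4841ef73dd00a63e43624163d33e43e03e63e5841ef73dcf0a63e33614153d23ea3e63e03e3841ef73a0f1343e23604143d13e23e83e23e1841ef739f00173e135f4133d03e13e13e13e2841ef739ee0b63e035e4123cf3de3e43e33e0841ef739cf0b63df35d4113bc3e93df3de3df841ef6b9ef0c63de35c4103bb3e03de3df3de841ef6b9cf1143dd35b3dd3fc3dd3db3dc3dd841ee7c2101243dc35a3dc3fb3d73d93dd3dc841ee7c1f01243db3593db3fa3d63dd3d93da841ee7be100963da3583da3f93d53da3d83db841ee7be0f1343d93573d93f83ce3dc3db3d8841ee7bdf00a63d83563d83f73cd3d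83da3d9841ee7bdef1343d73553d73e83dc3d13d73d7841ee741f01343d63543d63e73db3d63d43d5841ee73e100a63d53533d53e63da3d23d33d6841ee73e0f1443d43523d43e53cc3d43d63d3841ee73dd00b63d33513d33e43cb3cf3d53d4841ee73dcf0b63d23503d23e33d23d53cf3d2841ee73a0f1443d134f3d13e23ca3d73d13d0841ee739f00273d034e3d03e13c93d03d03d1841ee739ee0c63cf34d3cf3e03c23d33d23cf841ee739cf1443ce34c3ce3ce3d93ca3cc3cd841ee6bdf00b63cd34b3cd3cd3d83c63cb3ce841ee6bdef1543cc34a3cc3cc3d43c83ce3cb841ee6bdd00c63cb3493cb3cb3d33c43cd3cc841ee6bdcf1543ca3483ca3ca3d13ce3c83c9841ee6b9f00373c93473c93c93d03c53c73ca841ee6b9ee1643c83463c83c83c83cc3ca3c7841ee6b9d00473c73453c73c73c73c33c93c8841ee6b9ce0c63c63443c63c63c63cd3c43c5841ee6b5ef0473c53433c53c53c53c93c33c6841ee6b5ee0d63c43423c43c43c13cb3c63c3841ee6b5cf0573c33413c33c33c03c73c53c4841ee6b5ce0d63c23403c23b53cf3c13c23c2841ee639cf0e63c133f3c13b33c43c23c13c0841ee635cf0673c033e3c03b23c33c03c03c18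41ee635ce1032774e63bf3bf3bf3be3bf3bf83e1194a311132764e53be3be3ba3bf3be3bd83e11946310b42754e43bd3bd3b93bd3bd3be83e11946300c63bc33c3963df3bc3bc3bb3bc841ed6b9ef0d63bb33b3953de3b53bb3bc3bb841ed6b9cf1232744e03ba3b03be3ba3b83b983e118c6310c42734df3b93af3bd3b63b73ba83e118c6301332724de3b83ae3b83b83ba3b783e118c6110d42714dd3b73ad3b73b43b93b883e118c6100d426f4dc3b63ac3b63b93b43b683e118c2300e63b533438e3c23bb3b33b53b5841ed639cf0e426e4db3b43ab3b13b73b63b483e118c2100f63b333338d3c13b33b53b33b2841ed635cf0773b233238c3c03b23b23b23b3841ed635ce0f426d4d83b13973b43b13b13b183e118421013326c4d73883ba3b03b03ae3af83e108c6310d426b4d63873b93af3ac3ad3b083e108c63014326a4d53863b83a83ae3b03ad83e108c6110e42694d43853b73a73ab3af3ae83e108c6100e42684d33843b63a53af3ab3ac83e108c2300f42674d23833b439d3ad3ac3ab83e108c2100a53aa2b84093aa3aa3aa3aa3a9841ce73df00a63a92b74083a93a93a63a93aa841ce73def1532664cf3823a83ae3a43a83a783e108461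10f42654ce3813a73ad3a13a73a883e10846100b63a62b44053a639f3a93a63a6841ce739ef0f42644cd3803a53ac3a53a23a583e10842301632634cc37f3a43a43a83a43a383e10842110662624cb37e3a33a33a03a33a483e108420f1042614ca37d3a239c3a23a53a283e10841f01042604c837c3a139b3a73a13a083e1083e1007625f4c737b3a039a3a33a03a183e1083e0f0c639f2ad3fe3963a639f39e39f841ce6b9ef0d639e2ac3fd39539e39e39f39e841ce6b9cf10425e4c437a3943ab39b39c39d83e107c21011425d4c33793933a239939d39c83e107c1f011425c4c23783923a139d39939a83e107be1008625b4c13773913a039a39839b83e107be0f12425a4c037639039939c39b39883e107bdf00962594bf37538f39839839a39983e107bdef1042584be33d3b139439739739783e0f842100d63962a43bc39f396396395396841cd6b9ef0e63952a33bb39e38e395396395841cd6b9cf1142574bb33a39d39739239339483e0f7c2101242564b933939c39339039439383e0f7c1f01242554b833839b39239439039183e0f7be100962544b733739a39139138f39283e0f7be0f1342534b633639938b39339238f83e0f7bdf00a62524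b533539838a38f39139083e0f7bdef0f638e29c3b538e39538d38e38e841cd639cf10638d29b3b338d38d38e38d38c841cd635cf08738c29a3b238c38c38c38c38d841cd635ce1442504b233138b39038b38b38a83e0f73df00b624f4b133038a38f38938a38b83e0f73def0c624e4b032f38938938a38938983e0f739ef14324d40f3b038838838838638783df08c6310e424c40e3af38738738438538883df08c63015324b40d3ae38638238638838583df08c6110f424a40c3ad38538138338738683df08c6100f424940b3ac38438038738338483df08c23010424840a3ab38337a38538438383df08c2101632474073a837438637f38238183df0846111042464063a737338537c38138283df0846101042454043a537238438037d38083df0842301732444033a437137f38237f37e83df0842110762434023a337037e37b37e37f83df08420f1142424013a236f37937d38037d83df0841f01142414003a136e37838137c37b83df083e100862403ff3a036d37737e37b37c83df083e0f11423f3fc39d35b38337837937a83df07c21012423e3fb39c35a37d37637a37983df07c1f012423d3fa39b35937c37a37637783df07be1009623c3f939a358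37b37737537883df07be0f13423b3f839935737637937837583df07bdf00a623a3f739835637537537737683df07bdef1732393f637438237437137437383def846111142383f537338137336e37337483def846101142373f437238037237236f37283def842301832363f337137f36c37437137083def842110862353f237037e36b36d37037183def8420f1242343f136f37d36636f37236f83def841f01242333f036e37c36537336e36d83def83e100962323ef36d37b36437036d36e83def83e0f1932313ee36c36c37136c36a36b83def7c2110962303ed36b36b37036836936c83def7c20f1a322f3ec36a36a36a36a36c36983def7c1f10a622e3eb36936936936736b36a83def7c1ef0a622d3ea36836836136b36736883def7ba0f0b622c3e936736735d36936836783def7b9ef13422b3e836635536f36036636683def741f013422a3e736535436e36536336483def73e100a62293e636435336d36136236583def73e0f1442283e536335236336336536283def73dd00b62273e436235136235e36436383def73dcf0b62263e336135036836435e36183def73a0f1442253e236034f36036636035f83def739f00272243e135f34e35f35f35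f36083def739ee0c62233e035e34d35c36236135e83def739cf0c62223df35d33c36735d35c35d83def6b9ef0d62213de35c33b35e35c35d35c83def6b9cf1242203dd32e37a35b35935a35b83dee7c21013421f3dc32d37935535735b35a83dee7c1f013421e3db32c37835435b35735883dee7be100a621d3da32b37735335835635983dee7be0f14421c3d932a37634c35a35935683dee7bdf00b621b3d832937534b35635835783dee7bdef14421a3d732836635a34f35535583dee741f01442193d632736535935435235383dee73e100b62183d532636435835035135483dee73e0f1542173d432536334a35235435183dee73dd00c62163d332436234934d35335283dee73dcf0c62153d232336135035334d35083dee73a0f1542143d132236034835534f34e83dee739f00372133d032135f34734e34e34f83dee739ee0d62123cf32035e34035135034d83dee739cf1542113ce31f34c35734834a34b83dee6bdf00c62103cd31e34b35634434934c83dee6bdef16420f3cc31d34a35234634c34983dee6bdd00d620e3cb31c34935134234b34a83dee6bdcf16420d3ca31b34834f34c34634783dee6b9f004720c3c931a34734e34334534883de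e6b9ee17420b3c831934634634a34834583dee6b9d005720a3c731834534534134734683dee6b9ce0d62093c631734434434b34234383dee6b5ef0572083c531634334334734134483dee6b5ee0e62073c431534233f34934434183dee6b5cf0672063c331434133e34534334283dee6b5ce0e62053c231333434d33f34034083dee639cf0f62043c131233334234033f33e83dee635cf0772033c031133234133e33e33f83dee635ce11420233d39733d33a33d33d33d83dcf842100d62013bc2e035d33c33c33b33c83ded6b9ef0e62003bb2df35c33433b33c33b83ded6b9cf1241ff33a39432e33d33833933a83dcf7c2101341fe33939332d33933633a33983dcf7c1f01341fd33839232c33833a33633783dcf7be100a61fc33739132b33733733533883dcf7be0f1441fb33639032a33133933833583dcf7bdf00b61fa33538f32933033533733683dcf7bdef0f61f93b52d934033b33333433483ded639cf1061f83b32d733f33333433333283ded635cf0871f73b22d633e33233233233383ded635ce1541f633138b31033633133133083dcf73df00c61f533038a30f33532f33033183dcf73def0d61f432f38930e32f33032f32f83dcf739ef1341f332e35b33a32e32c32d32e83dce7c2101441f232d35a33932832a32e32d83dce7c1f01441f132c35933832732e32a32b83dce7be100b61f032b35833732632b32932c83dce7be0f1541ef32a35733631f32d32c32983dce7bdf0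

/-- 270 rows of the table -/
def p4 : ℕ :=
  0x94680545518539550542543546846528c63010367f544517538549544546543846528c6110a467e543516537548541545544846528c6100a467d542515536547545541542846528c2300b467c541514535541543542541846528c2100e367b5404e656154053f5405408465194a310f367a53f4e556053a54053f53e846519463109467953e4e455f53953e53e53f84651946301326784bd59953153d53d53d53c84633a4e520b36774bc59853053c53b53c53d84633a4e510c36764ba59652f53453c53b53b84633a4a5110367553a4e054653f53a538539846518c6310a46745394df54553e53653753a846518c6301136735384de54453853853a537846518c6110b46725374dd543537535539538846518c6100b46715364dc542536539535536846518c2300c46705354db541532537536535846518c2100d366f4b459051353b534533534846339ca510e366e4b358f512533533534533846339ca310d466d5324d8532535532532532846518421014266c4af55e53d52e53153153084632a4e520c366b4ae55d53c52d52f53053184632a4e510d366a4ad55c53b52253052f52f84632a4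a511526694ac55b52e53152a52c52d846329ce520d36684ab55a52d53052652b52e846329ce511626674aa55952c52c52852e52b846329ce320e36664a955852b52b52452d52c846329ce311626654a855752a52a52e528529846329ca520746644a755652952952552752a846329ca501726634a655552852152c52a527846329ca320846624a5554527520523529528846329ca300e36614a455352651e52d524525846329c6510846604a355252551d529523526846329c6500f365f4a255152451952b526523846329c63109465e4a1550523518527525524846329c6300e365d4a054f51152f51e51f5228463294a5118265c49f54e5105285215215208463294a3209465b49e54d50f52751a5205218463294a300f365a49d54c50e51f51c52251f8463294a110f365949c54b50d52652251c51d846329465109465849b54a50c52551d51b51e846329465010365749a54950b51751f51e51b84632946110a465649954850a51651b51d51c84632946100a465549854750951552051a51a84632942301036544975464fa524519517518846328c6310a46534965454f9523515516519846328c6301136524955444f851c517519516846328c6110b465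14945434f751b514518517846328c6100b46504935424f651a518514515846328c2300c464f4925414f5514516515514846328c2100e364e491513534511513512513846319ca510f364d490512533508512513512846319ca310f364c48f51152251350d50e5118463194a5119264b48e51052151051051050f8463194a320a464a48d50f52050f50950f5108463194a3010364948c50e51f50750b51150e8463194a1110364848b50d51e50d51150b50c84631946510a464748a50c51d50c50c50a50d846319465011364648950b51c50250e50d50a84631946110b464548850a51b50150a50c50b84631946100b464448750951a50050f5095098463194230103643486508508512506507508846318ca3111364248550750750e504508507846318ca11113641484506506506508504505846318c231016640483505505505505503506846318c22f12363f4825045044ff507506503846318c21102663e4815035034fe503505504846318c20f12363d4805024f450b4ff50250184631846110c463c47f5014f350a4fc50150284631846100c463b47e5004f25095004fd500846318423013363a47d4ff4f15045024ff4fe846318421103663947c4fe4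f05034fb4fe4ff846318420f0d463847b4fd4ef4fd4fd5004fd84631841f00d463747a4fc4ee4fc5014fc4fb8463183e100466364794fb4ed4fb4fe4fb4fc8463183e0f1136354784d75194fa4fa4f84f9846308c6310b46344774d65184f94f64f74fa846308c6301236334764d55174f44f84fa4f7846308c6110c46324754d45164f34f54f94f8846308c6100c46314744d35154f24f94f54f6846308c2300d46304734d25144ec4f74f64f5846308c21013362f4704cf5024f84f14f44f384630846110d462e46f4ce5014f74ee4f34f484630846100d462d46e4cd5004f64f24ef4f2846308423014362c46d4cc4ff4f14f44f14f0846308421104662b46c4cb4fe4f04ed4f04f1846308420f0e462a46b4ca4fd4eb4ef4f24ef84630841f00e46294694c84fc4ea4f34ee4ed8463083e100566284684c74fb4e94f04ed4ee8463083e0f0e46274654c44ec4f54ea4eb4ec846307c2100f46264644c34eb4ef4e84ec4eb846307c1f00f46254634c24ea4ee4ec4e84e9846307be100666244624c14e94ed4e94e74ea846307be0f1046234614c04e84e84eb4ea4e7846307bdf00766224604bf4e74e74e74e94e8846307bdef0f36213bf5404e64e64e5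4e64e68461194a311036203be53f4e54e04e64e54e484611946310a461f3bd53e4e44df4e44e44e584611946301324e35d54bd4e34e34e34e34e284253a4e520b34e25d44bc4e24e24e14e24e384253a4e510c34e15d34ba4e14da4e24e14e184253a4a5111361d3ba53a4d74e54e04de4df846118c6310b461c3b95394d64e44dc4dd4e0846118c63012361b3b85384d54de4de4e04dd846118c6110c461a3b75374d44dd4db4df4de846118c6100c46193b65364d34dc4df4db4dc846118c2300d46183b45354d24d84dd4dc4db846118c2100d34da5cc4b44d14e14da4d94da842539ca510e34d95cb4b34d04d94d94da4d9842539ca310e46173b15324be4db4d84d84d884611842101236163b04fa4e04d74d74d54d6846108c6310c46153af4f94df4d64d34d44d7846108c6301336143ae4f84de4cf4d54d74d4846108c6110d46133ad4f74dd4ce4d24d64d5846108c6100d46123ac4f64dc4cd4d64d24d3846108c2300e46113ab4f54db4c44d44d34d2846108c2100e34d15c34724da4d14d14d04d1842529ca510f34d05c24714d94c94d04d14d0842529ca311436103a84f44cf4d54cc4cf4ce84610846110e460f3a74f34ce4d44c84ce4cf84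610846100e460e3a54f24cd4d34cd4ca4cd846108423015360d3a44f14cc4cc4cf4cc4cb846108421105660c3a34f04cb4cb4c74cb4cc846108420f0f460b3a24ef4ca4c34ca4cd4ca84610841f01034c95bb46a4c94d04c64c94c98425294a310f460a3a14ee4c84c24ce4c84c78461083e100666093a04ed4c74c14cb4c74c88461083e0f1134c65b84674c64c64c94c64c584252946310254c55b74664c54c54c54c54c684252946300f460839d4ec4bb4d24c24c34c4846107c21010460739c4eb4b94ca4c04c44c3846107c1f010460639b4ea4b84c84c44c04c1846107be1007660539a4e94b74c74c14bf4c2846107be0f1146043994e84b64c04c34c24bf846107bdf00866033984e74b54bf4bf4c14c0846107bdef0f46023974be4d84bb4be4be4be8460f842101424bd53d4e34af4bd4bd4bd4bc84233a4e520c34bc53c4e24ae4bc4ba4bc4bd84233a4e511046013944bb4c44be4b84b94bb8460f7c2100d34ba53b4e14ad4b44bc4ba4ba84233a4a511146003934b94c34b94b64bb4b98460f7c1f01145fe3924b84c24b84bb4b64b78460f7be100865fd3914b74c14b74b74b54b88460f7be0f1245fc3904b64c04b24b94b84b58460f7bdf0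0965fb38f4b54bf4b14b54b74b68460f7bdef0e34b45344da4914ba4b44b34b4842339ca510f34b35334d94904b34b34b44b3842339ca311345fa38b4b24b24b64b24b24b18460f73df00a65f938a4b14b14b54b04b14b28460f73def0b65f83894b04b04b04b14b04b08460f739ef1524af5314af4bd4ac4af4af4ae84232a4e520d34ae5304ae4bc4ab4ad4ae4af84232a4e510e34ad52f4ad4ba4a04ae4ad4ad84232a4a511624ac52e4ac4ac4af4a84aa4ab842329ce520e34ab52d4ab4ab4ae4a44a94ac842329ce511724aa52c4aa4aa4aa4a64ac4a9842329ce320f34a952b4a94a94a94a24ab4aa842329ce311724a852a4a84a84a84ac4a64a7842329ca520844a75294a74a74a74a34a54a8842329ca501824a65284a64a649f4aa4a84a5842329ca320944a55274a54a549e4a14a74a6842329ca300f34a45264a44a449c4ab4a24a3842329c6510944a35254a34a349b4a74a14a4842329c6501034a25244a24a24974a94a44a1842329c6310a44a15234a14a14964a54a34a2842329c6300f34a05224a048f4ad49c49d4a08423294a5119249f52149f48e4a649f49f49e8423294a320a449e52049e48d4a549849e49f8423294a3010349d51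f49d48c49d49a4a049d8423294a1110349c51e49c48b4a44a049a49b84232946510a449b51d49b48a4a349b49949c842329465011349a51c49a48949549d49c49984232946110b449951b49948849449949b49a84232946100b449851a49848749349e49849884232942301134975194974784a2497495496842328c6310b44965184964774a1493494497842328c63012349551749547649a495497494842328c6110c4494516494475499492496495842328c6100c4493515493474498496492493842328c2300d4492514492473492494493492842328c2100f349151345f4b448f491490491842319ca5110349051245e4b3486490491490842319ca3110348f51145d4a049148b48c48f8423194a511a248e51045c49f48e48e48e48d8423194a320b448d50f45b49e48d48748d48e8423194a3011348c50e45a49d48548948f48c8423194a1111348b50d45949c48b48f48948a84231946510b448a50c45849b48a48a48848b842319465012348950b45749a48048c48b48884231946110c448850a45649947f48848a48984231946100c448750945549847e48d4874878423194230113486508454486490484485486842318ca311234855074534854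8c482486485842318ca11123484506452484484486482483842318c231026483505451483483483481484842318c22f13348250445048247d485484481842318c21103648150344f48147c481483482842318c20f13348050244e47048947d48047f84231846110d447f50144d46f48847a47f48084231846100d447e50044c46e48747e47b47e842318423014347d4ff44b46d48248047d47c842318421104647c4fe44a46c48147947c47d842318420f0e447b4fd44946b47b47b47e47b84231841f00e447a4fc44746947a47f47a4798423183e100564794fb44646847947c47947a8423183e0f1234784fa40f497478478476477842308c6310c44774f940e496477474475478842308c6301334764f840d495470476478475842308c6110d44754f740c49446f473477476842308c6100d44744f640b49346e477473474842308c2300e44734f540a492465475474473842308c2100f34724724d145f472472471472842129ca511034714714d045e46a471472471842129ca311434704f440748047646d47046f84230846110e446f4f340647f47546946f47084230846100e446e4f240447e47446e46b46e842308423015346d4f140347d46d47046d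46c842308421105646c4f040247c46c46846c46d842308420f0f446b4ef40147b46446b46e46b84230841f011346a46a4c944847146746a46a8421294a310f44694ee40047a46346f4694688423083e100664684ed3ff47946246c4684698423083e0f1234674674c644546746a46746684212946310354664664c544446646646646784212946300f44654ec3fc465473463464465842307c2101044644eb3fb46446b461465464842307c1f01044634ea3fa463469465461462842307be100764624e93f9462468462460463842307be0f1144614e83f8461461464463460842307bdf00864604e73f7460460460462461842307bdef10345f45f49147245d45f45e45f842119ca5111345e45e49047145445e45f45e842119ca3111345d45d48f45d45f45945a45d8421194a511b245c45c48e45c45c45c45c45b8421194a320c445b45b48d45b45b45545b45c8421194a3012345a45a48c45a45345745d45a8421194a1112345945948b45945945d45745884211946510c445845848a458458458456459842119465013345745748945744e45a45945684211946110d445645648845644d45645845784211946100d445545548745544c45b45545584211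9423012345445448644345e452453454842118ca3113345345348544245a450454453842118ca11133452452484441452454450451842118c23103645145148344045145144f452842118c22f14345045048243f44b45345244f842118c21104644f44f48143e44a44f451450842118c20f14344e44e48042945744b44e44d84211846110e444d44d47f42845644744d44e84211846100e444c44c47e42645544c44944c842118423015344b44b47d42545044e44b44a842118421105644a44a47c42444f44644a44b842118420f0f444944947b42344944944c44984211841f012344844844846a4434454484488421094a310f444744747a42244744d4474468421183e1006644644647942144644a4464478421183e0f13344544544546743d448445444842109463104544444444446643c4444444458421094630133443443443454448441442443842108ca3114344244244245344243f443442842108ca1114344144144145243944343f440842108c23104644044044045143844043e441842108c22f15343f43f43f45043144244143e842108c21105643e43e43e44f43043e44043f842108c20f14343d43d43d43d44543943b43c842108463105543c43c43c43c44443543a43d842108463015343b43b43b43b43b43743d43a84210845f106543a43a43a43a43a43343c43b84210845f015343943943943944143d4374388421084231056438438438438440434436439842108422f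

/-- 270 rows of the table -/
def p5 : ℕ :=
  0x9451865368063465e6506516548c6328c63010351765267f6336576526546518c6328c6110a451665167e63265664f6536528c6328c6100a451565067d63165565364f6508c6328c2300b451464f67c63064f65165064f8c6328c2100d351364e64e66f64c64e64d64e8c6319ca510e351264d64d66e64364d64e64d8c6319ca310e351164c64c65d64e64864964c8c63194a5118251064b64b65c64b64b64b64a8c63194a3209450f64a64a65b64a64464a64b8c63194a300f350e64964965a64264664c6498c63194a110f350d64864865964864c6466478c6319465109450c6476476586476476456488c6319465010350b64664665763d6496486458c631946110a450a64564565663c6456476468c631946100a450964464465563b64a6446448c631942300f350864364364364d6416426438c6318ca3110350764264264264963f6436428c6318ca1110350664164164164164363f6408c6318c23100650564064064064064063e6418c6318c22f11350463f63f63f63a64264163e8c6318c21101650363e63e63e63963e64063f8c6318c20f11350263d63d62f64663a63d63c8c63184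6110b450163c63c62e64563763c63d8c631846100b450063b63b62d64463b63863b8c631842301234ff63a63a62c63f63d63a6398c631842110264fe63963962b63e63663963a8c6318420f0c44fd63863862a63863863b6388c631841f00c44fc63763762963763c6376368c63183e100364fb6366366286366396366378c63183e0f1034fa6356166546356356336348c6308c6310a44f96346156536346316326358c6308c6301134f863361465262f6336356328c6308c6110b44f763261365162e6306346338c6308c6100b44f663161265062d6346306318c6308c2300c44f563061164f6276326316308c6308c2101234f462f61063d63362c62f62e8c630846110c44f362e60f63c63262962e62f8c630846100c44f262d60e63b63162d62a62d8c630842301334f162c60d63a62c62f62c62b8c630842110364f062b60c63962b62862b62c8c6308420f0d44ef62a60b63862662a62d62a8c630841f00d44ee62960a63762562e6296288c63083e100464ed62860963662462b6286298c63083e0f0d44ec6276086276306256266278c6307c2100e44eb62660762662a6236276268c6307c1f00e44ea6256066256296276236248c6307be100564e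96246056246286246226258c6307be0f0f44e86236046236236266256228c6307bdf00664e76226036226226226246238c6307bdef0e34e65d867b6216216206216218c61194a310f34e55d767a62061d62162061f8c611946310944e45d667961f61c61f61f6208c611946300a280c61e5ff61e61e61e61e61e84a95b52721034e05d267561662061d61b61c8c6118c6310a44df5d167461561f61961a61d8c6118c6301134de5d067361461b61b61d61a8c6118c6110b44dd5cf67261361a61861c61b8c6118c6100b44dc5ce67161261961c6186198c6118c2300c44db5cd67061161761a6196188c6118c2100d44d85ca66d6026186176176178c611842101134d75c963561d6166166146158c6108c6310b44d65c863461c6156126136168c6108c6301234d55c763361b6106146166138c6108c6110c44d45c663261a60f6116156148c6108c6100c44d35c563161960e6156116128c6108c2300d44d25c46306186086136126118c6108c2101334cf5c162f61061460d61060f8c610846110d44ce5c062e60f61360a60f6108c610846100d44cd5bf62d60e61260e60b60e8c610842301434cc5be62c60d60d61060d60c8c610842110464cb5bd62b6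0c60c60960c60d8c6108420f0e44ca5bc62a60b60760b60e60b8c610841f00e44c85ba62960a60660f60a6098c61083e100564c75b962860960560c60960a8c61083e0f0e44c45b66276016116066076088c6107c2100f44c35b562660060b6046086078c6107c1f00f44c25b46255fe60a6086046058c6107be100664c15b36245fd6096056036068c6107be0f1044c05b26235fc6046076066038c6107bdf00764bf5b16225fb6036036056048c6107bdef0e44be5b06026176016026026028c60f842100f44bb5af6016086025fe6006018c60f7c2101044b95ae6006076005fc6016008c60f7c1f00b280b5ad61e5f75ff5ff5ff5ff84a75b52721044b85ac5fe6065fe6015fc5fd8c60f7be100764b75ab5fd6055fd5fd5fb5fe8c60f7be0f1144b65aa5fc6045fa6005fe5fb8c60f7bdf00864b55a95fb6035f95fb5fd5fc8c60f7bdef1244b25a85fa5fa5fc5fa5fa5f98c60f73df00964b15a75f95f95fb5f85f95fa8c60f73def0a64b05a65f85f85f85f95f85f88c60f739ef0c280a5a55f75ff5f45f75f75f784a74b52720b32f16df5f65f65f65f65f55f68c2329ca510c32f06de5f55f55ee5f55f65f58c2329ca310d28095a45f45f45f75f2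5f35f484a74ad2720e28085a35f35f35f35f05f45f384a74ad2520e28075a25f25f25f25f45f05f184a74ace720638065a15f15f15f15f15ef5f284a74ace710f28055a05f05f05eb5f35f25ef84a74ace5207380459f5ef5ef5ea5ef5f15f084a74ace510d32ed6d75ee5e85f55ed5ee5ee8c23294a310e32e86d65ed5e75ed5ee5ed5ec8c232946310842e76d55ec5e65ec5ec5ec5ed8c2329463010280359d5eb5e55f05eb5eb5ea84a74a4e5208380259c5ea5e45ef5e95ea5eb84a74a4e5109380159b5e95e35e95ea5e95e984a74a4a510e32e36d15d85ee5e85e75e85e88c23194a310f32e26d05d75ed5e25e85e75e68c231946310942e16cf5d65ec5e15e65e65e78c231946301128005995d55eb5e55e55e55e484a73a4e520937ff5985d45ea5e45e35e45e584a73a4e510a37fe5965d35e95dc5e45e35e384a73a4a511032de6cb5d25e25e75e25e05e18c2318c6310a42dd6ca5d15e15e65de5df5e28c2318c6301132dc6c95d05e05e05e05e25df8c2318c6110b42db6c85cf5df5df5dd5e15e08c2318c6100b42da6c75ce5de5de5e15dd5de8c2318c2300c42d86c65cd5dd5da5df5de5dd8c2318c2100b37fd5905cc5dc5e35dc5db5dc84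a739ca510c37fc58f5cb5db5db5db5dc5db84a739ca310d42d56c35ca5d95dd5da5da5da8c231842100e42d16bb59e5da5d95d95d95d98c230842100f32c96215e85d85d85d75d85d88c21194a311032c86205e75d75d25d85d75d68c211946310a42c761f5e65d65d15d65d65d78c211946301227fb4e35e55d55d55d55d55d484a53a4e520a37fa4e25e45d45d45d35d45d584a53a4e510b37f94e15e35d35cc5d45d35d384a53a4a511132c661d5e25c95d75d25d05d18c2118c6310b42c561c5e15c85d65ce5cf5d28c2118c6301232c461b5e05c75d05d05d25cf8c2118c6110c42c361a5df5c65cf5cd5d15d08c2118c6100c42c16195de5c55ce5d15cd5ce8c2118c2300d42c06185dd5c45ca5cf5ce5cd8c2118c2100c37f84da5dc5c35d35cc5cb5cc84a539ca510d37f74d95db5c25cb5cb5cc5cb84a539ca310e42bf6175da5b05cd5ca5ca5ca8c211842101232be6165c95d25c95c95c75c88c2108c6310c42bd6155c85d15c85c55c65c98c2108c6301332bc6145c75d05c15c75c95c68c2108c6110d42bb6135c65cf5c05c45c85c78c2108c6100d42ba6125c55ce5bf5c85c45c58c2108c2300e42b96115c45cd5b65c65c55c48c2108c210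0d37f64d15c35cc5c35c35c25c384a529ca510e37f54d05c25cb5bb5c25c35c284a529ca311432b66105c15c15c75be5c15c08c210846110e42b560f5c05c05c65ba5c05c18c210846100e42b360e5bf5bf5c55bf5bc5bf8c210842301532b260d5be5be5be5c15be5bd8c210842110562b160c5bd5bd5bd5b95bd5be8c2108420f0f42b060b5bc5bc5b55bc5bf5bc8c210841f00f37f44c95bb5bb5c25b85bb5bb84a5294a310f42af60a5ba5ba5b45c05ba5b98c21083e100662ae6095b95b95b35bd5b95ba8c21083e0f1037f34c65b85b85b85bb5b85b784a52946310157f24c55b75b75b75b75b75b884a52946300f42ab6085b65af5c45b45b55b68c2107c2101042aa6075b55ae5bc5b25b65b58c2107c1f01042a96065b45ac5ba5b65b25b38c2107be100762a86055b35ab5b95b35b15b48c2107be0f1142a76045b25aa5b25b55b45b18c2107bdf00862a66035b15a95b15b15b35b28c2107bdef0f42a560259a5ca5af5b05b05b08c20f842101042a26015975b65b05ac5ae5af8c20f7c2101142a16005955b55ae5aa5af5ae8c20f7c1f00c26e85ff5ad5a55ad5ad5ad5ad84675b52721142a05fe5945b45ac5af5aa5ab8c20f7be1008629f5f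d5935b35ab5ab5a95ac8c20f7be0f12429e5fc5925b25a85ae5ac5a98c20f7bdf009629d5fb5915b15a75a95ab5aa8c20f7bdef1342995fa58e5a85aa5a85a85a78c20f73df00a62985f958d5a75a95a65a75a88c20f73def0b62975f858c5a65a65a75a65a68c20f739ef0d26e05f758b5ad5a45a55a55a584674b52720e26dd5f458a5a45a55a25a35a484674ad2720f26dc5f35895a35a35a05a45a384674ad2520f26db5f25865a25a25a45a05a184674ace720736da5f15855a15a15a159f5a284674ace711026d95f05845a059d5a35a259f84674ace520836d85ef58359f59c59f5a15a084674ace510f429659e5d959a59e59e59e59e8c1f0842101126d45eb5815995a059d59d59c84674a4e520936d35ea58059859f59b59c59d84674a4e510a36d25e957d59659b59c59b59b84674a4a5110429559a5b059e59759a59a59a8c1ef842101226ce5e553d59d59959959959884673a4e520a36cd5e453c59c59859659859984673a4e511142925975af59759a5945955978c1ef7c2100b36cc5e353b59b59059859659684673a4a511242915955ae5955955925975958c1ef7c1f01242905945ac5945945975925938c1ef7be1009628f5935ab5935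935935915948c1ef7be0f13428e5925aa59258e5955945918c1ef7bdf00a628d5915a959158d5915935928c1ef7bdef0c36c55dc53459059659058f590846739ca510d36c45db53358f58f58f59058f846739ca3114428958e5a858859258e58e58d8c1ef73df00b628858d5a758759158c58d58e8c1ef73def0c628758c5a658258c58d58c58c8c1ef739ef0e26c258b5a558b58a58b58b58b84654b52720f26c158a5a457c58b58658958a84654ad2721026c05895a357b58958458a58984654ad25215428358858858e5885885885878c1ee73df00c628258758758d5875825875888c1ee73def1026bf5865a257a58658a58458584654ace720836be5855a157958558558358684654ace711126bd5845a057858158958658384654ace520936bc58359f57758058358558484654ace510d628158258258c57f5875825828c1ee739ef1226ba58159d55e58458158158084654a4e520a36b958059c55d58357d58058184654a4e510e627a57f57f57f58257f57e57f8c1ee6b9ef0f627957e57e57e57e57e57f57e8c1ee6b9cf0b36b857d59b55c57d58057d57d84654a4a511026b757c57c58a57c57a57b57c84653ad2721126b657b57b58957657857c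57b84653ad2521126b557a57a58657557c57857984653ace720936b457957958557457957757a84653ace711226b357857858456d57b57a57784653ace520a36b257757758356c57757957884653ace511226b157657657657b57057657684653a52521226b057557557557a57557357484653a4e720a36af57457457457957157257584653a4e711326ae57357357356b57357557284653a4e320b36ad57257257256a56e57457384653a4e310b36ac57157157157157456e57184653a4a711326ab57057057056957657056f84653a4a520446aa56f56f56f56856f56f57084653a4a500c36a956e56e56e56157257156e84653a4a311326a856d56d55b57856956b56c846539ce520b36a756c56c55a57756556a56d846539ce511426a656b56b55957356756d56a846539ce320c36a556a56a55857256356c56b846539ce311426a456956955757056d567568846539ca520546a356856855656f564566569846539ca501526a256756755556756b569566846539ca320646a1566566554566562568567846539ca300c36a056556555356556c563564846539c65106469f564564552564568562565846539c6500d369e56356355156056a56556284653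9c63107469d56256255055f566564563846539c6300d369c56156154056e5605615618465394a310e369b56056053f56356156055f846539463108469a55f55f53e56255f55f560846539463013269955e53158155b55e55e55d84652a4e520b369855d53058055a55c55d55e84652a4e510c369755c52f57d54f55d55c55c84652a4a5114269655b52e56d55e55755955a846529ce520c369555a52d56c55d55355855b846529ce5115269455952c56b55955555b558846529ce320d369355852b56a55855155a559846529ce3115269255752a56955755b555556846529ca52064691556529568556552554557846529ca5016269055552856754e559557554846529ca3207468f55452756654d550556555846529ca300d368e55352656554b55a551552846529c65107468d55252556454a556550553846529c6500e368c551524563546558553550846529c63108468b550523562545554552551846529c6300d368a54f52254f55c54b54c54f8465294a5117268954e52154e55554e54e54d8465294a3208468854d52054d55454754d54e8465294a300e368754c51f54c54c54954f54c8465294a110e368654b51e54b55354f54954a846529465108468554a51d54a55254a54854b84652946500f368454951c54954454c54b548846529461109468354851b54854354854a549846529461009468254751a54754254d54754784652942300f368154651953a551546544545846528c631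

/-- 270 rows of the table -/
def p6 : ℕ :=
  0x6376176176176175a7647607618ca74aca710737607607607607567627617608ca74aca510e275f75f75f74e76875975f75f8ca74a52520e275e75e75e74d76775e75c75d8ca74a4e7206375d75d75d74c76675a75b75e8ca74a4e710f275c75c75c74b75c75c75e75b8ca74a4e3207375b75b75b74a75b75775d75c8ca74a4e3107375a75a75a74976175d75775a8ca74a4a710f275975975974875975f7597588ca74a4a520047587587587477587587587598ca74a4a5008375775775774675575b75a7578ca74a4a310837567567567357607567557568ca749ca510937557557557347577557567558ca749ca310d27547547277737547527537548ca73ad2720e275375372677274e7507547538ca73ad2520e275275272577174d7547507518ca73ace7206375175172477074c75174f7528ca73ace710f275075072376f74575375274f8ca73ace5207374f74f72276e74474f7517508ca73ace510f274e74e72175f75374874e74e8ca73a52520f274d74d72075e75274d74b74c8ca73a4e7207374c74c71f75d75174974a74d8ca73a4e7110274b74b71e75c74374b74d74a8ca73a4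e3208374a74a71d75b74274674c74b8ca73a4e3108374974971c75a74974c7467498ca73a4a7110274874871b75974174e7487478ca73a4a5201474774771a7587407477477488ca73a4a5009374674671975773974a7497468ca73a4a311027457457187457507417437448ca739ce5208374474471774474f73d7427458ca739ce5111274374371674374b73f7457428ca739ce3209374274271574274a73b7447438ca739ce3111274174171474174874573f7408ca739ca5202474074071374074773c73e7418ca739ca5012273f73f71273f73f74374173e8ca739ca3203473e73e71173e73e73a74073f8ca739ca3009373d73d71073d73d74473b73c8ca739c65103473c73c70f73c73c74073a73d8ca739c6500a373b73b70e73b73874273d73a8ca739c63104473a73a70d73a73773e73c73b8ca739c6300a373973970c72d7467387397398ca7394a310b373873870b72c73b7397387378ca739463105473773770a72b73a7377377388ca73946300c27366c278b7367337367367368ca54b52720937357356df7567357357347358ca729ca510a37347346de75572d7347357348ca729ca310d27336c178a7277367317327338ca54ad2720e273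26c078972673272f7337328ca54ad2520e27316bf78872573173372f7308ca54ace720637306be78772473073072e7318ca54ace710f272f6bd78672372a73273172e8ca54ace5207372e6bc78572272972e73072f8ca54ace510b372d72d6d773973472c72d72d8ca7294a310c372c72c6d673872c72d72c72b8ca729463106472b72b6d573772b72b72b72c8ca729463010272a6ba78470972f72a72a7298ca54a4e520837296b978370872e72872972a8ca54a4e510937286b87827077287297287288ca54a4a510e27276b77547337277257267278ca53ad2720f27266b67537327217237277268ca53ad2520f27256b57527317207277237248ca53ace720737246b475173071f7247227258ca53ace711027236b375072f7187267257228ca53ace520837226b274f72e7177227247238ca53ace511027216b174e72172671b7217218ca53a52521027206b074d72072572071e71f8ca53a4e7208371f6af74c71f72471c71d7208ca53a4e7111271e6ae74b71e71671e72071d8ca53a4e3209371d6ad74a71d71571971f71e8ca53a4e3109371c6ac74971c71c71f71971c8ca53a4a7111271b6ab74871b71472171b71a8ca53a4a5202471a6aa7477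1a71371a71a71b8ca53a4a500a37196a974671970c71d71c7198ca53a4a311127186a87457067237147167178ca539ce520937176a77447057227107157188ca539ce511227166a674370471e7127187158ca539ce320a37156a574270371d70e7177168ca539ce311227146a474170271b7187127138ca539ca520347136a374070171a70f7117148ca539ca501327126a273f7007127167147118ca539ca320447116a173e6ff71170d7137128ca539ca300a37106a073d6fe71071770e70f8ca539c65104470f69f73c6fd70f71370d7108ca539c6500b370e69e73b6fc70b71571070d8ca539c63105470d69d73a6fb70a71170f70e8ca539c6300b370c69c7396eb71970b70c70c8ca5394a310c370b69b7386ea70e70c70b70a8ca539463106470a69a7376e970d70a70a70b8ca539463011270969970972a7067097097088ca52a4e520937086987087297057077087098ca52a4e510a37076977077286fa7087077078ca52a4a511227066967067187097027047058ca529ce520a37056957057177086fe7037068ca529ce511327046947047167047007067038ca529ce320b37036937037157036fc7057048ca529ce31132702692702714702706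7007018ca529ca520447016917017137016fd6ff7028ca529ca501427006907007126f97047026ff8ca529ca320546ff68f6ff7116f86fb7017008ca529ca300b36fe68e6fe7106f67056fc6fd8ca529c6510546fd68d6fd70f6f57016fb6fe8ca529c6500c36fc68c6fc70e6f17036fe6fb8ca529c6310646fb68b6fb70d6f06ff6fd6fc8ca529c6300b36fa68a6fa6fa7076f66f76fa8ca5294a511526f96896f96f97006f96f96f88ca5294a320646f86886f86f86ff6f26f86f98ca5294a300c36f76876f76f76f76f46fa6f78ca5294a110c36f66866f66f66fe6fa6f46f58ca52946510646f56856f56f56fd6f56f36f68ca52946500d36f46846f46f46ef6f76f66f38ca52946110746f36836f36f36ee6f36f56f48ca52946100746f26826f26f26ed6f86f26f28ca52942300d36f16816f16e76fc6f16ef6f08ca528c6310746f06806f06e66fb6ed6ee6f18ca528c6300e36ef67f6ef6e56f46ef6f16ee8ca528c6110846ee67e6ee6e46f36ec6f06ef8ca528c6100846ed67d6ed6e36f26f06ec6ed8ca528c2300946ec67c6ec6e26ec6ee6ed6ec8ca528c2100c36eb67b6d170c6eb6ea6eb6eb8ca5194a310d36ea67a6d070b6e76eb6ea6e98c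a51946310746e96796cf70a6e66e96e96ea8ca51946300b25ad7b96e86e06e86e86e86e88c675b52720e36e76756cb6f16ea6e76e56e68ca518c6310846e66746ca6f06e96e36e46e78ca518c6300f36e56736c96ef6e56e56e76e48ca518c6110946e46726c86ee6e46e26e66e58ca518c6100946e36716c76ed6e36e66e26e38ca518c2300a46e26706c66ec6e16e46e36e28ca518c2100b46e166d6c36e16e26e16e16e18ca51842100c25a57b86c26e86dd6e06e06e08c674b52720a36df5f67356df6df6df6de6df8ca329ca510b36de5f57346de6d76de6df6de8ca329ca310d25a47b76c16dd6e06db6dc6dd8c674ad2720e25a37b66c06dc6dc6d96dd6dc8c674ad2520e25a27b56bf6db6db6dd6d96da8c674ace720635a17b46be6da6da6da6d86db8c674ace710f25a07b36bd6d96d46dc6db6d88c674ace5207359f7b26bc6d86d36d86da6d98c674ace510c36d75ee72d6d16de6d66d76d78ca3294a310d36d65ed72c6d06d66d76d66d58ca32946310746d55ec72b6cf6d56d56d56d68ca329463010259d7b16ba6ce6d96d46d46d38c674a4e5208359c7b06b96cd6d86d26d36d48c674a4e5109359b7af6b86cc6d26d36d26d28c674a4a51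0d36d15e86eb6d76d16d06d16d18ca3194a310e36d05e76ea6d66cb6d16d06cf8ca31946310846cf5e66e96d56ca6cf6cf6d08ca31946301125997ae6786d46ce6ce6ce6cd8c673a4e520935987ad6776d36cd6cc6cd6ce8c673a4e510a35967ac6766d26c56cd6cc6cc8c673a4a510f36cb5e26e76cb6d06cb6c96ca8ca318c6310946ca5e16e66ca6cf6c76c86cb8ca318c6301036c95e06e56c96c96c96cb6c88ca318c6110a46c85df6e46c86c86c66ca6c98ca318c6100a46c75de6e36c76c76ca6c66c78ca318c2300b46c65dd6e26c66c36c86c76c68ca318c2100b35907ab66f6c56cc6c56c46c58c6739ca510c358f7aa66e6c46c46c46c56c48c6739ca310c46c35da6e16bb6c66c36c36c38ca31842100d258b7366e06c26c16c26c26c28c654b52720e258a7336dd6b76c26bf6c06c18c654ad2720f25897326dc6b66c06bd6c16c08c654ad2520f25867316db6b56bf6c16bd6be8c654ace720735857306da6b46be6be6bc6bf8c654ace7110258472f6d96b36ba6c06bf6bc8c654ace5208358372e6d86b26b96bc6be6bd8c654ace510d46bb5d96bb6c36bb6bb6bb6bb8ca308421011258172a6d46996bd6ba6ba6b98c654a4e5209358072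96d36986bc6b86b96ba8c654a4e510a357d7286d26976b86b96b86b88c654a4a510f257c7276b76c16b76b56b66b78c653ad27210257b7266b66c06b16b36b76b68c653ad25210257a7256b56bf6b06b76b36b48c653ace720835797246b46be6af6b46b26b58c653ace711125787236b36bd6a86b66b56b28c653ace520935777226b26bc6a76b26b46b38c653ace511125767216b16b16b66ab6b16b18c653a52521125757206b06b06b56b06ae6af8c653a4e7209357471f6af6af6b46ac6ad6b08c653a4e7112257371e6ae6ae6a66ae6b06ad8c653a4e320a357271d6ad6ad6a56a96af6ae8c653a4e310a357171c6ac6ac6ac6af6a96ac8c653a4a7112257071b6ab6ab6a46b16ab6aa8c653a4a5203456f71a6aa6aa6a36aa6aa6ab8c653a4a500b356e7196a96a969c6ad6ac6a98c653a4a3112256d7186a86966b36a46a66a78c6539ce520a356c7176a76956b26a06a56a88c6539ce5113256b7166a66946ae6a26a86a58c6539ce320b356a7156a56936ad69e6a76a68c6539ce311325697146a46926ab6a86a26a38c6539ca520445687136a36916aa69f6a16a48c6539ca501425677126a26906a26a66a46a18c6539ca320545667116a168f6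a169d6a36a28c6539ca300b35657106a068e6a06a769e69f8c6539c65105456470f69f68d69f6a369d6a08c6539c6500c356370e69e68c69b6a56a069d8c6539c63106456270d69d68b69a6a169f69e8c6539c6300c356170c69c67b6a969b69c69c8c65394a310d356070b69b67a69e69c69b69a8c6539463107455f70a69a67969d69a69a69b8c6539463012255e70966c6ba6966996996988c652a4e520a355d70866b6b96956976986998c652a4e510b355c70766a6b868a6986976978c652a4a5113255b7066696a86996926946958c6529ce520b355a7056686a769868e6936968c6529ce511425597046676a66946906966938c6529ce320c35587036666a569368c6956948c6529ce311425577026656a46926966906918c6529ca520545567016646a369168d68f6928c6529ca501525557006636a268969469268f8c6529ca320645546ff6626a168868b6916908c6529ca300c35536fe6616a068669568c68d8c6529c6510645526fd66069f68569168b68e8c6529c6500d35516fc65f69e68169368e68b8c6529c6310745506fb65e69d68068f68d68c8c6529c6300c354f6fa65d68a69768668768a8c65294a5116254e6f965c689690689689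6888c65294a3207454d6f865b68868f6826886898c65294a300d354c6f765a68768768468a6878c65294a110d354b6f665968668e68a6846858c6529465107454a6f565868568d6856836868c652946500e35496f465768467f6876866838c652946110845486f365668367e6836856848c652946100845476f265568267d6886826828c652942300e35466f165467568c68167f6808c6528c6310845456f065367468b67d67e6818c6528c6300f35446ef65267368467f68167e8c6528c6110945436ee65167268367c68067f8c6528c6100945426ed65067168268067c67d8c6528c2300a45416ec64f67067c67e67d67c8c6528c2100d35406eb62169c67b67a67b67b8c65194a310e353f6ea62069b67567b67a6798c6519463108453e6e961f69a67467967967a8c6519463012253d6786ce66c6786786786778c633a4e520a353c6776cd66b6776766776788c633a4e510b353b6766cc66a66f6776766768c633a4a510f353a6e761d68167a6756736748c6518c6310945396e661c6806796716726758c6518c6301035386e561b67f6736736756728c6518c6110a45376e461a67e6726706746738c6518c6100a45366e361967d6716746706718c651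8c2300b45356e261867c66d6726716708c6518c2100c353466f6c564e67666f66e66f8c6339ca510d353366e6c464d66e66e66f66e8c6339ca310c45326e161766d67066d66d66d8c6518421013253166c69967866966c66c66b8c632a4e520b353066b69867766866a66b66c8c632a4e510c352f66a69767665d66b66a66a8c632a4a5114252e66969666966c6656676688c6329ce520c352d66869566866b6616666698c6329ce5115252c6676946676676636696668c6329ce320d352b66669366666665f6686678c6329ce3115252a6656926656656696636648c6329ca520645296646916646646606626658c6329ca5016252866369066365c6676656628c6329ca3207452766268f66265b65e6646638c6329ca300d352666168e66165966865f6608c6329c65107452566068d66065866465e6618c6329c6500e352465f68c65f65466666165e8c6329c63108452365e68b65e65366266065f8c6329c6300d352265d68a64c66a65965a65d8c63294a5117252165c68964b66365c65c65b8c63294a3208452065b68864a66265565b65c8c63294a300e351f65a68764965a65765d65a8c63294a110e351e65968664866165d6576588c6329465108451d6586856476606586566598c632946500f351c65768464665265a6596568c6329461109451b6566836456516566586578c6329461009451a65568264465065b6556558c632942300f351965468163565f6546526538c6328c631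

/-- 270 rows of the table -/
def p7 : ℕ :=
  0x86f86f86f86f86f86f86f86e952d8d5eb400186e86e86e86e86e86d86e86f952d8d5eb301186d86d86d86d86c86e86d86d952d8d5ab302186c86c86c86a86d86c86b86c952d8cdab303186b86b86b86986b86b86c86b952d8cda9303186a86a86586c86a86a86986a952d7cdab304186986986486b86886986a869952d7cda93051868868863868869867868868952d7c5a93061867867862867867868867866952d7c5693002866866861866866866866867952d7c569204186585486a865865865864865952b7cdab3051864853869864863864865864952b7cda93061863852868860864862863863952b7c5a9307186285186785f862863862861952b7c569301286185086685e861861861862952b7c569207186084f86086386085f860860952b6c5a9308185f84e85f86285d86085f85e952b6c569302285e84d85e86185c85e85e85f952b6c569209185d84c85d85d85f85d85b85c952b6bd69303285c84b85c85c85e85985a85d952b6bd6920a185b84a85b85b85b85b85d85a952b6bd67304285a84985a85a85a85885c85b952b6bd67204285984885985985985c858859952b6bd29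205285884785885885785a859858952b6bd272062857846857856858857857857952b6b5272072856845855857856856856856952b5b527208285580c85685585585585585595295b52720517f186585485485485485385494eb7cdab30617f086485385385285385485394eb7cda930717ef86385284f85385185285294eb7c5a930817ee86285184e85185285185094eb7c56930227ed86185084d85085085085194eb7c56920817ec86084485284f84e84f84f94eb6c5a930917eb85f84385184c84f84e84d94eb6c56930327ea85e84285084b84d84d84e94eb6c56920a17e985d84184c84e84c84a84b94eb6bd6930427e885c84084b84d84884984c94eb6bd6920b17e785b83f84a84a84a84c84994eb6bd6730527e685a83e84984984784b84a94eb6bd6720527e585983d84884884b84784894eb6bd2920627e485883c84784684984884794eb6bd2720727e385783b84584784684684694eb6b52720827e285681c84684584584584594eb5b52720917e184484f84484484384484494e96c5a930a17e084384e84384184484384294e96c56930427df84284d84284084284284394e96c56920b17de84184c83a84384183f84094e96bd6930527dd8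4084b83984283d83e84194e96bd6920c17dc83f84a83883f83f84183e94e96bd6730627db83e84983783e83c84083f94e96bd6720627da83d84883683d84083c83d94e96bd2920727d983c84783583b83e83d83c94e96bd2720827d883b84682683c83b83b83b94e96b52720c17d783a83a84183a83a83883994e95bd6930627d683983984083983683783a94e95bd6920d17d583883883f83483883a83794e95bd6730727d483783783e83383583983894e95bd6720727d383683683d83283983583694e95bd2920827d283583583c82c83783683594e95bd2720e17d183483483483883183483394e95b56730827d083383383383782e83383494e95b56720827cf83283283283683282f83294e95b52920f17ce83183183183183483183094e95b52730037cd83083083083082d83083194e95b52710927cc82f82f82f82b82f83282f94e95b52520927cb82e82e82e82a83382e82d94e95b4e720137ca82d82d82d82983082d82e94e95b4e710927c982c82c82583582a82b82c94e95ad2720a27c882b82b82482f82882c82b94e95ad2520a27c782a82a82382e82c82882994e95ace720237c682982982282d82982782a94e95ace710b27c5828828821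82882b82a82794e95ace520337c482782782082782782982894e95ace510927c382681b83b82582682682694e94b52720a27c282581a82c82682382482594e94ad2720b27c182481982b82482182582494e94ad2520b27c082381882a82382582182294e94ace720337bf82281782982282282082394e94ace710c27be82181682881f82482382094e94ace520437bd82081582781e82082282194e94ace510d27bc81f81481f82181f81f81e94e94a4e520537bb81e81381e82081d81e81f94e94a4e510637ba81d81281d81d81e81d81d94e94a4a510927b980b84581b81c81c81c81c94e75b52720a27b880a82681c81a81b81b81b94e74b52720b27b780982581a81b81881981a94e74ad2720c27b680882481981981681a81994e74ad2520c27b580782381881881a81681794e74ace720437b480682281781781781581894e74ace710d27b380582181681481981881594e74ace520537b280482081581381581781694e74ace510e27b180381f81181681481481394e74a4e520637b080281e81081581281381494e74a4e510737af80181d80f81281381281294e74a4a510f27ae80081181481181181181094e73a4e520737ad7ff81081381080f81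081194e73a4e510837ac7fe80f81280e81080f80f94e73a4a510937ab7fd80e80e80f80e80d80e94e739ca510a37aa7fc80d80d80d80d80e80d94e739ca3109261e85580b80c80c80c80c80c94a95b52720a25ff81c80c80a80b80b80b80b94a75b52720b25f781b80a80b80980a80a80a94a74b52720c25f481a80980980a80780880994a74ad2720d25f381980880880880580980894a74ad2520d25f281880780780780980580694a74ace720535f181780680680680680480794a74ace710e25f081680580580380880780494a74ace520635ef81580480480280480680594a74ace510f25eb81480380080580380380294a74a4e520735ea8138027ff80480180280394a74a4e510835e98128017fe80180280180194a74a4a511025e58117fb8038008008007ff94a73a4e520835e48107fa8027ff7fe7ff80094a73a4e510935e380f7f98017fd7ff7fe7fe94a73a4a510a35dc80e7f87fd7fe7fd7fc7fd94a739ca510b35db80d7f77fc7fc7fc7fd7fc94a739ca311125d57fb8007fb7fb7fb7fb7fa94a53a4e520935d47fa7ff7fa7fa7f97fa7fb94a53a4e510a35d37f97fe7f97f87fa7f97f994a53a4a510b35cc7f87fd7f67f97f87f77f894a5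39ca510c35cb7f77fc7f57f77f77f87f794a539ca310c35c37f67f67f87f67f67f57f694a529ca510d35c27f57f57f77f47f57f67f594a529ca310e35bb7f47f47f47f57f37f47f494a5294a310f35b87f37f37f37f37f47f37f294a52946310055b77f27f27f27f27f27f27f394a52946300618547f17f17f17f17f17f07f18ceb7cdab30718537f07f07f07ef7f07f17f08ceb7cda930818527ef7ef7ec7f07ee7ef7ef8ceb7c5a930918517ee7ee7eb7ee7ef7ee7ed8ceb7c56930328507ed7ed7ea7ed7ed7ed7ee8ceb7c569209184f7ec7e17ef7ec7eb7ec7ec8ceb6c5a930a184e7eb7e07ee7e97ec7eb7ea8ceb6c569304284d7ea7df7ed7e87ea7ea7eb8ceb6c56920b184c7e97de7e97eb7e97e77e88ceb6bd69305284b7e87dd7e87ea7e57e67e98ceb6bd6920c184a7e77dc7e77e77e77e97e68ceb6bd6730628497e67db7e67e67e47e87e78ceb6bd6720628487e57da7e57e57e87e47e58ceb6bd2920728477e47d97e47e37e67e57e48ceb6bd2720828467e37d87e27e47e37e37e38ceb6b52720928457e27b97e37e27e27e27e28ceb5b52720a18447a97ec7e17e17e07e17e18ce96c5a930b18437a87eb7e07de7e17e07df8ce96c569305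28427a77ea7df7dd7df7df7e08ce96c56920c18417a67e97d77e07de7dc7dd8ce96bd6930628407a57e87d67df7da7db7de8ce96bd6920d183f7a47e77d57dc7dc7de7db8ce96bd67307283e7a37e67d47db7d97dd7dc8ce96bd67207283d7a27e57d37da7dd7d97da8ce96bd29208283c7a17e47d27d87db7da7d98ce96bd27209283b7a07e37c37d97d87d87d88ce96b52720d183a79f7d77de7d77d77d57d68ce95bd69307283979e7d67dd7d67d37d47d78ce95bd6920e183879d7d57dc7d17d57d77d48ce95bd67308283779c7d47db7d07d27d67d58ce95bd67208283679b7d37da7cf7d67d27d38ce95bd29209283579a7d27d97c97d47d37d28ce95bd2720f18347997d17d17d57ce7d17d08ce95b56730928337987d07d07d47cb7d07d18ce95b56720928327977cf7cf7d37cf7cc7cf8ce95b52921018317967ce7ce7ce7d17ce7cd8ce95b52730138307957cd7cd7cd7ca7cd7ce8ce95b52710a282f7947cc7cc7c87cc7cf7cc8ce95b52520a282e7937cb7cb7c77d07cb7ca8ce95b4e7202382d7927ca7ca7c67cd7ca7cb8ce95b4e710a282c7917c97c27d27c77c87c98ce95ad2720b282b7907c87c17cc7c57c97c88ce95ad2520b282a78f7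c77c07cb7c97c57c68ce95ace7203382978e7c67bf7ca7c67c47c78ce95ace710c282878d7c57be7c57c87c77c48ce95ace5204382778c7c47bd7c47c47c67c58ce95ace510a282678b7b87d87c27c37c37c38ce94b52720b282578a7b77c97c37c07c17c28ce94ad2720c28247897b67c87c17be7c27c18ce94ad2520c28237887b57c77c07c27be7bf8ce94ace720438227877b47c67bf7bf7bd7c08ce94ace710d28217867b37c57bc7c17c07bd8ce94ace520538207857b27c47bb7bd7bf7be8ce94ace510e281f7847b17bc7be7bc7bc7bb8ce94a4e5206381e7837b07bb7bd7ba7bb7bc8ce94a4e5107381d7827af7ba7ba7bb7ba7ba8ce94a4a510a281c6e87e27b87b97b97b97b98ce75b52720b281b6e07c37b97b77b87b87b88ce74b52720c281a6dd7c27b77b87b57b67b78ce74ad2720d28196dc7c17b67b67b37b77b68ce74ad2520d28186db7c07b57b57b77b37b48ce74ace720538176da7bf7b47b47b47b27b58ce74ace710e28166d97be7b37b17b67b57b28ce74ace520638156d87bd7b27b07b27b47b38ce74ace510f28146d47bc7ae7b37b17b17b08ce74a4e520738136d37bb7ad7b27af7b07b18ce74a4e510838126d27ba7ac7af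7b07af7af8ce74a4a511028116ce7ae7b17ae7ae7ae7ad8ce73a4e520838106cd7ad7b07ad7ac7ad7ae8ce73a4e5109380f6cc7ac7af7ab7ad7ac7ac8ce73a4a510a380e6c57ab7ab7ac7ab7aa7ab8ce739ca510b380d6c47aa7aa7aa7aa7ab7aa8ce739ca310b17a97e17a97a97a97a87a97a98ca96c5a930c17a87e07a87a87a67a97a87a78ca96c56930627a77df7a77a77a57a77a77a88ca96c56920d17a67de7a679f7a87a67a47a58ca96bd6930727a57dd7a579e7a77a27a37a68ca96bd6920e17a47dc7a479d7a47a47a67a38ca96bd6730827a37db7a379c7a37a17a57a48ca96bd6720827a27da7a279b7a27a57a17a28ca96bd2920927a17d97a179a7a07a37a27a18ca96bd2720a27a07d87a078b7a17a07a07a08ca96b52720e179f7d77817a679f79f79d79e8ca95bd69308279e7d67807a579e79b79c79f8ca95bd6920f179d7d577f7a479979d79f79c8ca95bd67309279c7d477e7a379879a79e79d8ca95bd67209279b7d377d7a279779e79a79b8ca95bd2920a279a7d277c7a179179c79b79a8ca95bd2721017997d177b79979d7967997988ca95b56730a27987d077a79879c7937987998ca95b56720a27977cf77979779b79779479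78ca95b52921117967ce7787967967997967958ca95b52730237957cd7777957957927957968ca95b52710b27947cc7767947907947977948ca95b52520b27937cb77579378f7987937928ca95b4e720337927ca77479278e7957927938ca95b4e710b27917c977378a79a78f7907918ca95ad2720c27907c877278979478d7917908ca95ad2520c278f7c777178879379178d78e8ca95ace7204378e7c677078779278e78c78f8ca95ace710d278d7c576f78678d79078f78c8ca95ace5205378c7c476e78578c78c78e78d8ca95ace510b278b7c37367a078a78b78b78b8ca94b52720c278a7c273379178b78878978a8ca94ad2720d27897c173279078978678a7898ca94ad2520d27887c073178f78878a7867878ca94ace720537877bf73078e7877877857888ca94ace710e27867be72f78d7847897887858ca94ace520637857bd72e78c7837857877868ca94ace510f27847bc72a7847867847847838ca94a4e520737837bb7297837857827837848ca94a4e510837827ba7287827827837827828ca94a4a510f178178179f78178178177f7808ca75bd69309278078079e78078077d77e7818ca75bd69210177f77f79d77f77b77f78177e8ca75bd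6730a277e77e79c77e77a77c78077f8ca75bd6720a277d77d79b77d77978077c77d8ca75bd2920b277c77c79a77c77377e77d77c8ca75bd27211177b77b79976d77f77877b77a8ca75b56730b277a77a79876c77e77577a77b8ca75b56720b277977979776b77d7797767798ca75b529212177877879676a77877b7787778ca75b52730337777777957697777747777788ca75b52710c27767767947687727767797768ca75b52520c277577579376777177a7757748ca75b4e720437747747927667707777747758ca75b4e710c277377379175477c7717727738ca75ad2720d277277279075377676f7737728ca75ad2520d277177178f75277577376f7708ca75ace7205377077078e75177477076e7718ca75ace710e276f76f78d75076f77277176e8ca75ace5206376e76e78c74f76e76e77076f8ca75ace5112176d76d76d77b76d76a76d76c8ca74b56730c276c76c76c77a76c76776c76d8ca74b56720c276b76b76b77976b76b76876b8ca74b529213176a76a76a77876576d76a7698ca74b527304376976976977776476676976a8ca74b52710d276876876877675f76876b7688ca74b52520d276776776777575e76c7677668ca74b4e7205376676676677475d7697667678ca74b4e7114176576576576576a7657637648ca74ad2730537647647647647697617627658ca74ad2711517637637637637637637657628ca74ad2530637627627627627627607647638ca74ad251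

/-- all the rows -/
def pp : ℕ := (beta% delta% lq263cdfc1e1 fun _ _ _ _ _ _ _ n _ _ _ _ _ t _ =>
 n p0 (t (n p1 (t (n p2 (t (n p3 (t (n p4 (t (n p5 (t (n p6 (t (p7) 39960)) 39960)) 39960)) 39960)) 39960)) 39960)) 39960))

/-- the code of a row -/
def gt (b : ℕ) : ℕ := Nat.mod (Nat.shiftRight pp (Nat.mul 148 b)) 356811923176489970264571492362373784095686656

/-- a field of a code -/
def fd (x s m : ℕ) : ℕ := Nat.mod (Nat.shiftRight x s) m

/-- a coordinate -/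
def iz (x : ℕ) : ℤ := (x : ℤ) - 16

/-- the row of a code -/
def rw0 (x : ℕ) : Rw := (beta% delta% lq263cdfc1e1 fun _ _ f _ _ _ m _ _ _ _ _ _ _ _ =>
 ⟨(f (iz (fd x 0 32))<|f (iz (fd x 5 32))<|f (iz (fd x 10 32))<|f (iz (fd x 15 32))<|f (iz (fd x 20 32))<|f (iz (fd x 25 32))<|f (iz (fd x 30 32))<|f (iz (fd x 35 32))<|m),
 (f (fd x 40 4096)<|f (fd x 52 4096)<|f (fd x 64 4096)<|f (fd x 76 4096)<|f (fd x 88 4096)<|f (fd x 100 4096)<|f (fd x 112 4096)<|f (fd x 124 4096)<|m), fd x 136 16, fd x 140 32⟩)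

/-- the complete tree -/
def bt : ℕ → (ℕ → Rw) → BT Rw
  | 0, f => .lf (f 0)
  | d + 1, f => .nd (bt d fun n => f (2 * n)) (bt d fun n => f (2 * n + 1))

theorem bt_get (d : ℕ) : ∀ (f : ℕ → Rw) (n : ℕ), n < 2 ^ d → (bt d f).get n = f n := by
  induction d with
  | zero =>
    intro f n h
    rw [show n = 0 by omega]
    rfl
  | succ d ih =>
    intro f n h
    show cond (Nat.beq (n % 2) 0) ((bt d fun n => f (2 * n)).get (n / 2)) ((bt d fun n => f (2 * n + 1)).get (n / 2)) = _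
    rw [ih _ _ (by omega), ih _ _ (by omega)]
    rcases Nat.mod_two_eq_zero_or_one n with h1 | h1
    · rw [h1]
      exact congrArg f (by omega)
    · rw [h1]
      exact congrArg f (by omega)

/-- the table: vector, images, level, exponent -/
def T : BT Rw := bt 12 fun b => rw0 (gt b)

theorem T_get {n : ℕ} (h : n < 4096) : T.get n = rw0 (gt n) := bt_get 12 _ n h

/-- the rows of the Cartan matrix -/
def rows : List (List ℤ) := (beta% delta% lq263cdfc1e1 fun _ _ f _ _ _ m _ _ _ _ _ _ _ _ =>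
 (f (f 2<|f 0<|f (-1)<|f 0<|f 0<|f 0<|f 0<|f 0<|m)<|f (f 0<|f 2<|f 0<|f (-1)<|f 0<|f 0<|f 0<|f 0<|m)<|f (f (-1)<|f 0<|f 2<|f (-1)<|f 0<|f 0<|f 0<|
 f 0<|m)<|f (f 0<|f (-1)<|f (-1)<|f 2<|f (-1)<|f 0<|f 0<|f 0<|m)<|f (f 0<|f 0<|f 0<|f (-1)<|f 2<|f (-1)<|f 0<|f 0<|m)<|f (f 0<|f 0<|f 0<|f 0<|f (-1)<|f 2<|f (-1)<|f 0<|m)<|f (f 0<|f 0<|f 0<|f 0<|f 0<|
 f (-1)<|f 2<|f (-1)<|m)<|f (f 0<|f 0<|f 0<|f 0<|f 0<|f 0<|f (-1)<|f 2<|m)<|m))

theorem allB_of {f : ℕ → Bool} {k : ℕ} (h : ∀ b, b < k → f b = true) : allB f k = true := by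
  induction k with
  | zero => rfl
  | succ k ih =>
    have h1 : f k = true := h k (Nat.lt_succ_self k)
    have h2 : allB f k = true := ih fun b hb => h b (Nat.lt_succ_of_lt hb)
    simp only [allB, h1, h2, Bool.and_self]

theorem allB_split {f : ℕ → Bool} {a b : ℕ} (h1 : allB f a = true)
    (h2 : allB (fun i => f (a + i)) b = true) : allB f (a + b) = true := by
  refine allB_of fun i hi => ?_
  rcases Nat.lt_or_ge i a with h | h
  · exact allB_iff h1 h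
  · obtain ⟨j, rfl⟩ := Nat.exists_eq_add_of_le h
    exact allB_iff h2 (Nat.lt_of_add_lt_add_left hi)

def an (x y : Bool) : Bool := Bool.rec false y x

theorem an_eq (x y : Bool) : an x y = (x && y) := by cases x <;> rfl

def orr (x y : Bool) : Bool := Bool.rec y true x

theorem orr_eq (x y : Bool) : orr x y = (x || y) := by cases x <;> rfl

/-- evaluation -/
def frc (x : ℕ) (k : ℕ → Bool) : Bool := Nat.rec (motive := fun _ => Bool) (k 0) (fun n _ => k (Nat.succ n)) x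

theorem frc_eq (x : ℕ) (k : ℕ → Bool) : frc x k = k x := by cases x <;> rfl

theorem eqZ_rfl (l : List ℤ) : eqZ l l = true := by
  induction l with
  | nil => rfl
  | cons a l ih => exact (Bool.and_eq_true _ _).mpr ⟨decide_eq_true rfl, ih⟩

/-- the check of a node -/
def ndB (a i p n l e z0 z1 z2 z3 z4 z5 z6 z7 : ℕ) : Bool := an (Nat.ble (Nat.succ a) 2160) <| frc (gt a) fun y =>
  an (Nat.beq (fd y 0 32) z0) (an (Nat.beq (fd y 5 32) z1) (an (Nat.beq (fd y 10 32) z2) (an (Nat.beq (fd y 15 32) z3) (an (Nat.beq (fd y 20 32) z4) (an (Nat.beq (fd y 25 32) z5) (an (Nat.beq (fd y 30 32) z6) (an (Nat.beq (fd y 35 32) z7) (orr (Nat.beq i 0) (an (Nat.beq (fd y 136 16) l) (orr (Nat.ble p n) (Nat.beq (fd y 140 32) (Nat.succ e))))))))))))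

theorem node {a i p n l e z0 z1 z2 z3 z4 z5 z6 z7 : ℕ} {v r : List ℤ} (hd : dotL r v = (p : ℤ) - n)
    (hz : subAt v i ((p : ℤ) - n) = [iz z0, iz z1, iz z2, iz z3, iz z4, iz z5, iz z6, iz z7]) (h : ndB a i p n l e z0 z1 z2 z3 z4 z5 z6 z7 = true) :
    (Nat.blt a 2160 && eqZ (T.get a).v (subAt v i (dotL r v)) &&
      (Nat.beq i 0 || (Nat.beq (T.get a).l l && (!(decide (0 < dotL r v)) || Nat.beq (T.get a).e (e + 1))))) = true := by
  simp only [ndB, frc_eq, an_eq, orr_eq, Bool.and_eq_true, Bool.or_eq_true, Nat.beq_eq, Nat.ble_eq] at h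
  obtain ⟨h0, rfl, rfl, rfl, rfl, rfl, rfl, rfl, rfl, h1⟩ := h
  rw [T_get (by omega), hd, hz]
  simp only [Bool.and_eq_true, Bool.or_eq_true, Nat.beq_eq, Nat.blt_eq, Bool.not_eq_true', decide_eq_false_iff_not]
  exact ⟨⟨h0, eqZ_rfl _⟩, h1.imp_right fun h2 => ⟨h2.1, h2.2.imp_left fun h3 => by omega⟩⟩

theorem dnode {p n e : ℕ} {v r : List ℤ} (hd : dotL r v = (p : ℤ) - n) (c : Bool) (x s : ℕ) :
    (c && decide (dotL r v < 0) && Nat.blt (T.get (fd x s 4096)).e e) =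
      (c && an (Nat.ble (Nat.succ p) n) (Nat.ble (Nat.succ (fd (gt (fd x s 4096)) 140 32)) e)) := by
  rw [T_get (n := fd x s 4096) (Nat.mod_lt _ (by decide)), hd, an_eq, Bool.and_assoc]
  congr 2
  rw [Bool.eq_iff_iff, decide_eq_true_eq, Nat.ble_eq]
  omega

/-- the hash of a code -/
def hs (x : ℕ) : ℕ := (beta% delta% lq263cdfc1e1 fun _ _ _ _ _ _ _ n o _ _ _ _ _ _ =>
 n (fd x 0 32) (o 3 (n (fd x 5 32) (o 3 (n (fd x 10 32) (o 3 (n (fd x 15 32) (o 3 (n (fd x 20 32) (o 3 (n (fd x 25 32) (o 3 (n (fd x 30 32) (o 3 (fd x 35 32)))))))))))))))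

theorem hs_eq (x : ℕ) : dotL [1, 3, 9, 27, 81, 243, 729, 2187] (rw0 x).v = (hs x : ℤ) - 52480 := by
  simp only [rw0, dotL, iz, hs, Nat.add_eq, Nat.mul_eq]
  (solve | lia | omega)

/-- the check of a row -/
def rowB (b : ℕ) : Bool := (beta% delta% lq263cdfc1e1 fun _ _ f _ _ _ m n o p _ r s _ u =>
 frc (gt b) fun x => frc (fd x 0 32) fun x0 => frc (fd x 5 32) fun x1 => frc (fd x 10 32) fun x2 => frc (fd x 15 32) fun x3 => frc (fd x 20 32) fun x4 => frc (fd x 25 32) fun x5 => frc (fd x 30 32) fun x6 => frc (fd x 35 32) fun x7 =>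
 frc (fd x 136 16) fun l => frc (fd x 140 32) fun e => an (p (r l) 10) <|
 an (p (o 2 x0) (n x0 (n x2 16))) <| an (frc (fd x 40 4096) fun a => ndB a 0 (o 2 x0) (n x2 16) l e (s (n x0 (n x2 16)) (o 2 x0)) x1 x2 x3 x4 x5 x6 x7) <|
 an (p (o 2 x1) (n x1 (n x3 16))) <| an (frc (fd x 52 4096) fun a => ndB a 1 (o 2 x1) (n x3 16) l e x0 (s (n x1 (n x3 16)) (o 2 x1)) x2 x3 x4 x5 x6 x7) <|
 an (p (o 2 x2) (n x2 (n x0 x3))) <| an (frc (fd x 64 4096) fun a => ndB a 2 (o 2 x2) (n x0 x3) l e x0 x1 (s (n x2 (n x0 x3)) (o 2 x2)) x3 x4 x5 x6 x7) <|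
 an (p (n (o 2 x3) 16) (n x3 (n (n x1 x2) x4))) <| an (frc (fd x 76 4096) fun a => ndB a 3 (n (o 2 x3) 16) (n (n x1 x2) x4) l e x0 x1 x2 (s (n x3 (n (n x1 x2) x4)) (n (o 2 x3) 16)) x4 x5 x6 x7) <|
 an (p (o 2 x4) (n x4 (n x3 x5))) <| an (frc (fd x 88 4096) fun a => ndB a 4 (o 2 x4) (n x3 x5) l e x0 x1 x2 x3 (s (n x4 (n x3 x5)) (o 2 x4)) x5 x6 x7) <|
 an (p (o 2 x5) (n x5 (n x4 x6))) <| an (frc (fd x 100 4096) fun a => ndB a 5 (o 2 x5) (n x4 x6) l e x0 x1 x2 x3 x4 (s (n x5 (n x4 x6)) (o 2 x5)) x6 x7) <|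
 an (p (o 2 x6) (n x6 (n x5 x7))) <| an (frc (fd x 112 4096) fun a => ndB a 6 (o 2 x6) (n x5 x7) l e x0 x1 x2 x3 x4 x5 (s (n x6 (n x5 x7)) (o 2 x6)) x7) <|
 an (p (o 2 x7) (n x7 (n x6 16))) <| an (frc (fd x 124 4096) fun a => ndB a 7 (o 2 x7) (n x6 16) l e x0 x1 x2 x3 x4 x5 x6 (s (n x7 (n x6 16)) (o 2 x7))) <|
 an (orr (u b (nn (f 2159<|f 2158<|f 2150<|f 2096<|f 1880<|f 2034<|f 1600<|f 1043<|f 268<|f 0<|m) l)) <|
 orr (an (p (r (o 2 x1)) (n x3 16)) (p (r (fd (gt (fd x 52 4096)) 140 32)) e)) <|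
 orr (an (p (r (o 2 x2)) (n x0 x3)) (p (r (fd (gt (fd x 64 4096)) 140 32)) e)) <|
 orr (an (p (r (n (o 2 x3) 16)) (n (n x1 x2) x4)) (p (r (fd (gt (fd x 76 4096)) 140 32)) e)) <|
 orr (an (p (r (o 2 x4)) (n x3 x5)) (p (r (fd (gt (fd x 88 4096)) 140 32)) e)) <|
 orr (an (p (r (o 2 x5)) (n x4 x6)) (p (r (fd (gt (fd x 100 4096)) 140 32)) e)) <|
 orr (an (p (r (o 2 x6)) (n x5 x7)) (p (r (fd (gt (fd x 112 4096)) 140 32)) e)) <|
 (an (p (r (o 2 x7)) (n x6 16)) (p (r (fd (gt (fd x 124 4096)) 140 32)) e))) <|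
 orr (u (r b) 2160) (p (r (hs x)) (hs (gt (r b)))))

theorem row_ok {b : ℕ} (hb : b < 2160) (h : rowB b = true) :
    (beta% delta% lq263cdfc1e1 fun _ _ f _ _ _ m _ _ _ _ _ _ _ _ =>
 chkB T rows 8 2160 10 0 (f 2159<|f 2158<|f 2150<|f 2096<|f 1880<|f 2034<|f 1600<|f 1043<|f 268<|f 0<|m) (f 1<|f 3<|f 9<|f 27<|f 81<|f 243<|f 729<|f 2187<|m) b :
 Bool) = true := by
  delta chkB
  rw [T_get (by omega : b < 4096), T_get (by omega : b + 1 < 4096), hs_eq, hs_eq]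
  simp only [rowB, frc_eq] at h
  generalize gt b = x at h ⊢
  show (true && Nat.blt (fd x 136 16) 10 && (beta% delta% lq263cdfc1e1 fun _ _ f _ _ _ m _ _ _ _ _ _ _ _ =>
 chkA T 2160 0 ⟨(f (iz (fd x 0 32))<|f (iz (fd x 5 32))<|f (iz (fd x 10 32))<|f (iz (fd x 15 32))<|f (iz (fd x 20 32))<|f (iz (fd x 25 32))<|f (iz (fd x 30 32))<|f (iz (fd x 35 32))<|m),
 (f (fd x 40 4096)<|f (fd x 52 4096)<|f (fd x 64 4096)<|f (fd x 76 4096)<|f (fd x 88 4096)<|f (fd x 100 4096)<|f (fd x 112 4096)<|f (fd x 124 4096)<|m), fd x 136 16, fd x 140 32⟩ 0 rows (f (fd x 40 4096)<|f (fd x 52 4096)<|f (fd x 64 4096)<|f (fd x 76 4096)<|f (fd x 88 4096)<|f (fd x 100 4096)<|f (fd x 112 4096)<|f (fd x 124 4096)<|m)) &&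
    (Nat.beq b (nn _ (fd x 136 16)) || (beta% delta% lq263cdfc1e1 fun _ _ f _ _ _ m _ _ _ _ _ _ _ _ =>
 dnA T 0 ⟨(f (iz (fd x 0 32))<|f (iz (fd x 5 32))<|f (iz (fd x 10 32))<|f (iz (fd x 15 32))<|f (iz (fd x 20 32))<|f (iz (fd x 25 32))<|f (iz (fd x 30 32))<|f (iz (fd x 35 32))<|m),
 (f (fd x 40 4096)<|f (fd x 52 4096)<|f (fd x 64 4096)<|f (fd x 76 4096)<|f (fd x 88 4096)<|f (fd x 100 4096)<|f (fd x 112 4096)<|f (fd x 124 4096)<|m), fd x 136 16, fd x 140 32⟩ 0 rows (f (fd x 40 4096)<|f (fd x 52 4096)<|f (fd x 64 4096)<|f (fd x 76 4096)<|f (fd x 88 4096)<|f (fd x 100 4096)<|f (fd x 112 4096)<|f (fd x 124 4096)<|m))) && _) = true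
  generalize fd x 0 32 = x0, fd x 5 32 = x1, fd x 10 32 = x2, fd x 15 32 = x3, fd x 20 32 = x4, fd x 25 32 = x5, fd x 30 32 = x6, fd x 35 32 = x7 at h ⊢
  have d0 : (beta% delta% lq263cdfc1e1 fun _ _ f _ _ _ m _ _ _ _ _ _ _ _ =>
 dotL (f 2<|f 0<|f (-1)<|f 0<|f 0<|f 0<|f 0<|f 0<|m) (f (iz x0)<|f (iz x1)<|f (iz x2)<|f (iz x3)<|f (iz x4)<|f (iz x5)<|f (iz x6)<|f (iz x7)<|m) :
 ℤ) = ((Nat.mul 2 x0 : ℕ) : ℤ) - ((Nat.add x2 16 : ℕ) : ℤ) := by
    simp only [dotL, iz, Nat.add_eq, Nat.mul_eq]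
    (clear * -; solve | lia | omega)
  have d1 : (beta% delta% lq263cdfc1e1 fun _ _ f _ _ _ m _ _ _ _ _ _ _ _ =>
 dotL (f 0<|f 2<|f 0<|f (-1)<|f 0<|f 0<|f 0<|f 0<|m) (f (iz x0)<|f (iz x1)<|f (iz x2)<|f (iz x3)<|f (iz x4)<|f (iz x5)<|f (iz x6)<|f (iz x7)<|m) :
 ℤ) = ((Nat.mul 2 x1 : ℕ) : ℤ) - ((Nat.add x3 16 : ℕ) : ℤ) := by
    simp only [dotL, iz, Nat.add_eq, Nat.mul_eq]
    (clear * -; solve | lia | omega)
  have d2 : (beta% delta% lq263cdfc1e1 fun _ _ f _ _ _ m _ _ _ _ _ _ _ _ =>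
 dotL (f (-1)<|f 0<|f 2<|f (-1)<|f 0<|f 0<|f 0<|f 0<|m) (f (iz x0)<|f (iz x1)<|f (iz x2)<|f (iz x3)<|f (iz x4)<|f (iz x5)<|f (iz x6)<|f (iz x7)<|m) :
 ℤ) = ((Nat.mul 2 x2 : ℕ) : ℤ) - ((Nat.add x0 x3 : ℕ) : ℤ) := by
    simp only [dotL, iz, Nat.add_eq, Nat.mul_eq]
    (clear * -; solve | lia | omega)
  have d3 : (beta% delta% lq263cdfc1e1 fun _ _ f _ _ _ m _ _ _ _ _ _ _ _ =>
 dotL (f 0<|f (-1)<|f (-1)<|f 2<|f (-1)<|f 0<|f 0<|f 0<|m) (f (iz x0)<|f (iz x1)<|f (iz x2)<|f (iz x3)<|f (iz x4)<|f (iz x5)<|f (iz x6)<|f (iz x7)<|m) :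
 ℤ) = ((Nat.add (Nat.mul 2 x3) 16 : ℕ) : ℤ) - ((Nat.add (Nat.add x1 x2) x4 : ℕ) : ℤ) := by
    simp only [dotL, iz, Nat.add_eq, Nat.mul_eq]
    (clear * -; solve | lia | omega)
  have d4 : (beta% delta% lq263cdfc1e1 fun _ _ f _ _ _ m _ _ _ _ _ _ _ _ =>
 dotL (f 0<|f 0<|f 0<|f (-1)<|f 2<|f (-1)<|f 0<|f 0<|m) (f (iz x0)<|f (iz x1)<|f (iz x2)<|f (iz x3)<|f (iz x4)<|f (iz x5)<|f (iz x6)<|f (iz x7)<|m) :
 ℤ) = ((Nat.mul 2 x4 : ℕ) : ℤ) - ((Nat.add x3 x5 : ℕ) : ℤ) := by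
    simp only [dotL, iz, Nat.add_eq, Nat.mul_eq]
    (clear * -; solve | lia | omega)
  have d5 : (beta% delta% lq263cdfc1e1 fun _ _ f _ _ _ m _ _ _ _ _ _ _ _ =>
 dotL (f 0<|f 0<|f 0<|f 0<|f (-1)<|f 2<|f (-1)<|f 0<|m) (f (iz x0)<|f (iz x1)<|f (iz x2)<|f (iz x3)<|f (iz x4)<|f (iz x5)<|f (iz x6)<|f (iz x7)<|m) :
 ℤ) = ((Nat.mul 2 x5 : ℕ) : ℤ) - ((Nat.add x4 x6 : ℕ) : ℤ) := by
    simp only [dotL, iz, Nat.add_eq, Nat.mul_eq]
    (clear * -; solve | lia | omega)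
  have d6 : (beta% delta% lq263cdfc1e1 fun _ _ f _ _ _ m _ _ _ _ _ _ _ _ =>
 dotL (f 0<|f 0<|f 0<|f 0<|f 0<|f (-1)<|f 2<|f (-1)<|m) (f (iz x0)<|f (iz x1)<|f (iz x2)<|f (iz x3)<|f (iz x4)<|f (iz x5)<|f (iz x6)<|f (iz x7)<|m) :
 ℤ) = ((Nat.mul 2 x6 : ℕ) : ℤ) - ((Nat.add x5 x7 : ℕ) : ℤ) := by
    simp only [dotL, iz, Nat.add_eq, Nat.mul_eq]
    (clear * -; solve | lia | omega)
  have d7 : (beta% delta% lq263cdfc1e1 fun _ _ f _ _ _ m _ _ _ _ _ _ _ _ =>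
 dotL (f 0<|f 0<|f 0<|f 0<|f 0<|f 0<|f (-1)<|f 2<|m) (f (iz x0)<|f (iz x1)<|f (iz x2)<|f (iz x3)<|f (iz x4)<|f (iz x5)<|f (iz x6)<|f (iz x7)<|m) :
 ℤ) = ((Nat.mul 2 x7 : ℕ) : ℤ) - ((Nat.add x6 16 : ℕ) : ℤ) := by
    simp only [dotL, iz, Nat.add_eq, Nat.mul_eq]
    (clear * -; solve | lia | omega)
  simp only [an_eq, Bool.and_eq_true] at h
  obtain ⟨hl, k0, h0, k1, h1, k2, h2, k3, h3, k4, h4, k5, h5, k6, h6, k7, h7, h8, h9⟩ := h
  refine (Bool.and_eq_true _ _).mpr ⟨(Bool.and_eq_true _ _).mpr ⟨(Bool.and_eq_true _ _).mpr ⟨hl, ?_⟩, ?_⟩, ?_⟩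
  · exact (Bool.and_eq_true _ _).mpr ⟨node d0 (by
      rw [show iz (Nat.sub (Nat.add x0 (Nat.add x2 16)) (Nat.mul 2 x0)) = iz x0 - (((Nat.mul 2 x0 : ℕ) : ℤ) - ((Nat.add x2 16 : ℕ) : ℤ)) by
        simp only [iz, Nat.add_eq, Nat.mul_eq, Nat.sub_eq, Nat.ble_eq] at k0 ⊢; omega]; rfl) h0,
    (Bool.and_eq_true _ _).mpr ⟨node d1 (by
      rw [show iz (Nat.sub (Nat.add x1 (Nat.add x3 16)) (Nat.mul 2 x1)) = iz x1 - (((Nat.mul 2 x1 : ℕ) : ℤ) - ((Nat.add x3 16 : ℕ) : ℤ)) by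
        simp only [iz, Nat.add_eq, Nat.mul_eq, Nat.sub_eq, Nat.ble_eq] at k1 ⊢; omega]; rfl) h1,
    (Bool.and_eq_true _ _).mpr ⟨node d2 (by
      rw [show iz (Nat.sub (Nat.add x2 (Nat.add x0 x3)) (Nat.mul 2 x2)) = iz x2 - (((Nat.mul 2 x2 : ℕ) : ℤ) - ((Nat.add x0 x3 : ℕ) : ℤ)) by
        simp only [iz, Nat.add_eq, Nat.mul_eq, Nat.sub_eq, Nat.ble_eq] at k2 ⊢; omega]; rfl) h2,
    (Bool.and_eq_true _ _).mpr ⟨node d3 (by
      rw [show iz (Nat.sub (Nat.add x3 (Nat.add (Nat.add x1 x2) x4)) (Nat.add (Nat.mul 2 x3) 16)) = iz x3 - (((Nat.add (Nat.mul 2 x3) 16 : ℕ) : ℤ) - ((Nat.add (Nat.add x1 x2) x4 : ℕ) : ℤ)) by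
        simp only [iz, Nat.add_eq, Nat.mul_eq, Nat.sub_eq, Nat.ble_eq] at k3 ⊢; (clear * - k3; omega)]; rfl) h3,
    (Bool.and_eq_true _ _).mpr ⟨node d4 (by
      rw [show iz (Nat.sub (Nat.add x4 (Nat.add x3 x5)) (Nat.mul 2 x4)) = iz x4 - (((Nat.mul 2 x4 : ℕ) : ℤ) - ((Nat.add x3 x5 : ℕ) : ℤ)) by
        simp only [iz, Nat.add_eq, Nat.mul_eq, Nat.sub_eq, Nat.ble_eq] at k4 ⊢; (clear * - k4; omega)]; rfl) h4,
    (Bool.and_eq_true _ _).mpr ⟨node d5 (by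
      rw [show iz (Nat.sub (Nat.add x5 (Nat.add x4 x6)) (Nat.mul 2 x5)) = iz x5 - (((Nat.mul 2 x5 : ℕ) : ℤ) - ((Nat.add x4 x6 : ℕ) : ℤ)) by
        simp only [iz, Nat.add_eq, Nat.mul_eq, Nat.sub_eq, Nat.ble_eq] at k5 ⊢; omega]; rfl) h5,
    (Bool.and_eq_true _ _).mpr ⟨node d6 (by
      rw [show iz (Nat.sub (Nat.add x6 (Nat.add x5 x7)) (Nat.mul 2 x6)) = iz x6 - (((Nat.mul 2 x6 : ℕ) : ℤ) - ((Nat.add x5 x7 : ℕ) : ℤ)) by
        simp only [iz, Nat.add_eq, Nat.mul_eq, Nat.sub_eq, Nat.ble_eq] at k6 ⊢; omega]; rfl) h6,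
    (Bool.and_eq_true _ _).mpr ⟨node d7 (by
      rw [show iz (Nat.sub (Nat.add x7 (Nat.add x6 16)) (Nat.mul 2 x7)) = iz x7 - (((Nat.mul 2 x7 : ℕ) : ℤ) - ((Nat.add x6 16 : ℕ) : ℤ)) by
        simp only [iz, Nat.add_eq, Nat.mul_eq, Nat.sub_eq, Nat.ble_eq] at k7 ⊢; omega]; rfl) h7,
    rfl⟩⟩⟩⟩⟩⟩⟩⟩
  · simp only [rows, dnA]
    rw [dnode d0, dnode d1, dnode d2, dnode d3, dnode d4, dnode d5, dnode d6, dnode d7]
    simpa only [orr_eq, an_eq, Nat.beq, Bool.not_true, Bool.not_false, Bool.true_and, Bool.false_and, Bool.false_or, Bool.or_false]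
      using h8
  · rw [orr_eq, Bool.or_eq_true, Nat.ble_eq] at h9
    exact (Bool.or_eq_true _ _).mpr (h9.imp_right fun h => decide_eq_true (sub_lt_sub_right (Int.ofNat_lt.2 h) _))

/-- all numbers less than `n` -/
def fa (p : ℕ → Bool) (n : ℕ) : Bool := Nat.rec (motive := fun _ => Bool) true (fun k ih => an (p k) ih) n

theorem fa_eq (p : ℕ → Bool) (n : ℕ) : fa p n = allB p n := by
  induction n with
  | zero => rfl
  | succ n ih => exact (an_eq (p n) (fa p n)).trans (congrArg _ ih)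

theorem rows_ok : fa rowB 2160 = true := by decide +kernel

theorem rows_ok' {b : ℕ} (hb : b < 2160) : (beta% delta% lq263cdfc1e1 fun _ _ f _ _ _ m _ _ _ _ _ _ _ _ =>
 chkB T rows 8 2160 10 0 (f 2159<|f 2158<|f 2150<|f 2096<|f 1880<|f 2034<|f 1600<|f 1043<|f 268<|f 0<|m) (f 1<|f 3<|f 9<|f 27<|f 81<|f 243<|f 729<|f 2187<|m) b :
 Bool) = true :=
  row_ok hb (allB_iff ((fa_eq _ _).symm.trans rows_ok) hb)

theorem hc0 : (beta% delta% lq263cdfc1e1 fun _ _ f _ _ _ m _ _ _ _ _ _ _ _ =>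
 allB (chkB T rows 8 2160 10 0 (f 2159<|f 2158<|f 2150<|f 2096<|f 1880<|f 2034<|f 1600<|f 1043<|f 268<|f 0<|m) (f 1<|f 3<|f 9<|f 27<|f 81<|f 243<|f 729<|f 2187<|m)) 540 :
 Bool) = true :=
  allB_of fun b hb => rows_ok' (by omega)

theorem hc1 : (beta% delta% lq263cdfc1e1 fun _ _ f _ _ _ m _ _ _ _ _ _ _ _ =>
 allB (fun i => chkB T rows 8 2160 10 0 (f 2159<|f 2158<|f 2150<|f 2096<|f 1880<|f 2034<|f 1600<|f 1043<|f 268<|f 0<|m) (f 1<|f 3<|f 9<|f 27<|f 81<|f 243<|f 729<|f 2187<|m) (540 + i)) 540 :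
 Bool) = true :=
  allB_of fun b hb => rows_ok' (by omega)

theorem hc2 : (beta% delta% lq263cdfc1e1 fun _ _ f _ _ _ m _ _ _ _ _ _ _ _ =>
 allB (fun i => chkB T rows 8 2160 10 0 (f 2159<|f 2158<|f 2150<|f 2096<|f 1880<|f 2034<|f 1600<|f 1043<|f 268<|f 0<|m) (f 1<|f 3<|f 9<|f 27<|f 81<|f 243<|f 729<|f 2187<|m) (1080 + i)) 540 :
 Bool) = true :=
  allB_of fun b hb => rows_ok' (by omega)

theorem hc3 : (beta% delta% lq263cdfc1e1 fun _ _ f _ _ _ m _ _ _ _ _ _ _ _ =>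
 allB (fun i => chkB T rows 8 2160 10 0 (f 2159<|f 2158<|f 2150<|f 2096<|f 1880<|f 2034<|f 1600<|f 1043<|f 268<|f 0<|m) (f 1<|f 3<|f 9<|f 27<|f 81<|f 243<|f 729<|f 2187<|m) (1620 + i)) 540 :
 Bool) = true :=
  allB_of fun b hb => rows_ok' (by omega)

theorem hc : (beta% delta% lq263cdfc1e1 fun _ _ f _ _ _ m _ _ _ _ _ _ _ _ =>
 allB (chkB T rows 8 2160 10 0 (f 2159<|f 2158<|f 2150<|f 2096<|f 1880<|f 2034<|f 1600<|f 1043<|f 268<|f 0<|m) (f 1<|f 3<|f 9<|f 27<|f 81<|f 243<|f 729<|f 2187<|m)) 2160 :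
 Bool) = true :=
  allB_split (a := 1620) (b := 540) (allB_split (a := 1080) (b := 540)
    (allB_split (a := 540) (b := 540) hc0 hc1) hc2) hc3

theorem tab : TabC 2160 10 cE8 0 T rows [2159, 2158, 2150, 2096, 1880, 2034, 1600, 1043, 268, 0] [1, 3, 9, 27, 81, 243, 729, 2187] 2159
    (beta% delta% lq263cdfc1e1 fun _ _ f _ j k m _ _ _ q _ _ _ _ =>
 (k m<|k (f 0<|m)<|k (f 0<|f 2<|f 3<|f 1<|f 4<|f 3<|f 2<|f 0<|m)<|k (f 0<|f 2<|f 3<|f 1<|f 4<|f 3<|f 2<|f 5<|f 4<|f 3<|f 1<|f 6<|f 5<|f 4<|f 3<|f 2<|f 0<|m)<|k (f 0<|f 2<|f 3<|f 1<|f 4<|f 3<|f 2<|f 0<|f 5<|f 4<|f 3<|f 2<|f 6<|f 5<|f 4<|f 3<|f 1<|f 7<|f 6<|f 5<|f 4<|f 3<|f 2<|f 0<|m)<|k (let h:=(let h:=(let h:=(j 5<|j 4<|j 3<|j 2<|j 0<|m);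
 (j 2<|j 4<|j 3<|j 1<|h));
 (let h:=(j 1<|j 2<|j 0<|j 3<|h);
 (j 6<|j 5<|j 4<|j 3<|h)));
 (let h:=(let h:=(j 2<|j 3<|j 4<|j 5<|h);
 (j 5<|j 4<|j 3<|j 1<|h));
 (let h:=(j 4<|j 3<|j 2<|j 0<|h);
 (f 0<|f 2<|f 3<|f 1<|h))))<|k (let h:=(let h:=(let h:=(j 5<|j 4<|j 3<|j 2<|j 0<|m);
 (j 3<|j 1<|j 7<|j 6<|h));
 (let h:=(j 0<|j 3<|j 2<|j 4<|h);
 (j 4<|j 3<|j 1<|j 2<|h)));
 (let h:=(let h:=(j 2<|j 3<|j 4<|j 6<|j 5<|h);
 (j 5<|j 4<|j 3<|j 1<|h));
 (let h:=(j 4<|j 3<|j 2<|j 0<|h);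
 (f 0<|f 2<|f 3<|f 1<|h))))<|k (let h:=(let h:=(let h:=(j 1<|j 5<|j 4<|j 3<|j 2<|j 0<|m);
 (j 0<|j 3<|j 2<|j 4<|j 3<|h));
 (let h:=(j 6<|j 5<|j 4<|j 3<|j 1<|j 2<|h);
 (j 2<|j 3<|j 4<|j 5<|j 7<|h)));
 (let h:=(let h:=(j 5<|j 6<|j 5<|j 4<|j 3<|j 1<|h);
 (j 3<|j 1<|j 2<|j 3<|j 4<|h));
 (let h:=(j 3<|j 2<|j 0<|j 5<|j 4<|h);
 (f 0<|f 2<|f 3<|f 1<|f 4<|h))))<|k (let h:=(let h:=(let h:=(j 7<|j 6<|j 5<|j 4<|j 3<|j 2<|j 0<|m);
 (j 3<|j 2<|j 6<|j 5<|j 4<|j 3<|j 1<|h));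
 (let h:=(j 3<|j 2<|j 4<|j 3<|j 1<|j 5<|j 4<|h);
 (j 6<|j 5<|j 4<|j 3<|j 1<|j 2<|j 0<|h)));
 (let h:=(let h:=(j 0<|j 3<|j 2<|j 4<|j 3<|j 1<|j 7<|h);
 (j 4<|j 6<|j 5<|j 4<|j 3<|j 1<|j 2<|h));
 (let h:=(j 0<|j 5<|j 4<|j 3<|j 1<|j 2<|j 3<|h);
 (f 0<|f 2<|f 3<|f 1<|f 4<|f 3<|f 2<|h))))<|k (let h:=(let h:=(let h:=(let h:=(j 5<|j 4<|j 3<|j 2<|j 0<|m);
 (j 3<|j 2<|j 4<|j 3<|j 1<|h));
 (let h:=(j 4<|j 3<|j 1<|j 2<|j 0<|h);
 (j 4<|j 5<|j 7<|j 6<|j 5<|h)));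
 (let h:=(let h:=(j 4<|j 3<|j 1<|j 2<|j 3<|h);
 (j 3<|j 2<|j 0<|j 6<|j 5<|h));
 (let h:=(j 4<|j 3<|j 1<|j 5<|j 4<|h);
 (j 2<|j 0<|j 3<|j 2<|h))));
 (let h:=(let h:=(let h:=(j 6<|j 5<|j 4<|j 3<|j 1<|h);
 (j 4<|j 3<|j 2<|j 0<|j 7<|h));
 (let h:=(j 2<|j 4<|j 3<|j 1<|j 5<|h);
 (j 3<|j 1<|j 2<|j 0<|j 3<|h)));
 (let h:=(let h:=(j 4<|j 5<|j 6<|j 5<|j 4<|h);
 (j 4<|j 3<|j 1<|j 2<|j 3<|h));
 (let h:=(j 4<|j 3<|j 2<|j 0<|j 5<|h);
 (f 0<|f 2<|f 3<|f 1<|h)))))<|q) :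
 Fin 10 → List (Fin 8)) where
  hr1 := by decide +kernel
  hr2 := by decide +kernel
  hr3 := by decide +kernel
  hh := by decide +kernel
  hsy := by decide +kernel
  hc := hc
  hb0 := by decide +kernel
  hd1 := by decide +kernel
  hd2 := by decide +kernel
  hd3 := by decide +kernel
  hbs := by decide +kernel
  hwd := by decide +kernel

theorem ex1 : ∀ k : Fin 10, (T.get (nn [2159, 2158, 2150, 2096, 1880, 2034, 1600, 1043, 268, 0] k)).e = 0 := by decide +kernel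

/-- exponent, sign, level of the image -/
def dg : Fin 10 → List (ℕ × ℕ × Fin 10) := (beta% delta% lq263cdfc1e1 fun c d f _ _ k m _ _ _ q _ _ _ _ =>
 (k (f (c 0<|c 1 1)<|m)<|k (let h:=(let h:=(let h:=(let h:=(d (c 3<|c 0 1)<|d (c 2<|c 0 1)<|d (c 1<|c 0 1)<|d (c 0<|c 2 0)<|m);
 (d (c 6<|c 1 2)<|d (c 5<|c 0 1)<|d (c 4<|c 0 1)<|d (c 3<|c 0
 1)<|h));
 (let h:=(d (c 7<|c 1 2)<|d (c 6<|c 0 1)<|d (c 5<|c 0 1)<|d (c 4<|c 0 1)<|h);
 (d (c 10<|c 1 2)<|d (c 9<|c 1 2)<|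
 d (c 8<|c 1 2)<|d (c 7<|c 0 1)<|h)));
 (let h:=(let h:=(d (c 8<|c 1 2)<|d (c 7<|c 0 1)<|d (c 6<|c 0 1)<|d (c 5<|c 0 1)<|h);
 (d (c 11<|
 c 1 2)<|d (c 10<|c 1 2)<|d (c 9<|c 1 2)<|d (c 8<|c 0 1)<|h));
 (let h:=(d (c 12<|c 1 2)<|d (c 11<|c 1 2)<|d (c 10<|c 1 2)<|d (c 9<|c 0 1)<|h);
 (d (c 15<|c 1 3)<|d (c 14<|c 1 2)<|d (c 13<|c 1 2)<|d (c 12<|c 1 2)<|h))));
 (let h:=(let h:=(let h:=(d (c 9<|c 1 2)<|d (c 8<|c 0 1)<|d (c 7<|c 0 1)<|d (c 6<|
 c 0 1)<|h);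
 (d (c 12<|c 1 2)<|d (c 11<|c 1 2)<|d (c 10<|c 1 2)<|d (c 9<|c 0 1)<|h));
 (let h:=(d (c 13<|c 1 2)<|d (c 12<|c 1 2)<|
 d (c 11<|c 1 2)<|d (c 10<|c 0 1)<|h);
 (d (c 16<|c 1 3)<|d (c 15<|c 1 2)<|d (c 14<|c 1 2)<|d (c 13<|c 1 2)<|h)));
 (let h:=(let h:=(d (c 14<|c 1 2)<|
 d (c 13<|c 1 2)<|d (c 12<|c 1 2)<|d (c 11<|c 0 1)<|h);
 (d (c 17<|c 1 3)<|d (c 16<|c 1 2)<|d (c 15<|c 1 2)<|d (c 14<|c 1 2)<|h));
 (let h:=(d (c 18<|c 1 3)<|d (c 17<|c 1 2)<|d (c 16<|c 1 2)<|d (c 15<|c 1 2)<|h);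
 (f (c 21<|c 1 3)<|f (c 20<|c 1 3)<|f (c 19<|c 1 3)<|f (c 18<|c 1 2)<|
 h)))))<|k (let h:=(let h:=(let h:=(let h:=(let h:=(let h:=(d (c 4<|c 2 1)<|d (c 3<|c 2 1)<|d (c 2<|c 2 1)<|
 d (c 1<|c 2 1)<|d (c 0<|c 2 1)<|m);
 (d (c 7<|c 0 2)<|d (c 6<|c 0 2)<|d (c 5<|c 0 2)<|d (c 4<|c 0 2)<|h));
 (let h:=(d (c 5<|c 2 1)<|d (c 4<|c 2 1)<|d (c 3<|
 c 2 1)<|d (c 2<|c 2 1)<|d (c 8<|c 0 2)<|h);
 (d (c 8<|c 0 2)<|d (c 7<|c 0 2)<|d (c 6<|c 0 2)<|d (c 5<|c 0 2)<|h)));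
 (let h:=(let h:=(d (c 7<|c 0 2)<|d (c 6<|c 0
 2)<|d (c 6<|c 2 1)<|d (c 5<|c 2 1)<|d (c 4<|c 2 1)<|h);
 (d (c 7<|c 0 2)<|d (c 7<|c 2 1)<|d (c 6<|c 2 1)<|d (c 8<|c 0 2)<|h));
 (let h:=(d (c 9<|c 0 2)<|d (c 8<|c 0 2)<|d (c 8<|c 2 1)<|d (c 8<|c 0 2)<|h);
 (d (c 10<|c 1 3)<|d (c 10<|c 0 2)<|d (c 9<|c 0 2)<|d (c 9<|c 1 3)<|
 h))));
 (let h:=(let h:=(let h:=(d (c 11<|c 1 3)<|d (c 11<|c 0 2)<|d (c 10<|c 0 2)<|d (c 9<|c 0 2)<|d (c 11<|c 1 3)<|h);
 (d (c 10<|c 0 2)<|d (c 9<|c 0 2)<|d (c 13<|c 1 3)<|d (c 12<|c 1 3)<|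
 h));
 (let h:=(d (c 14<|c 1 3)<|d (c 13<|c 1 3)<|d (c 12<|c 1 3)<|d (c 12<|c 0 2)<|d (c 11<|c 0 2)<|h);
 (d (c 11<|c 0 2)<|d (c 10<|c 0 2)<|d (c 9<|c 0 2)<|d (c 15<|c 1 3)<|
 h)));
 (let h:=(let h:=(d (c 15<|c 1 3)<|d (c 14<|c 1 3)<|d (c 13<|c 1 3)<|d (c 13<|c 0 2)<|d (c 12<|c 0 2)<|h);
 (d (c 4<|c 2 1)<|d (c 3<|c 2 1)<|d (c 17<|c 1 3)<|d (c 16<|c 1 3)<|
 h));
 (let h:=(d (c 7<|c 0 2)<|d (c 6<|c 0 2)<|d (c 6<|c 2 1)<|d (c 5<|c 2 1)<|h);
 (d (c 6<|c 2 1)<|d (c 5<|c 2 1)<|d (c 9<|c 0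
 2)<|d (c 8<|c 0 2)<|h)))));
 (let h:=(let h:=(let h:=(let h:=(d (c 7<|c 2 1)<|d (c 9<|c 0 2)<|d (c 8<|c 0 2)<|d (c 7<|c 0 2)<|d (c 7<|c 2 1)<|h);
 (d (c 9<|c 2 1)<|d (c 9<|c 0 2)<|
 d (c 8<|c 0 2)<|d (c 8<|c 2 1)<|h));
 (let h:=(d (c 11<|c 0 2)<|d (c 10<|c 0 2)<|d (c 10<|c 1 3)<|d (c 10<|c 0 2)<|d (c 9<|c 0 2)<|h);
 (d (c 11<|c 0 2)<|d (c 10<|c 0 2)<|
 d (c 12<|c 1 3)<|d (c 11<|c 1 3)<|h)));
 (let h:=(let h:=(d (c 10<|c 0 2)<|d (c 14<|c 1 3)<|d (c 13<|c 1 3)<|d (c 12<|c 1 3)<|d (c 12<|c 0 2)<|h);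
 (d (c 13<|c 1 3)<|d (c 13<|c 0 2)<|
 d (c 12<|c 0 2)<|d (c 11<|c 0 2)<|h));
 (let h:=(d (c 6<|c 2 1)<|d (c 16<|c 1 3)<|d (c 15<|c 1 3)<|d (c 14<|c 1 3)<|h);
 (d (c 9<|c 0 2)<|
 d (c 8<|c 0 2)<|d (c 8<|c 2 1)<|d (c 7<|c 2 1)<|h))));
 (let h:=(let h:=(let h:=(d (c 10<|c 0 2)<|d (c 9<|c 0 2)<|d (c 9<|c 2 1)<|d (c 8<|c 2 1)<|d (c 10<|c 0 2)<|h);
 (d (c 11<|c 1
 3)<|d (c 11<|c 0 2)<|d (c 10<|c 0 2)<|d (c 10<|c 2 1)<|h));
 (let h:=(d (c 11<|c 0 2)<|d (c 13<|c 1 3)<|d (c 12<|c 1 3)<|d (c 12<|c 0 2)<|d (c 11<|c 0 2)<|h);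
 (d (c 14<|c 1
 3)<|d (c 13<|c 1 3)<|d (c 13<|c 0 2)<|d (c 12<|c 0 2)<|h)));
 (let h:=(let h:=(d (c 11<|c 0 2)<|d (c 10<|c 0 2)<|d (c 10<|c 2 1)<|d (c 9<|c 2 1)<|d (c 15<|c 1 3)<|h);
 (d (c 12<|c 1
 3)<|d (c 12<|c 0 2)<|d (c 11<|c 0 2)<|d (c 11<|c 2 1)<|h));
 (let h:=(d (c 14<|c 1 3)<|d (c 13<|c 1 3)<|d (c 13<|c 0 2)<|d (c 12<|c 0 2)<|h);
 (d (c 13<|c 1 3)<|d (c 13<|c 0 2)<|d (c 12<|c 0 2)<|d (c 12<|c 2 1)<|h))))));
 (let h:=(let h:=(let h:=(let h:=(let h:=(d (c 13<|c 0 2)<|d (c 15<|c 1 4)<|d (c 15<|c 1 3)<|d (c 14<|c 1 3)<|d (c 14<|c 0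
 2)<|h);
 (d (c 15<|c 0 2)<|d (c 15<|c 1 3)<|d (c 14<|c 1 3)<|d (c 14<|c 0 2)<|h));
 (let h:=(d (c 17<|c 1 3)<|d (c 16<|c 1 3)<|d (c 16<|c 1 4)<|d (c 16<|c 1 3)<|d (c 15<|c 1
 3)<|h);
 (d (c 13<|c 0 2)<|d (c 12<|c 0 2)<|d (c 18<|c 1 4)<|d (c 17<|c 1 4)<|h)));
 (let h:=(let h:=(d (c 14<|c 0 2)<|d (c 16<|c 1 3)<|d (c 15<|c 1 3)<|d (c 14<|c 1 3)<|d (c 14<|c 0
 2)<|h);
 (d (c 16<|c 0 2)<|d (c 16<|c 1 3)<|d (c 15<|c 1 3)<|d (c 15<|c 0 2)<|h));
 (let h:=(d (c 17<|c 1 3)<|d (c 17<|c 1 4)<|d (c 17<|c 1 3)<|d (c 16<|c 1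
 3)<|h);
 (d (c 17<|c 1 3)<|d (c 19<|c 1 4)<|d (c 18<|c 1 4)<|d (c 18<|c 1 3)<|h))));
 (let h:=(let h:=(let h:=(d (c 21<|c 1 4)<|d (c 20<|c 1 4)<|d (c 19<|c 1 4)<|d (c 19<|c 1
 3)<|d (c 18<|c 1 3)<|h);
 (d (c 14<|c 0 2)<|d (c 13<|c 0 2)<|d (c 12<|c 0 2)<|d (c 11<|c 0 2)<|h));
 (let h:=(d (c 13<|c 0 2)<|d (c 17<|c 1 3)<|d (c 16<|c 1 3)<|d (c 15<|c 1
 3)<|d (c 14<|c 1 3)<|h);
 (d (c 16<|c 1 3)<|d (c 15<|c 1 3)<|d (c 15<|c 0 2)<|d (c 14<|c 0 2)<|h)));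
 (let h:=(let h:=(d (c 17<|c 1 3)<|d (c 16<|c 1 3)<|d (c 16<|c 0 2)<|d (c 15<|c 0
 2)<|d (c 17<|c 1 3)<|h);
 (d (c 18<|c 1 4)<|d (c 18<|c 1 3)<|d (c 17<|c 1 3)<|d (c 17<|c 0 2)<|h));
 (let h:=(d (c 20<|c 1 4)<|d (c 19<|c 1 4)<|d (c 19<|c 1
 3)<|d (c 18<|c 1 3)<|h);
 (d (c 20<|c 1 4)<|d (c 20<|c 1 3)<|d (c 19<|c 1 3)<|d (c 18<|c 1 3)<|h)))));
 (let h:=(let h:=(let h:=(let h:=(d (c 20<|c 1 3)<|d (c 19<|c 1 3)<|d (c 18<|c 1
 3)<|d (c 22<|c 1 4)<|d (c 21<|c 1 4)<|h);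
 (d (c 23<|c 1 4)<|d (c 22<|c 1 4)<|d (c 21<|c 1 4)<|d (c 21<|c 1 3)<|h));
 (let h:=(d (c 13<|c 0 2)<|d (c 12<|c 0 2)<|d (c 11<|c 0
 2)<|d (c 10<|c 0 2)<|d (c 24<|c 1 4)<|h);
 (d (c 16<|c 1 3)<|d (c 15<|c 1 3)<|d (c 14<|c 1 3)<|d (c 14<|c 0 2)<|h)));
 (let h:=(let h:=(d (c 14<|c 0 2)<|d (c 13<|c 0 2)<|d (c 12<|c 0
 2)<|d (c 18<|c 1 3)<|d (c 17<|c 1 3)<|h);
 (d (c 17<|c 1 3)<|d (c 16<|c 1 3)<|d (c 15<|c 1 3)<|d (c 15<|c 0 2)<|h));
 (let h:=(d (c 16<|c 0 2)<|d (c 15<|c 0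
 2)<|d (c 14<|c 0 2)<|d (c 18<|c 1 3)<|h);
 (d (c 16<|c 0 2)<|d (c 18<|c 1 3)<|d (c 17<|c 1 3)<|d (c 16<|c 1 3)<|h))));
 (let h:=(let h:=(let h:=(d (c 18<|c 1 3)<|d (c 18<|c 0
 2)<|d (c 18<|c 1 3)<|d (c 17<|c 1 3)<|d (c 17<|c 0 2)<|h);
 (d (c 20<|c 1 3)<|d (c 19<|c 1 3)<|d (c 19<|c 1 4)<|d (c 19<|c 1 3)<|h));
 (let h:=(d (c 21<|c 1 3)<|d (c 20<|c 1
 3)<|d (c 19<|c 1 3)<|d (c 21<|c 1 4)<|d (c 20<|c 1 4)<|h);
 (d (c 19<|c 1 3)<|d (c 23<|c 1 4)<|d (c 22<|c 1 4)<|d (c 21<|c 1 4)<|h)));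
 (let h:=(let h:=(d (c 23<|c 1 4)<|d (c 22<|c 1
 4)<|d (c 22<|c 1 3)<|d (c 21<|c 1 3)<|d (c 20<|c 1 3)<|h);
 (d (c 20<|c 1 3)<|d (c 19<|c 1 3)<|d (c 25<|c 1 4)<|d (c 24<|c 1 4)<|h));
 (let h:=(d (c 23<|c 1
 4)<|d (c 23<|c 1 3)<|d (c 22<|c 1 3)<|d (c 21<|c 1 3)<|h);
 (f (c 27<|c 1 4)<|f (c 26<|c 1 4)<|f (c 25<|c 1 4)<|f (c 24<|c 1 4)<|h)))))))<|k (let h:=(let h:=(let h:=(let h:=(let h:=(let h:=(d (c 5<|c 2 2)<|d (c 4<|c 2 2)<|d (c 3<|c 2 2)<|d (c 3<|c 2 2)<|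
 d (c 2<|c 2 2)<|d (c 1<|c 2 2)<|d (c 0<|c 2 1)<|m);
 (d (c 8<|c 0 3)<|d (c 7<|
 c 2 2)<|d (c 7<|c 0 3)<|d (c 6<|c 2 2)<|d (c 5<|c 2 2)<|d (c 4<|c 2 2)<|d (c 6<|c 0 3)<|h));
 (let h:=(d (c 8<|c 2 2)<|d (c 8<|c 0 3)<|d (c 7<|c 2 2)<|d (c 6<|c 2 2)<|d (c 5<|c 2 2)<|d (c 10<|c 0 3)<|d (c 9<|c 0 3)<|h);
 (d (c 12<|c 0 3)<|d (c 11<|c 0 3)<|d (c 10<|c 0 3)<|d (c 9<|c 2 2)<|d (c 11<|c 0 3)<|d (c 10<|c 0
 3)<|d (c 9<|c 0 3)<|h)));
 (let h:=(let h:=(d (c 3<|c 2 2)<|d (c 2<|c 2 2)<|d (c 1<|c 2 1)<|d (c 15<|c 1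
 5)<|d (c 14<|c 0 3)<|d (c 13<|c 0 3)<|d (c 12<|c 0 3)<|h);
 (d (c 6<|c 2 2)<|
 d (c 5<|c 2 2)<|d (c 7<|c 0 3)<|d (c 6<|c 2 2)<|d (c 5<|c 2 2)<|d (c 4<|c 2 2)<|d (c 4<|c 2 2)<|h));
 (let h:=(d (c 2<|c 2 1)<|d (c 11<|c 0 3)<|d (c 10<|c 0 3)<|d (c 9<|c 0 3)<|d (c 8<|c 2 2)<|d (c 8<|c 0 3)<|d (c 7<|c 2 2)<|h);
 (d (c 8<|c 0 3)<|d (c 7<|c 2 2)<|d (c 6<|c 2 2)<|d (c 5<|c 2 2)<|d (c 5<|c 2 2)<|d (c 4<|
 c 2 2)<|d (c 3<|c 2 2)<|h))));
 (let h:=(let h:=(let h:=(d (c 5<|c 2 1)<|d (c 5<|c 2 2)<|d (c 4<|c 2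
 1)<|d (c 6<|c 2 2)<|d (c 5<|c 2 2)<|d (c 4<|c 2 2)<|d (c 3<|c 2 1)<|h);
 (d (c 8<|c 0 3)<|d (c 7<|c 0 3)<|d (c 7<|c 2 2)<|d (c 6<|c 2 2)<|d (c 7<|c 0 3)<|d (c 6<|c 0 3)<|d (c 6<|c 2 1)<|h));
 (let h:=(d (c 8<|c 0 3)<|d (c 8<|c 2 2)<|d (c 7<|c 2 2)<|d (c 7<|c 2 2)<|d (c 6<|c 2 2)<|d (c 9<|c 0 3)<|d (c 8<|c 0 3)<|
 h);
 (d (c 11<|c 1 4)<|d (c 10<|c 0 3)<|d (c 10<|c 1 4)<|d (c 9<|c 1 4)<|d (c 9<|
 c 2 2)<|d (c 8<|c 2 2)<|d (c 9<|c 0 3)<|h)));
 (let h:=(let h:=(d (c 8<|c 2 2)<|d (c 12<|c 1 4)<|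
 d (c 11<|c 0 3)<|d (c 7<|c 2 2)<|d (c 6<|c 2 2)<|d (c 10<|c 0 3)<|d (c 9<|c 0 3)<|h);
 (d (c 10<|c 0 3)<|d (c 9<|c 0 3)<|d (c 9<|c 2 2)<|d (c 8<|c 2 2)<|d (c 8<|c 2 2)<|d (c 7<|c 2 2)<|d (c 9<|c 0 3)<|h));
 (let h:=(d (c 9<|c 2 2)<|d (c 12<|c 1 4)<|d (c 11<|c 0 3)<|d (c 11<|c 1 4)<|d (c 10<|c 1 4)<|d (c 10<|c 2 2)<|d (c 9<|c 2
 2)<|h);
 (d (c 12<|c 0 3)<|d (c 11<|c 0 3)<|d (c 12<|c 1 4)<|d (c 11<|c 1 4)<|d (c 11<|c 2
 2)<|d (c 10<|c 2 2)<|d (c 10<|c 0 3)<|h)))));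
 (let h:=(let h:=(let h:=(let h:=(d (c 14<|c 1 4)<|d (c 13<|c 1 4)<|d (c 12<|c 0
 3)<|d (c 14<|c 1 4)<|d (c 13<|c 1 4)<|d (c 13<|c 1 4)<|d (c 12<|c 1 4)<|h);
 (d (c 13<|c 1
 4)<|d (c 12<|c 0 3)<|d (c 7<|c 2 2)<|d (c 6<|c 2 2)<|d (c 11<|c 0 3)<|d (c 10<|c 0 3)<|d (c 15<|c 1 4)<|h));
 (let h:=(d (c 15<|c 1 4)<|d (c 10<|c 0 3)<|d (c 9<|c 2 2)<|d (c 14<|c 1 4)<|d (c 13<|c 0 3)<|d (c 9<|c 0 3)<|d (c 8<|c 2 2)<|h);
 (d (c 10<|c 0 3)<|d (c 9<|c 2 2)<|d (c 8<|c 2 2)<|d (c 7<|c 2 2)<|d (c 12<|c 0 3)<|d (c 11<|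
 c 0 3)<|d (c 16<|c 1 4)<|h)));
 (let h:=(let h:=(d (c 10<|c 2 2)<|d (c 11<|c 0 3)<|d (c 10<|c 0 3)<|
 d (c 10<|c 2 2)<|d (c 9<|c 2 2)<|d (c 9<|c 2 2)<|d (c 8<|c 2 2)<|h);
 (d (c 11<|c 0 3)<|
 d (c 10<|c 2 2)<|d (c 13<|c 1 4)<|d (c 12<|c 0 3)<|d (c 12<|c 1 4)<|d (c 11<|c 1 4)<|d (c 11<|c 2 2)<|h));
 (let h:=(d (c 13<|c 1 4)<|d (c 13<|c 0 3)<|d (c 12<|c 0 3)<|d (c 13<|c 1 4)<|d (c 12<|c 1 4)<|d (c 12<|c 2 2)<|d (c 11<|c 2 2)<|h);
 (d (c 11<|c 0 3)<|d (c 10<|c 2 2)<|d (c 14<|c 1 4)<|d (c 13<|c 0 3)<|d (c 15<|c 1 4)<|d (c 14<|c 1 4)<|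
 d (c 14<|c 1 4)<|h))));
 (let h:=(let h:=(let h:=(d (c 12<|c 2 2)<|d (c 12<|c 0 3)<|d (c 11<|c 2 2)<|d (c 13<|c 0 3)<|
 d (c 12<|c 0 3)<|d (c 16<|c 1 4)<|d (c 15<|c 1 4)<|h);
 (d (c 15<|c 1 4)<|d (c 14<|c 1 4)<|
 d (c 14<|c 0 3)<|d (c 13<|c 0 3)<|d (c 14<|c 1 4)<|d (c 13<|c 1 4)<|d (c 13<|c 2 2)<|h));
 (let h:=(d (c 15<|c 1 4)<|d (c 15<|c 0 3)<|d (c 14<|c 0 3)<|d (c 14<|c 0 3)<|d (c 13<|c 0 3)<|d (c 16<|c 1 4)<|d (c 15<|c 1 4)<|h);
 (d (c 18<|c 1 6)<|d (c 17<|c 1 4)<|d (c 17<|c 1 6)<|d (c 16<|c 1 6)<|d (c 16<|c 0 3)<|d (c 15<|c 0 3)<|d (c 16<|c 1 4)<|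
 h)));
 (let h:=(let h:=(d (c 16<|c 1 4)<|d (c 15<|c 1 4)<|d (c 14<|c 0 3)<|d (c 19<|c 1 6)<|d (c 18<|c 1 4)<|
 d (c 17<|c 1 4)<|d (c 16<|c 1 4)<|h);
 (d (c 12<|c 0 3)<|d (c 11<|c 0 3)<|d (c 20<|c 1 6)<|
 d (c 19<|c 1 4)<|d (c 18<|c 1 4)<|d (c 17<|c 1 4)<|d (c 17<|c 1 4)<|h));
 (let h:=(d (c 14<|c 0 3)<|
 d (c 9<|c 0 3)<|d (c 8<|c 2 2)<|d (c 14<|c 1 4)<|d (c 13<|c 0 3)<|d (c 7<|c 2 2)<|d (c 6<|c 2 2)<|h);
 (d (c 12<|c 0 3)<|d (c 11<|c 0 3)<|d (c 17<|c 1 4)<|d (c 16<|c 1 4)<|d (c 10<|c 0 3)<|d (c 9<|c 2 2)<|d (c 15<|c 1 4)<|h))))));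
 (let h:=(let h:=(let h:=(let h:=(let h:=(d (c 12<|c 0 3)<|d (c 18<|c 1 4)<|d (c 17<|c 1 4)<|d (c 11<|c 0 3)<|d (c 10<|c 2 2)<|d (c 16<|c 1 4)<|
 d (c 15<|c 0 3)<|h);
 (d (c 21<|c 1 6)<|d (c 20<|c 1 4)<|d (c 14<|c 0 3)<|d (c 13<|c 0 3)<|
 d (c 19<|c 1 4)<|d (c 18<|c 1 4)<|d (c 13<|c 0 3)<|h));
 (let h:=(d (c 10<|c 2 2)<|d (c 10<|c 0 3)<|
 d (c 9<|c 2 2)<|d (c 8<|c 2 2)<|d (c 7<|c 2 2)<|d (c 16<|c 1 5)<|d (c 15<|c 0 3)<|h);
 (d (c 11<|c 0 3)<|d (c 10<|c 2 2)<|d (c 9<|c 2 2)<|d (c 8<|c 2 2)<|d (c 13<|c 0 3)<|d (c 12<|c 0 3)<|d (c 11<|c 0 3)<|h)));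
 (let h:=(let h:=(d (c 11<|c 2 2)<|d (c 12<|c 0 3)<|d (c 11<|c 0 3)<|d (c 11<|c 2 2)<|d (c 10<|c 2 2)<|d (c 10<|c 2 2)<|d (c 9<|c 2 2)<|
 h);
 (d (c 12<|c 0 3)<|d (c 11<|c 2 2)<|d (c 14<|c 1 4)<|d (c 13<|c 0 3)<|d (c 13<|c 1 4)<|
 d (c 12<|c 1 4)<|d (c 12<|c 2 2)<|h));
 (let h:=(d (c 14<|c 1 4)<|d (c 14<|c 0 3)<|d (c 13<|c 0 3)<|
 d (c 14<|c 1 4)<|d (c 13<|c 1 4)<|d (c 13<|c 2 2)<|d (c 12<|c 2 2)<|h);
 (d (c 12<|c 0 3)<|
 d (c 11<|c 2 2)<|d (c 15<|c 1 4)<|d (c 14<|c 0 3)<|d (c 16<|c 1 4)<|d (c 15<|c 1 4)<|d (c 15<|c 1 4)<|h))));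
 (let h:=(let h:=(let h:=(d (c 13<|c 2 2)<|d (c 13<|c 0 3)<|d (c 12<|c 2 2)<|d (c 14<|c 0 3)<|d (c 13<|c 0 3)<|d (c 17<|c 1 4)<|d (c 16<|c 1 4)<|h);
 (d (c 16<|c 1 4)<|d (c 15<|c 1 4)<|d (c 15<|c 0 3)<|d (c 14<|c 0 3)<|d (c 15<|c 1 4)<|d (c 14<|c 1 4)<|
 d (c 14<|c 2 2)<|h));
 (let h:=(d (c 16<|c 1 4)<|d (c 16<|c 0 3)<|d (c 15<|c 0 3)<|d (c 15<|c 0 3)<|
 d (c 14<|c 0 3)<|d (c 17<|c 1 4)<|d (c 16<|c 1 4)<|h);
 (d (c 19<|c 1 6)<|d (c 18<|c 1 4)<|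
 d (c 18<|c 1 6)<|d (c 17<|c 1 6)<|d (c 17<|c 0 3)<|d (c 16<|c 0 3)<|d (c 17<|c 1 4)<|h)));
 (let h:=(let h:=(d (c 11<|c 2 2)<|d (c 16<|c 1 4)<|d (c 15<|c 0 3)<|d (c 20<|c 1 6)<|d (c 19<|c 1 4)<|d (c 18<|c 1 4)<|d (c 17<|c 1 4)<|h);
 (d (c 19<|c 1 4)<|d (c 18<|c 1 4)<|d (c 14<|c 0 3)<|d (c 13<|c 0 3)<|d (c 18<|c 1 4)<|d (c 17<|c 1 4)<|d (c 12<|c 0 3)<|
 h));
 (let h:=(d (c 12<|c 2 2)<|d (c 17<|c 1 5)<|d (c 16<|c 0 3)<|d (c 21<|c 1 6)<|d (c 20<|c 1 4)<|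
 d (c 15<|c 0 3)<|d (c 14<|c 0 3)<|h);
 (d (c 15<|c 2 2)<|d (c 14<|c 2 2)<|d (c 14<|c 0 3)<|
 d (c 13<|c 2 2)<|d (c 15<|c 0 3)<|d (c 14<|c 0 3)<|d (c 13<|c 0 3)<|h)))));
 (let h:=(let h:=(let h:=(let h:=(d (c 17<|c 1 4)<|
 d (c 17<|c 1 4)<|d (c 16<|c 1 4)<|d (c 16<|c 0 3)<|d (c 15<|c 0 3)<|d (c 16<|c 1 4)<|d (c 15<|c 1 4)<|h);
 (d (c 18<|c 1 4)<|d (c 17<|c 1 4)<|d (c 17<|c 0 3)<|d (c 16<|c 0 3)<|d (c 16<|c 0 3)<|d (c 15<|c 0 3)<|d (c 18<|c 1 4)<|h));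
 (let h:=(d (c 18<|c 1 4)<|d (c 20<|c 1 6)<|d (c 19<|c 1 4)<|d (c 19<|c 1 6)<|d (c 18<|c 1 6)<|d (c 18<|c 0 3)<|
 d (c 17<|c 0 3)<|h);
 (d (c 18<|c 1 5)<|d (c 17<|c 0 3)<|d (c 21<|c 1 6)<|d (c 20<|c 1 4)<|
 d (c 16<|c 0 3)<|d (c 15<|c 0 3)<|d (c 19<|c 1 4)<|h)));
 (let h:=(let h:=(d (c 18<|c 0 3)<|d (c 19<|c 1 4)<|
 d (c 18<|c 1 4)<|d (c 18<|c 0 3)<|d (c 17<|c 0 3)<|d (c 17<|c 0 3)<|d (c 16<|c 0 3)<|h);
 (d (c 19<|c 1 5)<|d (c 18<|c 0 3)<|d (c 21<|c 1 6)<|d (c 20<|c 1 4)<|d (c 20<|c 1 6)<|d (c 19<|c 1 6)<|d (c 19<|c 0 3)<|h));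
 (let h:=(d (c 21<|c 1 6)<|d (c 21<|c 1 5)<|d (c 20<|c 1 5)<|d (c 21<|c 1 6)<|d (c 20<|c 1 6)<|d (c 20<|c 0 3)<|d (c 19<|c 0 3)<|
 h);
 (d (c 24<|c 1 6)<|d (c 23<|c 1 6)<|d (c 22<|c 1 6)<|d (c 21<|c 1 4)<|d (c 23<|c 1 6)<|
 d (c 22<|c 1 6)<|d (c 22<|c 1 6)<|h))));
 (let h:=(let h:=(let h:=(d (c 24<|c 1 6)<|d (c 23<|c 1 6)<|d (c 22<|c 1 4)<|
 d (c 22<|c 1 6)<|d (c 21<|c 1 4)<|d (c 20<|c 1 4)<|d (c 19<|c 1 4)<|h);
 (d (c 20<|c 1 4)<|
 d (c 19<|c 1 4)<|d (c 19<|c 1 4)<|d (c 18<|c 1 4)<|d (c 17<|c 1 4)<|d (c 16<|c 0 3)<|d (c 25<|c 1 6)<|h));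
 (let h:=(d (c 23<|c 1 4)<|d (c 23<|c 1 6)<|d (c 22<|c 1 4)<|d (c 21<|c 1 4)<|d (c 20<|c 1 4)<|d (c 22<|c 1 6)<|d (c 21<|c 1 4)<|h);
 (d (c 15<|c 1 4)<|d (c 14<|c 0 3)<|d (c 13<|c 0 3)<|d (c 12<|c 0 3)<|d (c 26<|c 1 6)<|d (c 25<|c 1 6)<|
 d (c 24<|c 1 6)<|h)));
 (let h:=(let h:=(d (c 18<|c 1 4)<|d (c 17<|c 1 4)<|d (c 16<|c 0 3)<|d (c 18<|c 1 4)<|
 d (c 17<|c 1 4)<|d (c 16<|c 1 4)<|d (c 15<|c 0 3)<|h);
 (d (c 18<|c 1 4)<|d (c 17<|c 0 3)<|
 d (c 22<|c 1 6)<|d (c 21<|c 1 4)<|d (c 20<|c 1 4)<|d (c 19<|c 1 4)<|d (c 19<|c 1 4)<|h));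
 (let h:=(d (c 21<|c 1 4)<|d (c 23<|c 1 6)<|d (c 22<|c 1 4)<|d (c 21<|c 1 4)<|d (c 20<|c 1 4)<|d (c 20<|c 1 4)<|d (c 19<|c 1 4)<|h);
 (f (c 27<|c 1 6)<|f (c 26<|c 1 6)<|f (c 25<|c 1 6)<|f (c 24<|c 1 4)<|f (c 24<|c 1 6)<|f (c 23<|c 1 4)<|f (c 22<|c 1 4)<|
 h)))))))<|k (let h:=(let h:=(let h:=(let h:=(let h:=(let h:=(let h:=(d (c 3<|c 2 3)<|d (c 3<|c 2 2)<|d (c 2<|c 2 2)<|d (c 1<|c 2 2)<|d (c 0<|c 2 2)<|m);
 (d (c 2<|c 2 2)<|d (c 6<|c 2 3)<|d (c 5<|c 2 3)<|d (c 4<|c 2 3)<|h));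
 (let h:=(d (c 6<|c 2 3)<|d (c 5<|c 2 3)<|d (c 4<|c 2 3)<|d (c 4<|c 2 2)<|d (c 3<|c 2 2)<|
 h);
 (d (c 6<|c 2 3)<|d (c 5<|c 2 3)<|d (c 5<|c 2 2)<|d (c 4<|c 2 2)<|h)));
 (let h:=(let h:=(d (c 7<|c 2 3)<|d (c 7<|c 0 4)<|d (c 7<|c 2 3)<|d (c 6<|c 2 3)<|d (c 6<|
 c 2 2)<|h);
 (d (c 7<|c 2 3)<|d (c 9<|c 0 4)<|d (c 8<|c 0 4)<|d (c 8<|c 2 3)<|h));
 (let h:=(d (c 10<|c 0 4)<|d (c 9<|c 0 4)<|d (c 9<|c 2
 3)<|d (c 8<|c 2 3)<|h);
 (d (c 9<|c 2 3)<|d (c 8<|c 2 3)<|d (c 7<|c 2 3)<|d (c 11<|c 0 4)<|h))));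
 (let h:=(let h:=(let h:=(d (c 13<|c 0 4)<|d (c 12<|c 0 4)<|d (c 11<|
 c 0 4)<|d (c 10<|c 0 4)<|d (c 10<|c 2 3)<|h);
 (d (c 5<|c 2 3)<|d (c 5<|c 2 2)<|d (c 4<|c 2 2)<|d (c 3<|c 2 2)<|h));
 (let h:=(d (c 6<|c 2 3)<|d (c 6<|c 2 2)<|
 d (c 5<|c 2 2)<|d (c 7<|c 2 3)<|d (c 6<|c 2 3)<|h);
 (d (c 8<|c 2 3)<|d (c 7<|c 2 3)<|d (c 7<|c 2 2)<|d (c 7<|c 2 3)<|h)));
 (let h:=(let h:=(d (c 10<|c 0 4)<|d (c 9<|
 c 0 4)<|d (c 9<|c 2 3)<|d (c 8<|c 2 3)<|d (c 8<|c 0 4)<|h);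
 (d (c 10<|c 0 4)<|d (c 10<|c 2 3)<|d (c 9<|c 2 3)<|d (c 8<|c 2 3)<|h));
 (let h:=(d (c 7<|c 2 2)<|d (c 6<|c 2 2)<|d (c 12<|c 0 4)<|d (c 11<|c 0 4)<|h);
 (d (c 8<|c 2 3)<|d (c 8<|c 2 2)<|d (c 8<|c 2 3)<|d (c 7<|c 2 3)<|
 h)))));
 (let h:=(let h:=(let h:=(let h:=(d (c 10<|c 0 4)<|d (c 10<|c 2 3)<|d (c 9<|c 2 3)<|d (c 9<|c 0 4)<|d (c 9<|c 2 3)<|h);
 (d (c 10<|c 2 3)<|d (c 9<|c 2 3)<|d (c 9<|c 2 2)<|d (c 11<|
 c 0 4)<|h));
 (let h:=(d (c 12<|c 1 6)<|d (c 12<|c 0 4)<|d (c 11<|c 0 4)<|d (c 11<|c 2 3)<|d (c 10<|c 0 4)<|h);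
 (d (c 12<|c 0 4)<|d (c 11<|c 0 4)<|d (c 11<|c 2 3)<|d (c 10<|
 c 2 3)<|h)));
 (let h:=(let h:=(d (c 13<|c 0 4)<|d (c 13<|c 1 6)<|d (c 13<|c 0 4)<|d (c 12<|c 0 4)<|d (c 12<|c 2 3)<|h);
 (d (c 9<|c 2 3)<|d (c 15<|c 1 6)<|d (c 14<|c 1 6)<|d (c 14<|
 c 0 4)<|h));
 (let h:=(d (c 12<|c 0 4)<|d (c 11<|c 0 4)<|d (c 11<|c 2 3)<|d (c 10<|c 2 3)<|h);
 (d (c 12<|c 0 4)<|d (c 12<|c 2 3)<|d (c 11<|
 c 2 3)<|d (c 13<|c 0 4)<|h))));
 (let h:=(let h:=(let h:=(d (c 14<|c 1 6)<|d (c 14<|c 0 4)<|d (c 13<|c 0 4)<|d (c 13<|c 2 3)<|d (c 13<|c 0 4)<|h);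
 (d (c 16<|c 1 6)<|d (c 15<|c 1 6)<|d (c 15<|
 c 0 4)<|d (c 14<|c 0 4)<|h));
 (let h:=(d (c 17<|c 1 6)<|d (c 16<|c 1 6)<|d (c 16<|c 0 4)<|d (c 15<|c 0 4)<|d (c 14<|c 0 4)<|h);
 (d (c 10<|c 2 3)<|d (c 9<|c 2 3)<|d (c 8<|
 c 2 3)<|d (c 18<|c 1 6)<|h)));
 (let h:=(let h:=(d (c 14<|c 0 4)<|d (c 13<|c 0 4)<|d (c 12<|c 0 4)<|d (c 11<|c 0 4)<|d (c 11<|c 2 3)<|h);
 (d (c 12<|c 0 4)<|d (c 12<|c 2 3)<|d (c 11<|
 c 2 3)<|d (c 10<|c 2 3)<|h));
 (let h:=(d (c 13<|c 2 3)<|d (c 12<|c 2 3)<|d (c 14<|c 0 4)<|d (c 13<|c 0 4)<|h);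
 (d (c 14<|c 0 4)<|d (c 14<|
 c 2 3)<|d (c 14<|c 0 4)<|d (c 13<|c 0 4)<|h))))));
 (let h:=(let h:=(let h:=(let h:=(let h:=(d (c 16<|c 1 6)<|d (c 16<|c 0 4)<|d (c 15<|c 0 4)<|d (c 15<|c 1 6)<|d (c 15<|c 0 4)<|h);
 (d (c 17<|c 0 4)<|d (c 16<|
 c 0 4)<|d (c 15<|c 0 4)<|d (c 17<|c 1 6)<|h));
 (let h:=(d (c 16<|c 0 4)<|d (c 15<|c 0 4)<|d (c 19<|c 1 6)<|d (c 18<|c 1 6)<|d (c 17<|c 1 6)<|h);
 (d (c 19<|c 1 6)<|d (c 18<|
 c 1 6)<|d (c 18<|c 0 4)<|d (c 17<|c 0 4)<|h)));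
 (let h:=(let h:=(d (c 6<|c 2 2)<|d (c 5<|c 2 2)<|d (c 4<|c 2 2)<|d (c 21<|c 1 6)<|d (c 20<|c 1 6)<|h);
 (d (c 6<|c 2 2)<|
 d (c 8<|c 2 3)<|d (c 7<|c 2 3)<|d (c 6<|c 2 3)<|h));
 (let h:=(d (c 8<|c 2 2)<|d (c 8<|c 2 3)<|d (c 7<|c 2 3)<|d (c 7<|c 2 2)<|h);
 (d (c 9<|c 2 3)<|d (c 9<|c 0 4)<|d (c 9<|c 2 3)<|d (c 8<|c 2 3)<|h))));
 (let h:=(let h:=(let h:=(d (c 10<|c 2 3)<|d (c 9<|c 2 3)<|d (c 11<|c 0 4)<|d (c 10<|c 0 4)<|d (c 10<|
 c 2 3)<|h);
 (d (c 13<|c 0 4)<|d (c 12<|c 0 4)<|d (c 11<|c 0 4)<|d (c 11<|c 2 3)<|h));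
 (let h:=(d (c 9<|c 2 2)<|d (c 9<|c 2 3)<|d (c 8<|c 2 3)<|d (c 8<|c 2 2)<|d (c 7<|
 c 2 2)<|h);
 (d (c 10<|c 2 3)<|d (c 10<|c 0 4)<|d (c 10<|c 2 3)<|d (c 9<|c 2 3)<|h)));
 (let h:=(let h:=(d (c 10<|c 2 3)<|d (c 10<|c 2 2)<|d (c 12<|c 0 4)<|d (c 11<|c 0 4)<|
 d (c 11<|c 2 3)<|h);
 (d (c 12<|c 0 4)<|d (c 12<|c 2 3)<|d (c 11<|c 0 4)<|d (c 11<|c 2 3)<|h));
 (let h:=(d (c 12<|c 2 3)<|d (c 11<|c 2 3)<|d (c 13<|c 1 6)<|
 d (c 13<|c 0 4)<|h);
 (d (c 13<|c 0 4)<|d (c 13<|c 2 3)<|d (c 13<|c 0 4)<|d (c 12<|c 0 4)<|h)))));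
 (let h:=(let h:=(let h:=(let h:=(d (c 15<|c 1 6)<|d (c 15<|c 0 4)<|d (c 14<|c 0 4)<|
 d (c 14<|c 1 6)<|d (c 14<|c 0 4)<|h);
 (d (c 12<|c 2 3)<|d (c 11<|c 2 3)<|d (c 10<|c 2 3)<|d (c 16<|c 1 6)<|h));
 (let h:=(d (c 13<|c 2 3)<|d (c 12<|c 2 3)<|d (c 14<|c 0 4)<|
 d (c 13<|c 0 4)<|d (c 12<|c 0 4)<|h);
 (d (c 14<|c 0 4)<|d (c 14<|c 2 3)<|d (c 14<|c 0 4)<|d (c 13<|c 0 4)<|h)));
 (let h:=(let h:=(d (c 16<|c 1 6)<|d (c 16<|c 0 4)<|d (c 15<|c 0 4)<|
 d (c 15<|c 1 6)<|d (c 15<|c 0 4)<|h);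
 (d (c 17<|c 0 4)<|d (c 16<|c 0 4)<|d (c 15<|c 0 4)<|d (c 17<|c 1 6)<|h));
 (let h:=(d (c 8<|c 2 2)<|d (c 19<|c 1 6)<|
 d (c 18<|c 1 6)<|d (c 17<|c 1 6)<|h);
 (d (c 10<|c 2 2)<|d (c 10<|c 2 3)<|d (c 9<|c 2 3)<|d (c 9<|c 2 2)<|h))));
 (let h:=(let h:=(let h:=(d (c 12<|c 2 3)<|d (c 11<|c 2 3)<|
 d (c 11<|c 0 4)<|d (c 11<|c 2 3)<|d (c 10<|c 2 3)<|h);
 (d (c 11<|c 2 3)<|d (c 11<|c 2 2)<|d (c 13<|c 0 4)<|d (c 12<|c 0 4)<|h));
 (let h:=(d (c 14<|c 0 4)<|d (c 13<|c 0 4)<|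
 d (c 13<|c 2 3)<|d (c 12<|c 0 4)<|d (c 12<|c 2 3)<|h);
 (d (c 13<|c 0 4)<|d (c 13<|c 2 3)<|d (c 12<|c 2 3)<|d (c 14<|c 1 6)<|h)));
 (let h:=(let h:=(d (c 15<|c 1 6)<|d (c 15<|c 0 4)<|
 d (c 14<|c 0 4)<|d (c 14<|c 2 3)<|d (c 14<|c 0 4)<|h);
 (d (c 17<|c 1 6)<|d (c 16<|c 1 6)<|d (c 16<|c 0 4)<|d (c 15<|c 0 4)<|h));
 (let h:=(d (c 13<|c 0 4)<|
 d (c 13<|c 2 3)<|d (c 12<|c 2 3)<|d (c 12<|c 2 2)<|h);
 (d (c 15<|c 1 6)<|d (c 15<|c 0 4)<|d (c 14<|c 0 4)<|d (c 14<|c 2 3)<|h)))))));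
 (let h:=(let h:=(let h:=(let h:=(let h:=(let h:=(d (c 17<|c 0 4)<|
 d (c 16<|c 1 6)<|d (c 16<|c 0 4)<|d (c 15<|c 0 4)<|d (c 15<|c 2 3)<|h);
 (d (c 13<|c 2 3)<|d (c 18<|c 1 7)<|d (c 18<|c 1 6)<|d (c 17<|c 1 6)<|h));
 (let h:=(d (c 15<|c 0 4)<|
 d (c 15<|c 2 3)<|d (c 15<|c 0 4)<|d (c 14<|c 0 4)<|d (c 14<|c 2 3)<|h);
 (d (c 17<|c 0 4)<|d (c 16<|c 0 4)<|d (c 16<|c 1 6)<|d (c 16<|c 0 4)<|h)));
 (let h:=(let h:=(d (c 17<|c 0 4)<|
 d (c 16<|c 0 4)<|d (c 16<|c 2 3)<|d (c 18<|c 1 6)<|d (c 17<|c 1 6)<|h);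
 (d (c 19<|c 1 6)<|d (c 18<|c 1 6)<|d (c 18<|c 0 4)<|d (c 17<|c 1 6)<|h));
 (let h:=(d (c 18<|c 1 6)<|d (c 18<|c 0 4)<|d (c 17<|c 0 4)<|d (c 19<|c 1 7)<|h);
 (d (c 20<|c 1 6)<|d (c 19<|c 1 6)<|d (c 19<|c 0 4)<|d (c 19<|c 1 6)<|
 h))));
 (let h:=(let h:=(let h:=(d (c 22<|c 1 7)<|d (c 21<|c 1 7)<|d (c 21<|c 1 6)<|d (c 20<|c 1 6)<|d (c 20<|c 1 7)<|h);
 (d (c 13<|c 0 4)<|d (c 13<|c 2 3)<|d (c 12<|c 2 3)<|d (c 11<|c 2 3)<|
 h));
 (let h:=(d (c 14<|c 0 4)<|d (c 14<|c 2 3)<|d (c 13<|c 2 3)<|d (c 15<|c 0 4)<|d (c 14<|c 0 4)<|h);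
 (d (c 16<|c 0 4)<|d (c 15<|c 0 4)<|d (c 15<|c 2 3)<|d (c 15<|c 0 4)<|
 h)));
 (let h:=(let h:=(d (c 18<|c 1 6)<|d (c 17<|c 1 6)<|d (c 17<|c 0 4)<|d (c 16<|c 0 4)<|d (c 16<|c 1 6)<|h);
 (d (c 18<|c 1 6)<|d (c 18<|c 0 4)<|d (c 17<|c 0 4)<|d (c 16<|c 0 4)<|
 h));
 (let h:=(d (c 15<|c 2 3)<|d (c 14<|c 2 3)<|d (c 20<|c 1 6)<|d (c 19<|c 1 6)<|h);
 (d (c 16<|c 0 4)<|d (c 16<|c 2 3)<|d (c 16<|c 0 4)<|
 d (c 15<|c 0 4)<|h)))));
 (let h:=(let h:=(let h:=(let h:=(d (c 18<|c 1 6)<|d (c 18<|c 0 4)<|d (c 17<|c 0 4)<|d (c 17<|c 1 6)<|d (c 17<|c 0 4)<|h);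
 (d (c 18<|c 0 4)<|d (c 17<|c 0 4)<|d (c 17<|c 2 3)<|
 d (c 19<|c 1 6)<|h));
 (let h:=(d (c 20<|c 1 7)<|d (c 20<|c 1 6)<|d (c 19<|c 1 6)<|d (c 19<|c 0 4)<|d (c 18<|c 1 6)<|h);
 (d (c 20<|c 1 6)<|d (c 19<|c 1 6)<|d (c 19<|c 0 4)<|
 d (c 18<|c 0 4)<|h)));
 (let h:=(let h:=(d (c 21<|c 1 6)<|d (c 21<|c 1 7)<|d (c 21<|c 1 6)<|d (c 20<|c 1 6)<|d (c 20<|c 0 4)<|h);
 (d (c 17<|c 0 4)<|d (c 23<|c 1 7)<|d (c 22<|c 1 7)<|
 d (c 22<|c 1 6)<|h));
 (let h:=(d (c 20<|c 1 6)<|d (c 19<|c 1 6)<|d (c 19<|c 0 4)<|d (c 18<|c 0 4)<|h);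
 (d (c 20<|c 1 6)<|d (c 20<|c 0 4)<|
 d (c 19<|c 0 4)<|d (c 21<|c 1 6)<|h))));
 (let h:=(let h:=(let h:=(d (c 22<|c 1 7)<|d (c 22<|c 1 6)<|d (c 21<|c 1 6)<|d (c 21<|c 0 4)<|d (c 21<|c 1 6)<|h);
 (d (c 24<|c 1 7)<|d (c 23<|c 1 7)<|
 d (c 23<|c 1 6)<|d (c 22<|c 1 6)<|h));
 (let h:=(d (c 25<|c 1 7)<|d (c 24<|c 1 7)<|d (c 24<|c 1 6)<|d (c 23<|c 1 6)<|d (c 22<|c 1 6)<|h);
 (d (c 11<|c 2 3)<|d (c 10<|c 2 3)<|
 d (c 9<|c 2 3)<|d (c 26<|c 1 7)<|h)));
 (let h:=(let h:=(d (c 15<|c 0 4)<|d (c 14<|c 0 4)<|d (c 13<|c 0 4)<|d (c 12<|c 0 4)<|d (c 12<|c 2 3)<|h);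
 (d (c 13<|c 0 4)<|d (c 13<|c 2 3)<|
 d (c 12<|c 2 3)<|d (c 11<|c 2 3)<|h));
 (let h:=(d (c 14<|c 2 3)<|d (c 13<|c 2 3)<|d (c 15<|c 0 4)<|d (c 14<|c 0 4)<|h);
 (d (c 15<|c 0 4)<|
 d (c 15<|c 2 3)<|d (c 15<|c 0 4)<|d (c 14<|c 0 4)<|h))))));
 (let h:=(let h:=(let h:=(let h:=(let h:=(d (c 17<|c 1 6)<|d (c 17<|c 0 4)<|d (c 16<|c 0 4)<|d (c 16<|c 1 6)<|d (c 16<|c 0 4)<|h);
 (d (c 18<|c 0 4)<|
 d (c 17<|c 0 4)<|d (c 16<|c 0 4)<|d (c 18<|c 1 6)<|h));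
 (let h:=(d (c 17<|c 0 4)<|d (c 16<|c 0 4)<|d (c 20<|c 1 6)<|d (c 19<|c 1 6)<|d (c 18<|c 1 6)<|h);
 (d (c 20<|c 1 6)<|
 d (c 19<|c 1 6)<|d (c 19<|c 0 4)<|d (c 18<|c 0 4)<|h)));
 (let h:=(let h:=(d (c 14<|c 2 3)<|d (c 13<|c 2 3)<|d (c 12<|c 2 3)<|d (c 22<|c 1 6)<|d (c 21<|c 1 6)<|h);
 (d (c 14<|c 2 3)<|
 d (c 16<|c 0 4)<|d (c 15<|c 0 4)<|d (c 14<|c 0 4)<|h));
 (let h:=(d (c 16<|c 2 3)<|d (c 16<|c 0 4)<|d (c 15<|c 0 4)<|d (c 15<|c 2 3)<|h);
 (d (c 17<|c 0 4)<|d (c 17<|c 1 6)<|d (c 17<|c 0 4)<|d (c 16<|c 0 4)<|h))));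
 (let h:=(let h:=(let h:=(d (c 18<|c 0 4)<|d (c 17<|c 0 4)<|d (c 19<|c 1 6)<|d (c 18<|c 1 6)<|d (c 18<|c 0 4)<|
 h);
 (d (c 21<|c 1 6)<|d (c 20<|c 1 6)<|d (c 19<|c 1 6)<|d (c 19<|c 0 4)<|h));
 (let h:=(d (c 17<|c 2 3)<|d (c 17<|c 0 4)<|d (c 16<|c 0 4)<|d (c 16<|c 2 3)<|d (c 15<|c 2 3)<|
 h);
 (d (c 18<|c 0 4)<|d (c 18<|c 1 6)<|d (c 18<|c 0 4)<|d (c 17<|c 0 4)<|h)));
 (let h:=(let h:=(d (c 18<|c 0 4)<|d (c 18<|c 2 3)<|d (c 20<|c 1 6)<|d (c 19<|c 1 6)<|d (c 19<|c 0 4)<|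
 h);
 (d (c 20<|c 1 6)<|d (c 20<|c 0 4)<|d (c 19<|c 1 6)<|d (c 19<|c 0 4)<|h));
 (let h:=(d (c 20<|c 0 4)<|d (c 19<|c 0 4)<|d (c 21<|c 1 7)<|d (c 21<|c 1 6)<|
 h);
 (d (c 21<|c 1 6)<|d (c 21<|c 0 4)<|d (c 21<|c 1 6)<|d (c 20<|c 1 6)<|h)))));
 (let h:=(let h:=(let h:=(let h:=(d (c 23<|c 1 7)<|d (c 23<|c 1 6)<|d (c 22<|c 1 6)<|d (c 22<|c 1 7)<|
 d (c 22<|c 1 6)<|h);
 (d (c 20<|c 0 4)<|d (c 19<|c 0 4)<|d (c 18<|c 0 4)<|d (c 24<|c 1 7)<|h));
 (let h:=(d (c 21<|c 0 4)<|d (c 20<|c 0 4)<|d (c 22<|c 1 6)<|d (c 21<|c 1 6)<|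
 d (c 20<|c 1 6)<|h);
 (d (c 22<|c 1 6)<|d (c 22<|c 0 4)<|d (c 22<|c 1 6)<|d (c 21<|c 1 6)<|h)));
 (let h:=(let h:=(d (c 24<|c 1 7)<|d (c 24<|c 1 6)<|d (c 23<|c 1 6)<|d (c 23<|c 1 7)<|
 d (c 23<|c 1 6)<|h);
 (d (c 25<|c 1 6)<|d (c 24<|c 1 6)<|d (c 23<|c 1 6)<|d (c 25<|c 1 7)<|h));
 (let h:=(d (c 17<|c 0 4)<|d (c 27<|c 1 7)<|d (c 26<|c 1 7)<|
 d (c 25<|c 1 7)<|h);
 (d (c 20<|c 1 6)<|d (c 20<|c 0 4)<|d (c 19<|c 0 4)<|d (c 18<|c 0 4)<|h))));
 (let h:=(let h:=(let h:=(d (c 20<|c 0 4)<|d (c 19<|c 0 4)<|d (c 23<|c 1 6)<|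
 d (c 22<|c 1 6)<|d (c 21<|c 1 6)<|h);
 (d (c 23<|c 1 6)<|d (c 22<|c 1 6)<|d (c 21<|c 1 6)<|d (c 21<|c 0 4)<|h));
 (let h:=(d (c 23<|c 0 4)<|d (c 23<|c 1 6)<|d (c 22<|c 1 6)<|
 d (c 22<|c 0 4)<|d (c 21<|c 0 4)<|h);
 (d (c 24<|c 1 6)<|d (c 24<|c 1 7)<|d (c 24<|c 1 6)<|d (c 23<|c 1 6)<|h)));
 (let h:=(let h:=(d (c 25<|c 1 6)<|d (c 24<|c 1 6)<|d (c 26<|c 1 7)<|
 d (c 25<|c 1 7)<|d (c 25<|c 1 6)<|h);
 (d (c 28<|c 1 7)<|d (c 27<|c 1 7)<|d (c 26<|c 1 7)<|d (c 26<|c 1 6)<|h));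
 (let h:=(d (c 27<|c 1 6)<|d (c 26<|c 1 6)<|
 d (c 25<|c 1 6)<|d (c 24<|c 1 6)<|h);
 (f (c 30<|c 1 7)<|f (c 29<|c 1 7)<|f (c 28<|c 1 7)<|f (c 27<|c 1 7)<|h))))))))<|k (f (c 12<|
 c 1 6)<|f (c 11<|c 1 6)<|f (c 10<|c 1 6)<|f (c 9<|c 1 6)<|f (c 8<|c 1 6)<|f (c 7<|c 1 6)<|f (c 6<|c 1 6)<|f (c 6<|c 2 3)<|f (c 5<|c 2 3)<|f (c 4<|c 2 3)<|
 f (c 3<|c 2 3)<|f (c 2<|c 2 3)<|f (c 1<|c 2 3)<|f (c 0<|c 2 3)<|m)<|k (let h:=(let h:=(let h:=(let h:=(let h:=(let h:=(d (c 5<|c 2 4)<|d (c 4<|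
 c 2 4)<|d (c 3<|c 2 3)<|d (c 3<|c 2 4)<|d (c 2<|c 2 3)<|d (c 1<|c 2 3)<|d (c 0<|c 2 3)<|m);
 (d (c 8<|c 2 4)<|d (c 7<|c 2 4)<|d (c 7<|c 2 4)<|d (c 6<|c 2 4)<|d (c 5<|c 2 4)<|d (c 4<|c 2 3)<|d (c 6<|c 2 4)<|h));
 (let h:=(d (c 8<|c 2 4)<|d (c 8<|c 2 4)<|d (c 7<|c 2 4)<|d (c 6<|c 2 4)<|d (c 5<|c 2 3)<|d (c 10<|c 0
 6)<|d (c 9<|c 2 4)<|h);
 (d (c 12<|c 0 6)<|d (c 11<|c 2 4)<|d (c 10<|c 2 4)<|d (c 9<|
 c 2 4)<|d (c 11<|c 0 6)<|d (c 10<|c 2 4)<|d (c 9<|c 2 4)<|h)));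
 (let h:=(let h:=(d (c 3<|c 2 3)<|d (c 2<|
 c 2 3)<|d (c 1<|c 2 3)<|d (c 15<|c 0 6)<|d (c 14<|c 0 6)<|d (c 13<|c 0 6)<|d (c 12<|c 2 4)<|h);
 (d (c 6<|c 2 4)<|d (c 5<|c 2 3)<|d (c 7<|c 2 4)<|d (c 6<|c 2 4)<|d (c 5<|c 2 4)<|d (c 4<|c 2 3)<|d (c 4<|c 2 4)<|h));
 (let h:=(d (c 2<|c 2 3)<|d (c 11<|c 0 6)<|d (c 10<|c 2 4)<|d (c 9<|c 2 4)<|d (c 8<|c 2 4)<|d (c 8<|c 2
 4)<|d (c 7<|c 2 4)<|h);
 (d (c 8<|c 2 4)<|d (c 7<|c 2 4)<|d (c 6<|c 2 4)<|
 d (c 5<|c 2 3)<|d (c 5<|c 2 4)<|d (c 4<|c 2 3)<|d (c 3<|c 2 3)<|h))));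
 (let h:=(let h:=(let h:=(d (c 5<|
 c 2 3)<|d (c 5<|c 2 3)<|d (c 4<|c 2 3)<|d (c 6<|c 2 4)<|d (c 5<|c 2 3)<|d (c 4<|c 2 3)<|d (c 3<|c 2 3)<|h);
 (d (c 8<|c 0 6)<|d (c 7<|c 0 6)<|d (c 7<|c 2 3)<|d (c 6<|c 2 3)<|d (c 7<|c 2 5)<|d (c 6<|c 2 5)<|d (c 6<|c 2 3)<|h));
 (let h:=(d (c 8<|c 0 6)<|d (c 8<|c 2 3)<|d (c 7<|c 2 3)<|d (c 7<|c 2 4)<|d (c 6<|c 2
 3)<|d (c 9<|c 0 6)<|d (c 8<|c 2 5)<|h);
 (d (c 11<|c 0 6)<|d (c 10<|c 0 6)<|
 d (c 10<|c 0 6)<|d (c 9<|c 0 6)<|d (c 9<|c 2 4)<|d (c 8<|c 2 4)<|d (c 9<|c 0 6)<|h)));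
 (let h:=(let h:=(d (c 8<|c 2 4)<|d (c 12<|c 0 6)<|d (c 11<|c 0 6)<|d (c 7<|c 2 4)<|d (c 6<|c 2 3)<|d (c 10<|c 0 6)<|d (c 9<|c 2 5)<|h);
 (d (c 10<|c 0 6)<|d (c 9<|c 0 6)<|d (c 9<|c 2 3)<|d (c 8<|c 2 3)<|d (c 8<|c 2 4)<|d (c 7<|c 2 3)<|d (c 9<|c 2 4)<|
 h));
 (let h:=(d (c 9<|c 2 4)<|d (c 12<|c 0 6)<|d (c 11<|c 0 6)<|d (c 11<|c 0 6)<|d (c 10<|c 0
 6)<|d (c 10<|c 2 4)<|d (c 9<|c 2 4)<|h);
 (d (c 12<|c 2 4)<|d (c 11<|c 2 4)<|d (c 12<|c 0
 6)<|d (c 11<|c 0 6)<|d (c 11<|c 2 4)<|d (c 10<|c 2 4)<|d (c 10<|c 2 4)<|h)))));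
 (let h:=(let h:=(let h:=(let h:=(d (c 14<|c 0
 6)<|d (c 13<|c 0 6)<|d (c 12<|c 0 6)<|d (c 14<|c 1 7)<|d (c 13<|c 0 6)<|d (c 13<|c 1 7)<|d (c 12<|c 1 7)<|h);
 (d (c 13<|c 0 6)<|d (c 12<|c 0 6)<|d (c 7<|c 2 4)<|d (c 6<|c 2 3)<|d (c 11<|c 0 6)<|d (c 10<|c 2 5)<|d (c 15<|c 1 7)<|h));
 (let h:=(d (c 15<|c 0 6)<|d (c 10<|c 2 4)<|d (c 9<|c 2 4)<|d (c 14<|c 0 6)<|d (c 13<|c 0 6)<|d (c 9<|
 c 2 4)<|d (c 8<|c 2 4)<|h);
 (d (c 10<|c 2 4)<|d (c 9<|c 2 4)<|d (c 8<|c 2 4)<|d (c 7<|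
 c 2 3)<|d (c 12<|c 0 6)<|d (c 11<|c 2 4)<|d (c 16<|c 1 7)<|h)));
 (let h:=(let h:=(d (c 10<|c 2 4)<|
 d (c 11<|c 0 6)<|d (c 10<|c 0 6)<|d (c 10<|c 2 3)<|d (c 9<|c 2 3)<|d (c 9<|c 2 4)<|d (c 8<|c 2 3)<|h);
 (d (c 11<|c 2 4)<|d (c 10<|c 2 4)<|d (c 13<|c 0 6)<|d (c 12<|c 0 6)<|d (c 12<|c 0 6)<|d (c 11<|c 0 6)<|d (c 11<|c 2 4)<|h));
 (let h:=(d (c 13<|c 1 7)<|d (c 13<|c 2 4)<|d (c 12<|c 2 4)<|d (c 13<|c 0 6)<|d (c 12<|c 0 6)<|d (c 12<|c 2 4)<|
 d (c 11<|c 2 4)<|h);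
 (d (c 11<|c 2 4)<|d (c 10<|c 2 4)<|d (c 14<|c 0 6)<|d (c 13<|c 0 6)<|
 d (c 15<|c 1 7)<|d (c 14<|c 0 6)<|d (c 14<|c 1 7)<|h))));
 (let h:=(let h:=(let h:=(d (c 12<|c 2 4)<|d (c 12<|c 2 4)<|
 d (c 11<|c 2 4)<|d (c 13<|c 0 6)<|d (c 12<|c 2 4)<|d (c 16<|c 1 7)<|d (c 15<|c 0 6)<|h);
 (d (c 15<|c 1 7)<|d (c 14<|c 1 7)<|d (c 14<|c 2 4)<|d (c 13<|c 2 4)<|d (c 14<|c 0 6)<|d (c 13<|c 0 6)<|d (c 13<|c 2 4)<|h));
 (let h:=(d (c 15<|c 1 7)<|d (c 15<|c 2 4)<|d (c 14<|c 2 4)<|d (c 14<|c 0 6)<|d (c 13<|c 2 4)<|d (c 16<|c 1 7)<|d (c 15<|c 0 6)<|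
 h);
 (d (c 18<|c 1 7)<|d (c 17<|c 1 7)<|d (c 17<|c 1 7)<|d (c 16<|c 1 7)<|d (c 16<|c 0 6)<|
 d (c 15<|c 0 6)<|d (c 16<|c 1 7)<|h)));
 (let h:=(let h:=(d (c 16<|c 0 6)<|d (c 15<|c 0 6)<|d (c 14<|c 0 6)<|
 d (c 19<|c 1 7)<|d (c 18<|c 1 7)<|d (c 17<|c 1 7)<|d (c 16<|c 0 6)<|h);
 (d (c 12<|c 0 6)<|
 d (c 11<|c 2 5)<|d (c 20<|c 1 7)<|d (c 19<|c 1 7)<|d (c 18<|c 1 7)<|d (c 17<|c 0 6)<|d (c 17<|c 1 7)<|h));
 (let h:=(d (c 14<|c 0 6)<|d (c 9<|c 2 4)<|d (c 8<|c 2 4)<|d (c 14<|c 0 6)<|d (c 13<|c 0 6)<|d (c 7<|c 2 4)<|d (c 6<|c 2 3)<|h);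
 (d (c 12<|c 0 6)<|d (c 11<|c 2 4)<|d (c 17<|c 1 7)<|d (c 16<|c 0 6)<|d (c 10<|c 2 4)<|d (c 9<|c 2 4)<|
 d (c 15<|c 0 6)<|h))))));
 (let h:=(let h:=(let h:=(let h:=(let h:=(d (c 12<|c 2 4)<|d (c 18<|c 1 7)<|d (c 17<|c 0 6)<|d (c 11<|c 2 4)<|
 d (c 10<|c 2 4)<|d (c 16<|c 0 6)<|d (c 15<|c 0 6)<|h);
 (d (c 21<|c 1 7)<|d (c 20<|c 1 7)<|
 d (c 14<|c 0 6)<|d (c 13<|c 2 4)<|d (c 19<|c 1 7)<|d (c 18<|c 0 6)<|d (c 13<|c 0 6)<|h));
 (let h:=(d (c 10<|c 2 4)<|d (c 10<|c 2 4)<|d (c 9<|c 2 4)<|d (c 8<|c 2 4)<|d (c 7<|c 2 3)<|d (c 16<|c 0 6)<|d (c 15<|c 0 6)<|h);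
 (d (c 11<|c 2 4)<|d (c 10<|c 2 4)<|d (c 9<|c 2 4)<|d (c 8<|c 2 3)<|d (c 13<|c 0 6)<|d (c 12<|c 2 4)<|d (c 11<|c 2 4)<|
 h)));
 (let h:=(let h:=(d (c 11<|c 2 4)<|d (c 12<|c 0 6)<|d (c 11<|c 0 6)<|d (c 11<|c 2 3)<|d (c 10<|c 2 3)<|
 d (c 10<|c 2 4)<|d (c 9<|c 2 3)<|h);
 (d (c 12<|c 2 4)<|d (c 11<|c 2 4)<|d (c 14<|c 0 6)<|
 d (c 13<|c 0 6)<|d (c 13<|c 0 6)<|d (c 12<|c 0 6)<|d (c 12<|c 2 4)<|h));
 (let h:=(d (c 14<|c 1 7)<|
 d (c 14<|c 2 4)<|d (c 13<|c 2 4)<|d (c 14<|c 0 6)<|d (c 13<|c 0 6)<|d (c 13<|c 2 4)<|d (c 12<|c 2 4)<|h);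
 (d (c 12<|c 2 4)<|d (c 11<|c 2 4)<|d (c 15<|c 0 6)<|d (c 14<|c 0 6)<|d (c 16<|c 1 7)<|d (c 15<|c 0 6)<|d (c 15<|c 1 7)<|h))));
 (let h:=(let h:=(let h:=(d (c 13<|c 2 4)<|d (c 13<|c 2 4)<|d (c 12<|c 2 4)<|d (c 14<|c 0 6)<|d (c 13<|c 2 4)<|d (c 17<|c 1 7)<|
 d (c 16<|c 0 6)<|h);
 (d (c 16<|c 1 7)<|d (c 15<|c 1 7)<|d (c 15<|c 2 4)<|d (c 14<|c 2 4)<|
 d (c 15<|c 0 6)<|d (c 14<|c 0 6)<|d (c 14<|c 2 4)<|h));
 (let h:=(d (c 16<|c 1 7)<|d (c 16<|c 2 4)<|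
 d (c 15<|c 2 4)<|d (c 15<|c 0 6)<|d (c 14<|c 2 4)<|d (c 17<|c 1 7)<|d (c 16<|c 0 6)<|h);
 (d (c 19<|c 1 7)<|d (c 18<|c 1 7)<|d (c 18<|c 1 7)<|d (c 17<|c 1 7)<|d (c 17<|c 0 6)<|d (c 16<|c 0 6)<|d (c 17<|c 1 7)<|h)));
 (let h:=(let h:=(d (c 11<|c 2 4)<|d (c 16<|c 0 6)<|d (c 15<|c 0 6)<|d (c 20<|c 1 7)<|d (c 19<|c 1 7)<|d (c 18<|c 1 7)<|d (c 17<|c 0 6)<|
 h);
 (d (c 19<|c 1 7)<|d (c 18<|c 0 6)<|d (c 14<|c 0 6)<|d (c 13<|c 2 4)<|d (c 18<|c 1 7)<|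
 d (c 17<|c 0 6)<|d (c 12<|c 2 4)<|h));
 (let h:=(d (c 12<|c 2 4)<|d (c 17<|c 0 6)<|d (c 16<|c 0 6)<|
 d (c 21<|c 1 7)<|d (c 20<|c 1 7)<|d (c 15<|c 0 6)<|d (c 14<|c 2 4)<|h);
 (d (c 15<|c 2 4)<|
 d (c 14<|c 2 4)<|d (c 14<|c 2 4)<|d (c 13<|c 2 4)<|d (c 15<|c 0 6)<|d (c 14<|c 2 4)<|d (c 13<|c 2 4)<|h)))));
 (let h:=(let h:=(let h:=(let h:=(d (c 17<|c 0 6)<|d (c 17<|c 1 7)<|d (c 16<|c 1 7)<|d (c 16<|c 2 4)<|d (c 15<|c 2 4)<|d (c 16<|c 0 6)<|d (c 15<|c 0 6)<|h);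
 (d (c 18<|c 1 7)<|d (c 17<|c 1 7)<|d (c 17<|c 2 4)<|d (c 16<|c 2 4)<|d (c 16<|c 0 6)<|d (c 15<|c 2 4)<|
 d (c 18<|c 1 7)<|h));
 (let h:=(d (c 18<|c 0 6)<|d (c 20<|c 1 7)<|d (c 19<|c 1 7)<|d (c 19<|c 1 7)<|
 d (c 18<|c 1 7)<|d (c 18<|c 0 6)<|d (c 17<|c 0 6)<|h);
 (d (c 18<|c 0 6)<|d (c 17<|c 0 6)<|
 d (c 21<|c 1 7)<|d (c 20<|c 1 7)<|d (c 16<|c 0 6)<|d (c 15<|c 2 4)<|d (c 19<|c 1 7)<|h)));
 (let h:=(let h:=(d (c 18<|c 0 6)<|d (c 19<|c 1 7)<|d (c 18<|c 1 7)<|d (c 18<|c 2 4)<|d (c 17<|c 2 4)<|d (c 17<|c 0 6)<|d (c 16<|c 2 4)<|h);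
 (d (c 19<|c 0 6)<|d (c 18<|c 0 6)<|d (c 21<|c 1 7)<|d (c 20<|c 1 7)<|d (c 20<|c 1 7)<|d (c 19<|c 1 7)<|d (c 19<|c 0 6)<|
 h));
 (let h:=(d (c 21<|c 1 8)<|d (c 21<|c 0 6)<|d (c 20<|c 0 6)<|d (c 21<|c 1 7)<|d (c 20<|c 1 7)<|
 d (c 20<|c 0 6)<|d (c 19<|c 0 6)<|h);
 (d (c 24<|c 1 8)<|d (c 23<|c 1 7)<|d (c 22<|c 1 7)<|
 d (c 21<|c 1 7)<|d (c 23<|c 1 8)<|d (c 22<|c 1 7)<|d (c 22<|c 1 8)<|h))));
 (let h:=(let h:=(let h:=(d (c 24<|c 1 7)<|
 d (c 23<|c 1 7)<|d (c 22<|c 1 7)<|d (c 22<|c 1 7)<|d (c 21<|c 1 7)<|d (c 20<|c 1 7)<|d (c 19<|c 0 6)<|h);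
 (d (c 20<|c 1 7)<|d (c 19<|c 0 6)<|d (c 19<|c 1 7)<|d (c 18<|c 0 6)<|d (c 17<|c 0 6)<|d (c 16<|c 0 6)<|d (c 25<|c 1 8)<|h));
 (let h:=(d (c 23<|c 1 7)<|d (c 23<|c 1 7)<|d (c 22<|c 1 7)<|d (c 21<|c 1 7)<|d (c 20<|c 0 6)<|d (c 22<|c 1 7)<|
 d (c 21<|c 1 7)<|h);
 (d (c 15<|c 0 6)<|d (c 14<|c 0 6)<|d (c 13<|c 0 6)<|d (c 12<|c 2 5)<|
 d (c 26<|c 1 8)<|d (c 25<|c 1 7)<|d (c 24<|c 1 7)<|h)));
 (let h:=(let h:=(d (c 18<|c 0 6)<|d (c 17<|c 0 6)<|
 d (c 16<|c 0 6)<|d (c 18<|c 1 7)<|d (c 17<|c 0 6)<|d (c 16<|c 0 6)<|d (c 15<|c 0 6)<|h);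
 (d (c 18<|c 0 6)<|d (c 17<|c 0 6)<|d (c 22<|c 1 7)<|d (c 21<|c 1 7)<|d (c 20<|c 1 7)<|d (c 19<|c 0 6)<|d (c 19<|c 1 7)<|h));
 (let h:=(d (c 21<|c 0 6)<|d (c 23<|c 1 7)<|d (c 22<|c 1 7)<|d (c 21<|c 1 7)<|d (c 20<|c 0 6)<|d (c 20<|c 1 7)<|d (c 19<|c 0 6)<|
 h);
 (f (c 27<|c 1 8)<|f (c 26<|c 1 7)<|f (c 25<|c 1 7)<|f (c 24<|c 1 7)<|f (c 24<|c 1 7)<|
 f (c 23<|c 1 7)<|f (c 22<|c 1 7)<|h)))))))<|k (let h:=(let h:=(let h:=(let h:=(let h:=(let h:=(d (c 4<|c 2 4)<|d (c 3<|c 2 4)<|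
 d (c 2<|c 2 4)<|d (c 1<|c 2 4)<|d (c 0<|c 2 4)<|m);
 (d (c 7<|c 2 6)<|d (c 6<|c 2 6)<|d (c 5<|c 2 6)<|d (c 4<|c 2 6)<|h));
 (let h:=(d (c 5<|c 2 4)<|d (c 4<|
 c 2 4)<|d (c 3<|c 2 4)<|d (c 2<|c 2 4)<|d (c 8<|c 2 6)<|h);
 (d (c 8<|c 2 6)<|d (c 7<|c 2 6)<|d (c 6<|c 2 6)<|d (c 5<|c 2 6)<|h)));
 (let h:=(let h:=(d (c 7<|c 2
 6)<|d (c 6<|c 2 6)<|d (c 6<|c 2 4)<|d (c 5<|c 2 4)<|d (c 4<|c 2 4)<|h);
 (d (c 7<|c 2 6)<|d (c 7<|c 2 4)<|d (c 6<|c 2 4)<|d (c 8<|c 2 6)<|h));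
 (let h:=(d (c 9<|c 2 6)<|d (c 8<|c 2 6)<|d (c 8<|c 2 4)<|d (c 8<|c 2 6)<|h);
 (d (c 10<|c 0 7)<|d (c 10<|c 2 6)<|d (c 9<|c 2 6)<|
 d (c 9<|c 0 7)<|h))));
 (let h:=(let h:=(let h:=(d (c 11<|c 0 7)<|d (c 11<|c 2 6)<|d (c 10<|c 2 6)<|d (c 9<|c 2 6)<|d (c 11<|c 0 7)<|h);
 (d (c 10<|c 2 6)<|d (c 9<|c 2 6)<|d (c 13<|c 0 7)<|
 d (c 12<|c 0 7)<|h));
 (let h:=(d (c 14<|c 0 7)<|d (c 13<|c 0 7)<|d (c 12<|c 0 7)<|d (c 12<|c 2 6)<|d (c 11<|c 2 6)<|h);
 (d (c 11<|c 2 6)<|d (c 10<|c 2 6)<|d (c 9<|c 2 6)<|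
 d (c 15<|c 0 7)<|h)));
 (let h:=(let h:=(d (c 15<|c 0 7)<|d (c 14<|c 0 7)<|d (c 13<|c 0 7)<|d (c 13<|c 2 6)<|d (c 12<|c 2 6)<|h);
 (d (c 4<|c 2 4)<|d (c 3<|c 2 4)<|d (c 17<|c 0 7)<|
 d (c 16<|c 0 7)<|h));
 (let h:=(d (c 7<|c 2 6)<|d (c 6<|c 2 6)<|d (c 6<|c 2 4)<|d (c 5<|c 2 4)<|h);
 (d (c 6<|c 2 4)<|d (c 5<|c 2
 4)<|d (c 9<|c 2 6)<|d (c 8<|c 2 6)<|h)))));
 (let h:=(let h:=(let h:=(let h:=(d (c 7<|c 2 4)<|d (c 9<|c 2 6)<|d (c 8<|c 2 6)<|d (c 7<|c 2 6)<|d (c 7<|c 2 4)<|h);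
 (d (c 9<|c 2 4)<|
 d (c 9<|c 2 6)<|d (c 8<|c 2 6)<|d (c 8<|c 2 4)<|h));
 (let h:=(d (c 11<|c 2 6)<|d (c 10<|c 2 6)<|d (c 10<|c 0 7)<|d (c 10<|c 2 6)<|d (c 9<|c 2 6)<|h);
 (d (c 11<|c 2 6)<|
 d (c 10<|c 2 6)<|d (c 12<|c 0 7)<|d (c 11<|c 0 7)<|h)));
 (let h:=(let h:=(d (c 10<|c 2 6)<|d (c 14<|c 0 7)<|d (c 13<|c 0 7)<|d (c 12<|c 0 7)<|d (c 12<|c 2 6)<|h);
 (d (c 13<|c 0 7)<|
 d (c 13<|c 2 6)<|d (c 12<|c 2 6)<|d (c 11<|c 2 6)<|h));
 (let h:=(d (c 6<|c 2 4)<|d (c 16<|c 0 7)<|d (c 15<|c 0 7)<|d (c 14<|c 0 7)<|h);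
 (d (c 9<|c 2 6)<|d (c 8<|c 2 6)<|d (c 8<|c 2 4)<|d (c 7<|c 2 4)<|h))));
 (let h:=(let h:=(let h:=(d (c 10<|c 2 6)<|d (c 9<|c 2 6)<|d (c 9<|c 2 4)<|d (c 8<|c 2 4)<|d (c 10<|c 2
 6)<|h);
 (d (c 11<|c 0 7)<|d (c 11<|c 2 6)<|d (c 10<|c 2 6)<|d (c 10<|c 2 4)<|h));
 (let h:=(d (c 11<|c 2 6)<|d (c 13<|c 0 7)<|d (c 12<|c 0 7)<|d (c 12<|c 2 6)<|d (c 11<|c 2
 6)<|h);
 (d (c 14<|c 0 7)<|d (c 13<|c 0 7)<|d (c 13<|c 2 6)<|d (c 12<|c 2 6)<|h)));
 (let h:=(let h:=(d (c 11<|c 2 6)<|d (c 10<|c 2 6)<|d (c 10<|c 2 4)<|d (c 9<|c 2 4)<|d (c 15<|c 0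
 7)<|h);
 (d (c 12<|c 0 7)<|d (c 12<|c 2 6)<|d (c 11<|c 2 6)<|d (c 11<|c 2 4)<|h));
 (let h:=(d (c 14<|c 0 7)<|d (c 13<|c 0 7)<|d (c 13<|c 2 6)<|d (c 12<|c 2
 6)<|h);
 (d (c 13<|c 0 7)<|d (c 13<|c 2 6)<|d (c 12<|c 2 6)<|d (c 12<|c 2 4)<|h))))));
 (let h:=(let h:=(let h:=(let h:=(let h:=(d (c 13<|c 2 6)<|d (c 15<|c 1 8)<|d (c 15<|c 0 7)<|d (c 14<|c 0
 7)<|d (c 14<|c 2 6)<|h);
 (d (c 15<|c 2 6)<|d (c 15<|c 0 7)<|d (c 14<|c 0 7)<|d (c 14<|c 2 6)<|h));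
 (let h:=(d (c 17<|c 0 7)<|d (c 16<|c 0 7)<|d (c 16<|c 1 8)<|d (c 16<|c 0
 7)<|d (c 15<|c 0 7)<|h);
 (d (c 13<|c 2 6)<|d (c 12<|c 2 6)<|d (c 18<|c 1 8)<|d (c 17<|c 1 8)<|h)));
 (let h:=(let h:=(d (c 14<|c 2 6)<|d (c 16<|c 0 7)<|d (c 15<|c 0 7)<|d (c 14<|c 0
 7)<|d (c 14<|c 2 6)<|h);
 (d (c 16<|c 2 6)<|d (c 16<|c 0 7)<|d (c 15<|c 0 7)<|d (c 15<|c 2 6)<|h));
 (let h:=(d (c 17<|c 0 7)<|d (c 17<|c 1 8)<|d (c 17<|c 0
 7)<|d (c 16<|c 0 7)<|h);
 (d (c 17<|c 0 7)<|d (c 19<|c 1 8)<|d (c 18<|c 1 8)<|d (c 18<|c 0 7)<|h))));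
 (let h:=(let h:=(let h:=(d (c 21<|c 1 8)<|d (c 20<|c 1 8)<|d (c 19<|c 1
 8)<|d (c 19<|c 0 7)<|d (c 18<|c 0 7)<|h);
 (d (c 14<|c 2 6)<|d (c 13<|c 2 6)<|d (c 12<|c 2 6)<|d (c 11<|c 2 6)<|h));
 (let h:=(d (c 13<|c 2 6)<|d (c 17<|c 0 7)<|d (c 16<|c 0
 7)<|d (c 15<|c 0 7)<|d (c 14<|c 0 7)<|h);
 (d (c 16<|c 0 7)<|d (c 15<|c 0 7)<|d (c 15<|c 2 6)<|d (c 14<|c 2 6)<|h)));
 (let h:=(let h:=(d (c 17<|c 0 7)<|d (c 16<|c 0 7)<|d (c 16<|c 2
 6)<|d (c 15<|c 2 6)<|d (c 17<|c 0 7)<|h);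
 (d (c 18<|c 1 8)<|d (c 18<|c 0 7)<|d (c 17<|c 0 7)<|d (c 17<|c 2 6)<|h));
 (let h:=(d (c 20<|c 1 8)<|d (c 19<|c 1
 8)<|d (c 19<|c 0 7)<|d (c 18<|c 0 7)<|h);
 (d (c 20<|c 1 8)<|d (c 20<|c 0 7)<|d (c 19<|c 0 7)<|d (c 18<|c 0 7)<|h)))));
 (let h:=(let h:=(let h:=(let h:=(d (c 20<|c 0 7)<|d (c 19<|c 0
 7)<|d (c 18<|c 0 7)<|d (c 22<|c 1 8)<|d (c 21<|c 1 8)<|h);
 (d (c 23<|c 1 8)<|d (c 22<|c 1 8)<|d (c 21<|c 1 8)<|d (c 21<|c 0 7)<|h));
 (let h:=(d (c 13<|c 2 6)<|d (c 12<|c 2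
 6)<|d (c 11<|c 2 6)<|d (c 10<|c 2 6)<|d (c 24<|c 1 8)<|h);
 (d (c 16<|c 0 7)<|d (c 15<|c 0 7)<|d (c 14<|c 0 7)<|d (c 14<|c 2 6)<|h)));
 (let h:=(let h:=(d (c 14<|c 2 6)<|d (c 13<|c 2
 6)<|d (c 12<|c 2 6)<|d (c 18<|c 0 7)<|d (c 17<|c 0 7)<|h);
 (d (c 17<|c 0 7)<|d (c 16<|c 0 7)<|d (c 15<|c 0 7)<|d (c 15<|c 2 6)<|h));
 (let h:=(d (c 16<|c 2
 6)<|d (c 15<|c 2 6)<|d (c 14<|c 2 6)<|d (c 18<|c 0 7)<|h);
 (d (c 16<|c 2 6)<|d (c 18<|c 0 7)<|d (c 17<|c 0 7)<|d (c 16<|c 0 7)<|h))));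
 (let h:=(let h:=(let h:=(d (c 18<|c 0
 7)<|d (c 18<|c 2 6)<|d (c 18<|c 0 7)<|d (c 17<|c 0 7)<|d (c 17<|c 2 6)<|h);
 (d (c 20<|c 0 7)<|d (c 19<|c 0 7)<|d (c 19<|c 1 8)<|d (c 19<|c 0 7)<|h));
 (let h:=(d (c 21<|c 0
 7)<|d (c 20<|c 0 7)<|d (c 19<|c 0 7)<|d (c 21<|c 1 8)<|d (c 20<|c 1 8)<|h);
 (d (c 19<|c 0 7)<|d (c 23<|c 1 8)<|d (c 22<|c 1 8)<|d (c 21<|c 1 8)<|h)));
 (let h:=(let h:=(d (c 23<|c 1
 8)<|d (c 22<|c 1 8)<|d (c 22<|c 0 7)<|d (c 21<|c 0 7)<|d (c 20<|c 0 7)<|h);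
 (d (c 20<|c 0 7)<|d (c 19<|c 0 7)<|d (c 25<|c 1 8)<|d (c 24<|c 1 8)<|h));
 (let h:=(d (c 23<|c 1 8)<|d (c 23<|c 0 7)<|d (c 22<|c 0 7)<|d (c 21<|c 0 7)<|h);
 (f (c 27<|c 1 8)<|f (c 26<|c 1 8)<|f (c 25<|c 1 8)<|f (c 24<|c 1
 8)<|h)))))))<|k (let h:=(let h:=(let h:=(let h:=(d (c 3<|c 2 7)<|d (c 2<|c 2
 6)<|d (c 1<|c 2 6)<|d (c 0<|c 2 6)<|m);
 (d (c 6<|c 2 7)<|d (c 5<|c 2 7)<|d (c 4<|c 2 7)<|d (c 3<|c 2 6)<|h));
 (let h:=(d (c 7<|c 2 7)<|d (c 6<|c 2 7)<|d (c 5<|c 2 7)<|d (c 4<|c 2 6)<|h);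
 (d (c 10<|c 0 8)<|d (c 9<|c 2 7)<|d (c 8<|c 2 7)<|d (c 7<|c 2 7)<|
 h)));
 (let h:=(let h:=(d (c 8<|c 2 7)<|d (c 7<|c 2 7)<|d (c 6<|c 2 7)<|d (c 5<|c 2 6)<|h);
 (d (c 11<|c 0 8)<|d (c 10<|c 2 7)<|d (c 9<|
 c 2 7)<|d (c 8<|c 2 7)<|h));
 (let h:=(d (c 12<|c 0 8)<|d (c 11<|c 2 7)<|d (c 10<|c 2 7)<|d (c 9<|c 2 7)<|h);
 (d (c 15<|c 0 8)<|d (c 14<|
 c 0 8)<|d (c 13<|c 0 8)<|d (c 12<|c 2 7)<|h))));
 (let h:=(let h:=(let h:=(d (c 9<|c 2 7)<|d (c 8<|c 2 7)<|d (c 7<|c 2 7)<|d (c 6<|c 2 6)<|h);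
 (d (c 12<|c 0 8)<|d (c 11<|c 2 7)<|d (c 10<|c 2 7)<|d (c 9<|c 2 7)<|h));
 (let h:=(d (c 13<|c 0 8)<|d (c 12<|c 2 7)<|d (c 11<|c 2 7)<|d (c 10<|c 2 7)<|
 h);
 (d (c 16<|c 0 8)<|d (c 15<|c 0 8)<|d (c 14<|c 0 8)<|d (c 13<|c 2 7)<|h)));
 (let h:=(let h:=(d (c 14<|c 0 8)<|d (c 13<|c 2 7)<|d (c 12<|c 2 7)<|
 d (c 11<|c 2 7)<|h);
 (d (c 17<|c 0 8)<|d (c 16<|c 0 8)<|d (c 15<|c 0 8)<|d (c 14<|c 2 7)<|h));
 (let h:=(d (c 18<|c 0 8)<|d (c 17<|c 0 8)<|
 d (c 16<|c 0 8)<|d (c 15<|c 2 7)<|h);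
 (f (c 21<|c 1 9)<|f (c 20<|c 0 8)<|f (c 19<|c 0 8)<|f (c 18<|c 0 8)<|h)))))<|k (f (c 0<|c 2 8)<|m)<|q))

/-- the entries of a level -/
def gF (k m : ℕ) : List (ℕ × ℕ × ℕ) → List (ℕ × ℕ × ℕ) :=
  Nat.rec (motive := fun _ => List (ℕ × ℕ × ℕ) → List (ℕ × ℕ × ℕ)) (fun acc => acc) (fun b ih acc => Bool.rec (ih acc)
    (ih ((fd (gt b) 140 32, Bool.rec (Bool.rec 0 2 (Nat.ble (Nat.succ (Nat.mul 2 (fd (gt b) 0 32))) (Nat.add (fd (gt b) 10 32) 16))) 1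
      (Nat.ble (Nat.succ (Nat.add (fd (gt b) 10 32) 16)) (Nat.mul 2 (fd (gt b) 0 32))), fd (gt (fd (gt b) 40 4096)) 136 16) :: acc))
    (Nat.beq (fd (gt b) 136 16) k)) m

theorem gF_eq (k m : ℕ) (hm : m ≤ 4096) : ∀ acc, gath T [2, 0, -1, 0, 0, 0, 0, 0] 0 k m acc = gF k m acc := by
  induction m with
  | zero => intro acc; rfl
  | succ b ih =>
    intro acc
    have h1 : dotL [2, 0, -1, 0, 0, 0, 0, 0] (rw0 (gt b)).v =
        ((Nat.mul 2 (fd (gt b) 0 32) : ℕ) : ℤ) - ((Nat.add (fd (gt b) 10 32) 16 : ℕ) : ℤ) := by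
      simp only [rw0, dotL, iz, Nat.add_eq, Nat.mul_eq]
      (clear * -; solve | lia | omega)
    have h2 : ∀ p n : ℕ, decide (0 < (p : ℤ) - n) = Nat.ble (Nat.succ n) p := fun p n => by
      rw [Bool.eq_iff_iff, decide_eq_true_eq, Nat.ble_eq]
      omega
    have h3 : ∀ p n : ℕ, decide ((p : ℤ) - n < 0) = Nat.ble (Nat.succ p) n := fun p n => by
      rw [Bool.eq_iff_iff, decide_eq_true_eq, Nat.ble_eq]
      omega
    have h4 : ∀ {α : Type} (c : Bool) (x y : α), cond c x y = Bool.rec y x c := fun c x y => by cases c <;> rfl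
    rw [gath, T_get (by omega : b < 4096), h1, h2, h3, ih (by omega), ih (by omega),
      show T.get (nn (rw0 (gt b)).a 0) = rw0 (gt (fd (gt b) 40 4096)) from T_get (Nat.mod_lt _ (by decide)), h4, h4, h4]
    rfl

theorem hdg : ∀ k : Fin 10, eqE (gath T (nl rows ((0 : Fin 8) : ℕ)) ((0 : Fin 8) : ℕ) k 2160 []) (dg k) = true := by
  have h : ∀ k : Fin 10, eqE (gF k 2160 []) (dg k) = true := by decide +kernel
  exact fun k => (congrArg (eqE · (dg k)) (gF_eq k 2160 (by decide) [])).trans (h k)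

theorem hne : ∀ k, dg k ≠ [] := by decide +kernel

/-- the eigenvalues -/
def NN : Fin 10 → List ℤ := (beta% delta% lq263cdfc1e1 fun _ _ f _ _ k m _ _ _ q _ _ _ _ =>
 (k (f 0<|f 1<|f 1<|f 1<|f 2<|f 2<|f 3<|f 4<|f 4<|f 4<|f 5<|f 5<|f 5<|f 5<|f 4<|f 4<|f 4<|f 3<|f 2<|f 2<|f 1<|f 1<|f 1<|m)<|k (f (-1)<|f 0<|
 f 0<|f 0<|f 1<|f 1<|f 2<|f 3<|f 4<|f 4<|f 5<|f 5<|f 5<|f 5<|f 4<|f 3<|f 3<|f 2<|f 1<|f 1<|m)<|k (f (-1)<|f 0<|f 0<|f (-1)<|f 0<|f 0<|f 1<|f 2<|f 3<|f 3<|f 4<|f 5<|f 4<|f 4<|f 3<|f 2<|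
 f 2<|f 1<|m)<|k (f (-1)<|f 0<|f 0<|f (-1)<|f 0<|f (-1)<|f 0<|f 1<|f 2<|f 2<|f 3<|f 3<|f 3<|f 3<|f 2<|f 1<|f 1<|m)<|k (f (-1)<|f 0<|f 0<|f (-1)<|f 0<|f (-1)<|f 0<|f 1<|f 0<|f 0<|f 1<|f 1<|f 1<|
 f 1<|f 0<|f 1<|f 1<|m)<|k (f (-1)<|f 0<|f 0<|f (-1)<|f 0<|f (-1)<|f (-1)<|f 0<|f 1<|f 1<|f 2<|f 3<|f 2<|f 2<|f 1<|m)<|k (f (-1)<|f 0<|f 0<|f (-1)<|f 0<|f (-1)<|f (-1)<|f 0<|f 0<|f 0<|f 1<|f 1<|f 1<|
 f 1<|m)<|k (f (-1)<|f 0<|f 0<|f (-1)<|f 0<|f (-1)<|f (-1)<|f 0<|f 0<|f (-1)<|f 0<|f 1<|m)<|k (f (-1)<|f 0<|f 0<|f (-1)<|f 0<|f (-1)<|f (-1)<|f 0<|f 0<|f (-1)<|f 0<|f (-1)<|m)<|k (f (-1)<|f 0<|f 0<|f (-1)<|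
 f 0<|f (-1)<|f (-1)<|f 0<|f (-1)<|f (-1)<|f 0<|f (-1)<|f 0<|f 0<|f (-1)<|m)<|q))

/-- the eigenvectors -/
def UU : Fin 10 → Fin 10 → List ℤ := (beta% delta% lq263cdfc1e1 fun _ _ f g _ k m _ _ _ q _ _ _ _ =>
 (k (k (f 1<|m)<|k (f 1<|m)<|k (f 1<|m)<|k (f 1<|m)<|k (f 1<|m)<|k (f 1<|m)<|k (f 1<|m)<|k (f 1<|m)<|k (f 1<|m)<|k (f 1<|m)<|q)<|k (k (f 0<|f 0<|f 0<|f 0<|f 0<|
 f 0<|f 0<|f 0<|f 0<|f 0<|f 0<|f 0<|f 0<|f 0<|f 0<|f 1<|f 1<|f 0<|f 0<|f 0<|f 0<|f 1<|f 1<|m)<|k (f 0<|f 0<|f 0<|f 0<|f 0<|f 0<|f 0<|f 0<|f 0<|f 0<|f 0<|f 0<|f 0<|f 0<|f (-1)<|f 0<|f 1<|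
 f 1<|f 1<|f 1<|m)<|k (f 0<|f 0<|f 0<|f 0<|f 0<|f 0<|f 0<|f 0<|f 0<|f 0<|f 0<|f (-1)<|f (-1)<|f 0<|f 0<|f 1<|f 2<|f 1<|m)<|k (f 0<|f 0<|f 0<|f 0<|f 0<|f 0<|f 0<|f 0<|f 0<|f (-1)<|f (-1)<|f (-1)<|
 f 0<|f 1<|f 1<|f 1<|f 1<|m)<|k (f 0<|f 0<|f 0<|f 0<|f 0<|f 0<|f 0<|f 0<|f (-1)<|f (-2)<|f (-1)<|f 0<|f 1<|f 2<|f 1<|m)<|k (f 0<|f 0<|f 0<|f 0<|f 0<|f 0<|f (-1)<|f (-1)<|f 0<|f 0<|f 0<|f 0<|f 0<|
 f 0<|f 0<|f 1<|f 1<|m)<|k (f 0<|f 0<|f 0<|f 0<|f 0<|f 0<|f (-1)<|f (-1)<|f (-1)<|f (-1)<|f 0<|f 1<|f 1<|f 1<|m)<|k (f 0<|f 0<|f 0<|f 0<|f 0<|f (-1)<|f (-2)<|f (-1)<|f 0<|f 0<|f 1<|f 1<|m)<|k (f 0<|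
 f 0<|f 0<|f (-1)<|f (-1)<|f (-1)<|f (-1)<|f 0<|f 1<|m)<|k (f (-1)<|f (-1)<|f 0<|f 0<|f 0<|f 0<|f (-1)<|f (-1)<|m)<|q)<|k (k (let h:=(let h:=(let h:=(g 2<|g 1<|g 1<|g 1<|g 1<|g 1<|m);
 (g 2<|g 2<|g 2<|g 2<|g 3<|h));
 (let h:=(g 1<|g 1<|g 1<|g 2<|g 3<|h);
 (g 0<|g 0<|g 0<|g 1<|g 1<|h)));
 (let h:=(let h:=(g 0<|g 0<|g 0<|g 0<|g 0<|g 0<|h);
 (g 0<|g 0<|g 0<|g 0<|g 0<|
 h));
 (let h:=(g 0<|g 0<|g 0<|g 0<|g 0<|h);
 (f 0<|f 0<|f 0<|f 0<|f 0<|h))))<|k (let h:=(let h:=(let h:=(g 2<|g 2<|g 2<|g 2<|g 1<|m);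
 (g 0<|g 0<|g 1<|g 3<|g 2<|h));
 (let h:=(g 0<|g (-1)<|g 0<|g 0<|g 0<|h);
 (g 0<|g 0<|g 0<|g 0<|h)));
 (let h:=(let h:=(g 0<|g 0<|g 0<|g 0<|g 0<|h);
 (g 0<|g 0<|g 0<|g 0<|h));
 (let h:=(g 0<|g 0<|g 0<|g 0<|
 g 0<|h);
 (f 0<|f 0<|f 0<|f 0<|h))))<|k (let h:=(let h:=(let h:=(g 1<|g 3<|g 3<|g 2<|g 1<|m);
 (g 0<|g 0<|g 0<|g 0<|h));
 (let h:=(g (-1)<|g (-2)<|g (-3)<|g (-1)<|h);
 (g 0<|g 0<|g 1<|g 0<|h)));
 (let h:=(let h:=(g 0<|g 0<|g 0<|g 0<|g 0<|h);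
 (g 0<|g 0<|g 0<|g 0<|h));
 (let h:=(g 0<|g 0<|
 g 0<|g 0<|h);
 (f 0<|f 0<|f 0<|f 0<|h))))<|k (f 0<|f 0<|f 0<|f 0<|f 0<|f 0<|
 f 0<|f 0<|f 0<|f 0<|f 0<|f 0<|f 0<|f 0<|f 0<|f 1<|f 1<|f 1<|f (-1)<|f (-1)<|f (-2)<|f (-2)<|f (-2)<|f (-3)<|f (-1)<|f 0<|f 0<|f 1<|f 1<|f 2<|f 2<|f 1<|m)<|k (f 0<|f 0<|f 0<|f 0<|f 0<|f 0<|f 0<|
 f 0<|f 0<|f 0<|f 0<|f 0<|f 0<|f 1<|f 2<|f 2<|f 1<|f (-1)<|f (-3)<|f (-2)<|f (-2)<|f (-2)<|f (-2)<|f (-3)<|f (-1)<|f 1<|f 2<|f 2<|f 1<|m)<|k (f 0<|f 0<|f 0<|f 0<|f 0<|f 0<|f 0<|f 0<|f 0<|f 0<|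
 f 1<|f 1<|f 1<|f 0<|f 0<|f 0<|f 0<|f 0<|f (-2)<|f (-1)<|f (-2)<|f (-2)<|f (-1)<|f (-2)<|f 0<|f 0<|f 0<|f 0<|f 0<|f 1<|f 1<|f 1<|m)<|k (f 0<|f 0<|f 0<|f 0<|f 0<|f 0<|f 0<|f 0<|f 0<|f 0<|f 1<|
 f 2<|f 2<|f 1<|f 1<|f 0<|f 0<|f (-1)<|f (-3)<|f (-2)<|f (-2)<|f (-2)<|f (-1)<|f (-1)<|f 1<|f 1<|f 1<|m)<|k (f 0<|f 0<|f 0<|f 0<|f 0<|f 0<|f 0<|f 0<|f 1<|f 2<|f 3<|f 3<|f 1<|f 0<|f 0<|f 0<|f 0<|
 f (-1)<|f (-3)<|f (-2)<|f (-1)<|f 0<|f 1<|m)<|k (f 0<|f 0<|f 0<|f 0<|f 0<|f 1<|f 2<|f 2<|f 2<|f 2<|f 2<|f 3<|f 1<|f 0<|f 0<|f 0<|f 0<|f 0<|f (-1)<|m)<|k (f 1<|f 1<|f 1<|f 1<|f 1<|f 2<|f 3<|f 2<|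
 f 2<|f 2<|f 2<|f 3<|f 2<|f 1<|f 1<|f 1<|f 1<|f 1<|m)<|q)<|k (k (let h:=(let h:=(let h:=(g 9<|g 7<|g 5<|g 3<|g 2<|g 2<|
 g 1<|m);
 (g 16<|g 16<|g 16<|g 16<|g 14<|g 11<|g 10<|h));
 (let h:=(g 7<|g 9<|g 10<|g 11<|g 14<|g 16<|g 16<|h);
 (g 0<|g 0<|g 1<|g 2<|g 2<|g 3<|g 5<|h)));
 (let h:=(let h:=(g 0<|g 0<|g 0<|
 g 0<|g 0<|g 0<|g 0<|h);
 (g 0<|g 0<|g 0<|g 0<|g 0<|g 0<|g 0<|h));
 (let h:=(g 0<|g 0<|g 0<|g 0<|g 0<|g 0<|g 0<|h);
 (f 0<|f 0<|f 0<|f 0<|f 0<|f 0<|f 0<|h))))<|k (let h:=(let h:=(let h:=(g 9<|g 8<|g 7<|g 5<|g 3<|g 2<|g 1<|m);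
 (g 2<|g 2<|g 5<|g 8<|g 9<|g 9<|h));
 (let h:=(g 0<|g (-1)<|
 g (-2)<|g (-2)<|g (-1)<|g 1<|h);
 (g 0<|g 0<|g 0<|g 0<|g (-1)<|g (-1)<|h)));
 (let h:=(let h:=(g 0<|g 0<|g 0<|g 0<|g 0<|g 0<|g 0<|h);
 (g 0<|g 0<|g 0<|g 0<|g 0<|g 0<|h));
 (let h:=(g 0<|g 0<|g 0<|g 0<|g 0<|g 0<|h);
 (f 0<|f 0<|f 0<|f 0<|f 0<|f 0<|h))))<|k (let h:=(let h:=(let h:=(g 6<|g 5<|g 4<|g 4<|g 3<|g 1<|m);
 (g (-6)<|g (-6)<|g (-4)<|g (-1)<|g 1<|g 4<|h));
 (let h:=(g 0<|g (-1)<|g (-2)<|g (-4)<|g (-7)<|g (-7)<|h);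
 (g 0<|g 0<|g 1<|g 1<|g 0<|h)));
 (let h:=(let h:=(g 0<|g 0<|g 0<|g 0<|g 0<|g 0<|h);
 (g 0<|g 0<|g 0<|g 0<|g 0<|g 0<|
 h));
 (let h:=(g 0<|g 0<|g 0<|g 0<|g 0<|g 0<|h);
 (f 0<|f 0<|f 0<|f 0<|f 0<|h))))<|k (let h:=(let h:=(let h:=(g 1<|g 3<|g 3<|g 1<|g 1<|g 1<|m);
 (g (-8)<|g (-7)<|g (-4)<|
 g (-1)<|g 0<|h));
 (let h:=(g 2<|g 0<|g (-3)<|g (-6)<|g (-7)<|g (-8)<|h);
 (g 2<|g 3<|g 2<|g 3<|g 4<|h)));
 (let h:=(let h:=(g 0<|g 0<|g 0<|g 0<|g (-1)<|g 0<|h);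
 (g 0<|g 0<|g 0<|g 0<|g 0<|h));
 (let h:=(g 0<|g 0<|g 0<|g 0<|g 0<|g 0<|h);
 (f 0<|f 0<|f 0<|
 f 0<|f 0<|h))))<|k (let h:=(let h:=(let h:=(g (-3)<|g (-1)<|g 1<|g 2<|g 1<|m);
 (g (-6)<|g (-7)<|g (-6)<|g (-6)<|g (-5)<|h));
 (let h:=(g 6<|g 7<|
 g 6<|g 2<|g (-2)<|h);
 (g (-1)<|g 1<|g 3<|g 5<|g 6<|h)));
 (let h:=(let h:=(g 0<|g 0<|g 0<|g (-1)<|g (-2)<|h);
 (g 0<|g 0<|g 0<|g 0<|g 0<|h));
 (let h:=(g 0<|g 0<|g 0<|g 0<|g 0<|h);
 (f 0<|f 0<|f 0<|f 0<|h))))<|k (let h:=(let h:=(let h:=(g 0<|g 1<|g 1<|g 0<|g 1<|g 1<|m);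
 (g (-4)<|g (-4)<|g (-3)<|g (-2)<|g (-1)<|h));
 (let h:=(g 0<|g 0<|g (-2)<|g (-4)<|g (-5)<|g (-5)<|h);
 (g 4<|g 5<|g 5<|g 4<|g 2<|h)));
 (let h:=(let h:=(g (-1)<|g 0<|
 g 1<|g 2<|g 3<|g 4<|h);
 (g 0<|g (-1)<|g (-1)<|g 0<|g (-1)<|h));
 (let h:=(g 0<|g 0<|g 0<|g 0<|g 0<|g 0<|h);
 (f 0<|f 0<|f 0<|f 0<|f 0<|h))))<|k (let h:=(let h:=(let h:=(g (-2)<|g (-3)<|g (-2)<|g 0<|g 1<|m);
 (g 0<|g (-2)<|g (-4)<|g (-3)<|h));
 (let h:=(g 8<|g 8<|g 7<|g 6<|g 3<|h);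
 (g 0<|g 1<|g 4<|g 7<|h)));
 (let h:=(let h:=(g (-1)<|g (-1)<|g (-3)<|g (-3)<|g (-1)<|h);
 (g 0<|g 0<|g 0<|g (-1)<|h));
 (let h:=(g 0<|g 0<|
 g 0<|g 0<|g 0<|h);
 (f 0<|f 0<|f 0<|f 0<|h))))<|k (f 0<|
 f 0<|f 0<|f 0<|f 0<|f 0<|f 0<|f 0<|f 0<|f 0<|f (-1)<|f (-3)<|f (-4)<|f (-4)<|f (-5)<|f (-6)<|f (-4)<|f (-1)<|f 1<|f 4<|f 6<|f 6<|f 7<|f 7<|f 4<|f 2<|f 1<|f 0<|f 0<|f (-1)<|f (-1)<|m)<|k (f 0<|f 0<|
 f 0<|f 0<|f 0<|f 0<|f (-1)<|f (-2)<|f (-3)<|f (-5)<|f (-7)<|f (-8)<|f (-9)<|f (-9)<|f (-9)<|f (-8)<|f (-5)<|f (-2)<|f (-2)<|f (-1)<|f 1<|f 2<|f 2<|f 1<|f 0<|f 1<|f 1<|m)<|k (f (-1)<|f (-2)<|f (-2)<|f (-3)<|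
 f (-5)<|f (-7)<|f (-9)<|f (-10)<|f (-11)<|f (-14)<|f (-16)<|f (-16)<|f (-16)<|f (-16)<|f (-16)<|f (-16)<|f (-14)<|f (-11)<|f (-10)<|f (-9)<|f (-7)<|f (-5)<|f (-3)<|f (-2)<|f (-2)<|f (-1)<|m)<|q)<|k (k (let h:=(let h:=(let h:=(g 8<|g 6<|g 5<|g 4<|g 3<|g 2<|g 1<|m);
 (g 9<|g 9<|g 9<|g 9<|g 9<|g 9<|h));
 (let h:=(g 2<|g 3<|g 4<|g 5<|g 6<|g 8<|
 h);
 (g 0<|g 0<|g 0<|g 0<|g 0<|g 1<|h)));
 (let h:=(let h:=(g 0<|g 0<|g 0<|g 0<|g 0<|g 0<|g 0<|h);
 (g 0<|g 0<|g 0<|g 0<|g 0<|g 0<|h));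
 (let h:=(g 0<|g 0<|g 0<|g 0<|g 0<|g 0<|h);
 (f 0<|
 f 0<|f 0<|f 0<|f 0<|f 0<|h))))<|k (let h:=(let h:=(let h:=(g 2<|g 2<|g 2<|g 2<|g 2<|g 1<|m);
 (g (-1)<|g (-1)<|g (-1)<|g 1<|g 2<|h));
 (let h:=(g 0<|g 0<|g (-1)<|g (-1)<|g (-1)<|g (-1)<|h);
 (g 0<|g 0<|g 0<|g 0<|g 0<|h)));
 (let h:=(let h:=(g 0<|g 0<|g 0<|g 0<|g 0<|g 0<|
 h);
 (g 0<|g 0<|g 0<|g 0<|g 0<|h));
 (let h:=(g 0<|g 0<|g 0<|g 0<|g 0<|g 0<|h);
 (f 0<|f 0<|f 0<|f 0<|f 0<|h))))<|k (let h:=(let h:=(let h:=(g (-2)<|g 0<|g 1<|g 1<|g 1<|m);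
 (g (-2)<|g (-2)<|g (-2)<|g (-2)<|g (-2)<|h));
 (let h:=(g 1<|g 1<|g 1<|g 0<|g (-2)<|h);
 (g 0<|g 0<|g 0<|g 0<|g 0<|h)));
 (let h:=(let h:=(g 0<|g 0<|g 0<|g 0<|g 0<|h);
 (g 0<|
 g 0<|g 0<|g 0<|g 0<|h));
 (let h:=(g 0<|g 0<|g 0<|g 0<|g 0<|h);
 (f 0<|f 0<|f 0<|f 0<|f 0<|h))))<|k (let h:=(let h:=(let h:=(g (-1)<|g (-1)<|g 0<|g 1<|
 g 1<|m);
 (g 1<|g (-1)<|g (-1)<|g (-1)<|g (-1)<|h));
 (let h:=(g 2<|g 2<|g 2<|g 2<|g 2<|h);
 (g 0<|g (-1)<|g 0<|g 1<|h)));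
 (let h:=(let h:=(g 0<|g 0<|g 0<|g 0<|g 0<|h);
 (g 0<|g 0<|g 0<|g 0<|g 0<|h));
 (let h:=(g 0<|g 0<|g 0<|g 0<|g 0<|h);
 (f 0<|f 0<|f 0<|f 0<|
 h))))<|k (let h:=(let h:=(let h:=(g 0<|g (-2)<|g (-2)<|g (-2)<|
 g (-1)<|m);
 (g 1<|g 1<|g 1<|g 1<|h));
 (let h:=(g (-2)<|g 0<|g 1<|g 1<|h);
 (g 0<|g (-1)<|g (-2)<|g (-2)<|h)));
 (let h:=(let h:=(g 0<|g 0<|g 0<|g 0<|h);
 (g 0<|g 0<|g 0<|g 0<|h));
 (let h:=(g 0<|g 0<|g 0<|g 0<|h);
 (f 0<|f 0<|f 0<|f 0<|h))))<|k (let h:=(let h:=(let h:=(g 2<|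
 g 1<|g 1<|g 1<|g 1<|m);
 (g 7<|g 5<|g 5<|g 4<|g 3<|h));
 (let h:=(g 9<|g 9<|g 9<|g 9<|g 8<|h);
 (g 5<|g 5<|g 7<|g 8<|h)));
 (let h:=(let h:=(g 1<|g 1<|g 2<|g 3<|g 4<|h);
 (g 0<|g 0<|g 0<|g 1<|g 1<|h));
 (let h:=(g 0<|g 0<|g 0<|g 0<|g 0<|h);
 (f 0<|f 0<|f 0<|f 0<|h))))<|k (f 0<|f 0<|f 0<|f 0<|f 0<|f 0<|f 0<|f 0<|f 0<|f 0<|f 0<|f 0<|f 1<|f 1<|f 0<|f (-1)<|f (-1)<|f (-1)<|f (-1)<|f (-1)<|f (-1)<|f 1<|f 2<|f 2<|f 2<|f 2<|f 2<|f 1<|f 0<|
 f (-1)<|m)<|k (f 0<|f 0<|f 0<|f 0<|f 0<|f 0<|f 0<|f 0<|f 0<|f 0<|f 1<|f 1<|f 1<|f 0<|f (-2)<|f (-2)<|f (-2)<|f (-2)<|f (-2)<|f (-2)<|f (-2)<|f 0<|f 1<|f 1<|f 1<|m)<|k (f 0<|f 0<|f 0<|f 0<|f 0<|f 0<|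
 f 1<|f 2<|f 2<|f 2<|f 2<|f 2<|f 2<|f 1<|f (-1)<|f (-1)<|f (-1)<|f (-1)<|f (-1)<|f (-1)<|f (-1)<|m)<|k (f 1<|f 2<|f 3<|f 4<|f 5<|f 6<|f 8<|f 9<|f 9<|f 9<|f 9<|f 9<|f 9<|f 8<|f 6<|f 5<|f 4<|f 3<|
 f 2<|f 1<|m)<|q)<|k (k (let h:=(let h:=(let h:=(let h:=(g 1<|g 1<|g 1<|g 1<|m);
 (g 3<|g 4<|g 3<|g 2<|h));
 (g 3<|g 3<|g 4<|g 5<|g 5<|g 4<|g 3<|h));
 (let h:=(g 1<|g 1<|g 1<|g 1<|g 2<|g 3<|g 4<|h);
 (g 0<|g 0<|g 0<|
 g 0<|g 0<|g 0<|g 0<|h)));
 (let h:=(let h:=(let h:=(g 0<|g 0<|g 0<|g 0<|h);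
 (g 0<|g 0<|g 0<|g 0<|h));
 (g 0<|g 0<|g 0<|g 0<|g 0<|g 0<|g 0<|h));
 (let h:=(g 0<|g 0<|g 0<|g 0<|g 0<|g 0<|g 0<|h);
 (f 0<|f 0<|f 0<|f 0<|f 0<|f 0<|f 0<|h))))<|k (let h:=(let h:=(let h:=(g 1<|g 1<|g 1<|g 2<|g 2<|g 2<|g 1<|m);
 (g 0<|g 0<|g (-1)<|g (-1)<|g (-1)<|g 1<|
 h));
 (let h:=(g 0<|g 0<|g 0<|g 0<|g (-1)<|g 0<|h);
 (g 0<|g 0<|g 0<|g 0<|g 0<|g 0<|h)));
 (let h:=(let h:=(g 0<|g 0<|g 0<|g 0<|g 0<|g 0<|g 0<|h);
 (g 0<|g 0<|g 0<|g 0<|g 0<|g 0<|h));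
 (let h:=(g 0<|g 0<|g 0<|
 g 0<|g 0<|g 0<|h);
 (f 0<|f 0<|f 0<|f 0<|f 0<|f 0<|h))))<|k (let h:=(let h:=(let h:=(g (-4)<|g (-2)<|g 0<|g 2<|g 2<|g 1<|m);
 (g 0<|g 0<|g 0<|g 0<|g (-1)<|g (-3)<|h));
 (let h:=(g 0<|
 g 0<|g 0<|g 0<|g 1<|g 0<|h);
 (g 0<|g 0<|g 0<|g 0<|g 0<|h)));
 (let h:=(let h:=(g 0<|g 0<|g 0<|g 0<|g 0<|g 0<|h);
 (g 0<|g 0<|g 0<|g 0<|g 0<|h));
 (let h:=(g 0<|g 0<|g 0<|g 0<|g 0<|g 0<|h);
 (f 0<|f 0<|f 0<|f 0<|f 0<|h))))<|k (let h:=(let h:=(let h:=(g (-3)<|g (-3)<|g (-2)<|g 0<|g 0<|g 1<|m);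
 (g 1<|g 3<|g 1<|g 1<|g (-1)<|h));
 (let h:=(g 0<|g (-1)<|g 0<|g 0<|g 2<|h);
 (g 0<|g 0<|g 0<|g 0<|g 0<|h)));
 (let h:=(let h:=(g 0<|g 0<|
 g 0<|g 0<|g 0<|h);
 (g 0<|g 0<|g 0<|g 0<|g 0<|h));
 (let h:=(g 0<|g 0<|g 0<|g 0<|g 0<|h);
 (f 0<|f 0<|f 0<|f 0<|f 0<|h))))<|k (let h:=(let h:=(let h:=(g (-2)<|g (-4)<|g (-2)<|g 0<|g 1<|m);
 (g 2<|g 7<|g 7<|g 2<|h));
 (let h:=(g 1<|g 0<|g (-2)<|g (-4)<|g (-2)<|h);
 (g 0<|g 0<|g 0<|g 0<|h)));
 (let h:=(let h:=(g 0<|g 0<|g 0<|g 0<|g 0<|h);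
 (g 0<|g 0<|g 0<|g 0<|h));
 (let h:=(g 0<|g 0<|g 0<|g 0<|g 0<|
 h);
 (f 0<|f 0<|f 0<|f 0<|h))))<|k (let h:=(let h:=(let h:=(g 0<|g (-1)<|g (-1)<|
 g (-1)<|g (-1)<|m);
 (g 0<|g 1<|g (-1)<|g 0<|g (-1)<|h));
 (let h:=(g (-1)<|g 1<|g 0<|g 1<|g 1<|h);
 (g (-1)<|g (-1)<|g 0<|g (-1)<|g 0<|h)));
 (let h:=(let h:=(g 0<|g 0<|g 0<|g (-1)<|g (-1)<|h);
 (g 0<|g 0<|g 0<|g 0<|g 0<|h));
 (let h:=(g 0<|
 g 0<|g 0<|g 0<|g 0<|h);
 (f 0<|f 0<|f 0<|f 0<|f 0<|h))))<|k (f 0<|f 0<|f 0<|f 0<|f 0<|f 0<|f 0<|f 0<|f 0<|f 0<|f 0<|f 0<|f 0<|f 0<|f 0<|f 0<|f 0<|f 1<|f 0<|f 0<|f (-2)<|f (-3)<|f (-3)<|f (-1)<|f 1<|f 1<|f 3<|f 1<|f 2<|f 0<|f 0<|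
 f (-1)<|m)<|k (f 0<|f 0<|f 0<|f 0<|f 0<|f 0<|f 0<|f 0<|f 0<|f 0<|f 0<|f 0<|f 0<|f 1<|f 2<|f 2<|f 0<|f (-2)<|f (-4)<|f (-3)<|f (-1)<|f 0<|f 0<|f 0<|f 0<|f 0<|f 1<|m)<|k (f 0<|f 0<|f 0<|f 0<|f 0<|
 f 0<|f 0<|f 0<|f 1<|f 2<|f 2<|f 2<|f 1<|f 1<|f 1<|f 1<|f (-1)<|f (-1)<|f (-1)<|f 0<|f 0<|f 0<|f (-1)<|m)<|k (f 1<|f 1<|f 1<|f 1<|f 2<|f 3<|f 4<|f 3<|f 3<|f 4<|f 5<|f 5<|f 4<|f 3<|f 3<|f 4<|
 f 3<|f 2<|f 1<|f 1<|f 1<|f 1<|m)<|q)<|k (k (let h:=(let h:=(let h:=(let h:=(g 1<|g 1<|g 1<|g 1<|m);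
 (g 3<|g 4<|g 3<|g 2<|h));
 (let h:=(g 5<|g 5<|g 4<|g 3<|h);
 (g 4<|g 3<|g 3<|g 4<|h)));
 (let h:=(let h:=(g 1<|g 1<|g 2<|g 3<|h);
 (g 0<|g 0<|g 1<|g 1<|h));
 (g 0<|g 0<|g 0<|g 0<|g 0<|g 0<|g 0<|h)));
 (let h:=(let h:=(let h:=(g 0<|g 0<|
 g 0<|g 0<|h);
 (g 0<|g 0<|g 0<|g 0<|h));
 (g 0<|g 0<|g 0<|g 0<|g 0<|g 0<|g 0<|h));
 (let h:=(let h:=(g 0<|g 0<|g 0<|g 0<|h);
 (g 0<|g 0<|g 0<|g 0<|h));
 (f 0<|f 0<|f 0<|f 0<|f 0<|f 0<|f 0<|h))))<|k (let h:=(let h:=(let h:=(g 1<|g 0<|g 0<|g 0<|g 1<|g 1<|g 1<|m);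
 (g 0<|g 0<|g 0<|g (-1)<|g (-1)<|g (-1)<|h));
 (let h:=(g 0<|g 0<|g 0<|g 0<|g 0<|g 0<|
 g (-1)<|h);
 (g 0<|g 0<|g 0<|g 0<|g 0<|g 0<|h)));
 (let h:=(let h:=(g 0<|g 0<|g 0<|g 0<|g 0<|g 0<|g 0<|h);
 (g 0<|g 0<|g 0<|g 0<|g 0<|g 0<|h));
 (let h:=(g 0<|g 0<|g 0<|g 0<|g 0<|g 0<|g 0<|h);
 (f 0<|f 0<|
 f 0<|f 0<|f 0<|f 0<|h))))<|k (let h:=(let h:=(let h:=(g 0<|g (-2)<|g (-2)<|g (-1)<|g 0<|g 1<|m);
 (g 1<|g 0<|g 0<|g 0<|g 0<|g 1<|h));
 (let h:=(g 0<|g 0<|g 0<|g 0<|g 0<|g 0<|h);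
 (g 0<|g 0<|g 0<|g 0<|g 0<|h)));
 (let h:=(let h:=(g 0<|g 0<|g 0<|
 g 0<|g 0<|g 0<|h);
 (g 0<|g 0<|g 0<|g 0<|g 0<|g 0<|h));
 (let h:=(g 0<|g 0<|g 0<|g 0<|g 0<|g 0<|h);
 (f 0<|f 0<|f 0<|f 0<|f 0<|h))))<|k (let h:=(let h:=(let h:=(g 1<|g 2<|g 0<|g (-1)<|g (-1)<|m);
 (g 0<|g 0<|g 1<|g 0<|g 1<|h));
 (let h:=(g 0<|g 0<|g 0<|g 0<|g (-1)<|h);
 (g 0<|g 0<|g 0<|g 0<|g 0<|h)));
 (let h:=(let h:=(g 0<|g 0<|g 0<|g 0<|g 0<|h);
 (g 0<|g 0<|g 0<|g 0<|g 0<|h));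
 (let h:=(g 0<|g 0<|g 0<|
 g 0<|g 0<|h);
 (f 0<|f 0<|f 0<|f 0<|f 0<|h))))<|k (let h:=(let h:=(let h:=(g 2<|g 2<|g 1<|g 0<|g (-1)<|m);
 (g (-1)<|g (-2)<|g (-2)<|g 0<|h));
 (let h:=(g 0<|g 0<|g 0<|g 1<|g 0<|h);
 (g 0<|g 0<|g 0<|g 0<|h)));
 (let h:=(let h:=(g 0<|g 0<|g 0<|g 0<|g 0<|h);
 (g 0<|g 0<|g 0<|g 0<|h));
 (let h:=(g 0<|g 0<|g 0<|g 0<|g 0<|h);
 (f 0<|f 0<|
 f 0<|f 0<|h))))<|
 k (let h:=(let h:=(let h:=(g 1<|g 0<|g 1<|g 1<|g 1<|m);
 (g 0<|g 0<|g 0<|g 1<|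
 g 1<|h));
 (let h:=(g (-1)<|g 0<|g (-1)<|g (-1)<|g (-1)<|h);
 (g 0<|g 0<|g 0<|g (-1)<|g (-1)<|h)));
 (let h:=(let h:=(g 0<|g 0<|g 0<|g 0<|g 0<|h);
 (g 0<|g 0<|g 0<|g 0<|g 0<|h));
 (let h:=(g 0<|g 0<|g 0<|g 0<|g 0<|h);
 (f 0<|f 0<|f 0<|f 0<|h))))<|k (f 0<|f 0<|f 0<|f 0<|f 0<|f 0<|f 0<|f 0<|f 0<|f 0<|f 0<|f 0<|f 0<|f 0<|f 0<|f 0<|f 0<|f 0<|f 0<|f 0<|f 0<|f 1<|f 1<|f 0<|f (-2)<|f (-1)<|f (-1)<|f 0<|
 f (-1)<|f 0<|f 0<|f 1<|m)<|k (f 0<|f 0<|f 0<|f 0<|f 0<|f 0<|f 0<|f 0<|f 0<|f 0<|f 0<|f 0<|f 0<|f 0<|f 0<|f (-1)<|f 0<|f 1<|f 2<|f 2<|f 0<|f (-1)<|f 0<|f 0<|f 0<|f 0<|f (-1)<|m)<|k (f 0<|f 0<|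
 f 0<|f 0<|f 0<|f 0<|f 0<|f 0<|f 0<|f (-1)<|f (-1)<|f (-1)<|f 0<|f 0<|f 0<|f (-1)<|f 1<|f 1<|f 1<|f 0<|f 0<|f 0<|f 1<|m)<|k (f (-1)<|f (-1)<|f (-1)<|f (-1)<|f (-2)<|f (-3)<|f (-4)<|f (-3)<|f (-3)<|
 f (-4)<|f (-5)<|f (-5)<|f (-4)<|f (-3)<|f (-3)<|f (-4)<|f (-3)<|f (-2)<|f (-1)<|f (-1)<|f (-1)<|f (-1)<|m)<|q)<|k (k (let h:=(let h:=(let h:=(let h:=(g 9<|g 6<|g 4<|g 2<|g 1<|m);
 (g 26<|g 21<|g 17<|g 12<|h));
 (let h:=(g 41<|g 40<|g 37<|g 34<|g 30<|h);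
 (g 34<|g 37<|g 40<|g 41<|h)));
 (let h:=(let h:=(g 12<|g 17<|g 21<|g 26<|
 g 30<|h);
 (g 2<|g 4<|g 6<|g 9<|h));
 (let h:=(g 0<|g 0<|g 0<|g 1<|h);
 (g 0<|g 0<|g 0<|g 0<|h))));
 (let h:=(let h:=(let h:=(g 0<|g 0<|g 0<|g 0<|g 0<|h);
 (g 0<|g 0<|g 0<|g 0<|h));
 (let h:=(g 0<|g 0<|g 0<|g 0<|g 0<|h);
 (g 0<|g 0<|g 0<|g 0<|h)));
 (let h:=(let h:=(g 0<|g 0<|g 0<|g 0<|g 0<|
 h);
 (g 0<|g 0<|g 0<|g 0<|h));
 (let h:=(g 0<|g 0<|g 0<|g 0<|h);
 (f 0<|f 0<|f 0<|f 0<|h)))))<|k (let h:=(let h:=(let h:=(let h:=(g 0<|g 1<|g 1<|g 1<|m);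
 (g (-4)<|g (-2)<|g (-2)<|g 0<|h));
 (g (-2)<|
 g (-3)<|g (-3)<|g (-5)<|g (-4)<|g (-5)<|g (-4)<|h));
 (let h:=(let h:=(g 0<|g (-1)<|g (-1)<|g (-2)<|h);
 (g 0<|g 0<|g 0<|g 0<|h));
 (g 0<|g 0<|g 0<|g 0<|g 0<|g 0<|g 0<|h)));
 (let h:=(let h:=(let h:=(g 0<|g 0<|g 0<|g 0<|h);
 (g 0<|g 0<|g 0<|g 0<|h));
 (g 0<|g 0<|g 0<|g 0<|g 0<|g 0<|g 0<|h));
 (let h:=(g 0<|g 0<|g 0<|g 0<|
 g 0<|g 0<|g 0<|h);
 (f 0<|f 0<|f 0<|f 0<|f 0<|f 0<|f 0<|h))))<|k (let h:=(let h:=(let h:=(g 1<|g 0<|g (-2)<|g (-2)<|g (-2)<|g (-1)<|g (-1)<|m);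
 (g 2<|g 2<|g 2<|g 2<|g 3<|g 2<|h));
 (let h:=(g 0<|g 0<|g 0<|g 0<|g 0<|g 1<|g 1<|h);
 (g 0<|g 0<|g 0<|g 0<|g 0<|g 0<|h)));
 (let h:=(let h:=(g 0<|g 0<|g 0<|g 0<|g 0<|g 0<|g 0<|h);
 (g 0<|g 0<|g 0<|g 0<|g 0<|
 g 0<|h));
 (let h:=(g 0<|g 0<|g 0<|g 0<|g 0<|g 0<|g 0<|h);
 (f 0<|f 0<|f 0<|f 0<|f 0<|f 0<|h))))<|
 k (let h:=(let h:=(let h:=(g 2<|g 2<|g 3<|g 2<|g 3<|g 1<|m);
 (g (-1)<|
 g (-2)<|g (-1)<|g (-2)<|g 0<|g (-1)<|h));
 (let h:=(g 0<|g 0<|g 0<|g 0<|g 0<|g (-1)<|h);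
 (g 0<|g 0<|g 0<|g 0<|g 0<|h)));
 (let h:=(let h:=(g 0<|g 0<|g 0<|g 0<|g 0<|g 0<|h);
 (g 0<|g 0<|g 0<|g 0<|g 0<|h));
 (let h:=(g 0<|g 0<|g 0<|g 0<|g 0<|g 0<|h);
 (f 0<|f 0<|f 0<|f 0<|f 0<|h))))<|k (let h:=(let h:=(let h:=(g (-3)<|g (-1)<|g 0<|g 1<|g 1<|g 1<|m);
 (g 0<|g (-1)<|g (-3)<|g (-3)<|g (-3)<|h));
 (let h:=(g 0<|g 0<|g 1<|g 1<|g 1<|h);
 (g 0<|g 0<|
 g 0<|g 0<|g 0<|h)));
 (let h:=(let h:=(g 0<|g 0<|g 0<|g 0<|g 0<|g 0<|h);
 (g 0<|g 0<|g 0<|g 0<|g 0<|h));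
 (let h:=(g 0<|g 0<|g 0<|g 0<|g 0<|h);
 (f 0<|f 0<|f 0<|f 0<|f 0<|h))))<|k (let h:=(let h:=(let h:=(g (-6)<|g (-6)<|g (-4)<|g (-4)<|g (-2)<|g (-2)<|m);
 (g (-6)<|g (-8)<|g (-8)<|g (-8)<|g (-8)<|h));
 (let h:=(g 0<|g (-2)<|g (-2)<|g (-4)<|g (-4)<|g (-6)<|h);
 (g 0<|g 0<|g 0<|g 0<|g 0<|h)));
 (let h:=(let h:=(g 0<|g 0<|g 0<|g 0<|g 0<|g 0<|h);
 (g 0<|g 0<|g 0<|g 0<|
 g 0<|h));
 (let h:=(g 0<|g 0<|g 0<|g 0<|g 0<|h);
 (f 0<|f 0<|f 0<|f 0<|f 0<|h))))<|k (let h:=(let h:=(let h:=(g (-2)<|g (-1)<|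
 g (-2)<|g (-1)<|g (-1)<|m);
 (g 3<|g 2<|g 2<|g (-1)<|g 0<|h));
 (let h:=(g 0<|g 0<|g 1<|g 3<|g 2<|h);
 (g 0<|g 0<|g 0<|g 0<|h)));
 (let h:=(let h:=(g 0<|g 0<|g 0<|g 0<|g 0<|h);
 (g 0<|g 0<|g 0<|g 0<|g 0<|h));
 (let h:=(g 0<|g 0<|g 0<|g 0<|g 0<|h);
 (f 0<|
 f 0<|f 0<|f 0<|h))))<|k (let h:=(let h:=(let h:=(g 2<|
 g 2<|g 2<|g 1<|g 1<|m);
 (g 1<|g 2<|g 3<|g 2<|h));
 (let h:=(g (-2)<|g (-2)<|g (-2)<|g 0<|h);
 (g 0<|g 0<|g (-1)<|g (-1)<|h)));
 (let h:=(let h:=(g 0<|g 0<|g 0<|g 0<|h);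
 (g 0<|g 0<|g 0<|g 0<|h));
 (let h:=(g 0<|g 0<|g 0<|g 0<|h);
 (f 0<|f 0<|f 0<|f 0<|h))))<|k (f 0<|f 0<|f 0<|f 0<|f 0<|f 0<|f 0<|f 0<|f 0<|f 0<|f 0<|f 1<|f 1<|f 1<|f 0<|f 0<|f (-2)<|f (-2)<|f (-4)<|f (-4)<|f (-5)<|f (-4)<|f (-5)<|f (-3)<|f (-3)<|f (-2)<|f (-2)<|
 f (-1)<|f (-1)<|m)<|k (f 1<|f 2<|f 4<|f 6<|f 9<|f 12<|f 17<|f 21<|f 26<|f 30<|f 34<|f 37<|f 40<|f 41<|f 41<|f 40<|f 37<|f 34<|f 30<|f 26<|f 21<|f 17<|f 12<|f 9<|f 6<|f 4<|
 f 2<|f 1<|m)<|q)<|k (k (let h:=(let h:=(let h:=(let h:=(g 5<|g 3<|g 2<|g 1<|m);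
 (g 13<|g 11<|g 9<|g 7<|h));
 (let h:=(g 14<|g 15<|g 15<|g 14<|h);
 (g 7<|g 9<|g 11<|g 13<|h)));
 (let h:=(let h:=(g 1<|g 2<|g 3<|g 5<|h);
 (g 0<|g 0<|g 0<|g 0<|h));
 (g 0<|
 g 0<|g 0<|g 0<|g 0<|g 0<|g 0<|h)));
 (let h:=(let h:=(let h:=(g 0<|g 0<|g 0<|g 0<|h);
 (g 0<|g 0<|g 0<|g 0<|h));
 (let h:=(g 0<|g 0<|g 0<|g 0<|h);
 (g 0<|g 0<|g 0<|g 0<|h)));
 (let h:=(let h:=(g 0<|g 0<|g 0<|g 0<|h);
 (g 0<|g 0<|g 0<|g 0<|h));
 (f 0<|f 0<|f 0<|f 0<|f 0<|f 0<|f 0<|h))))<|k (let h:=(let h:=(let h:=(g (-2)<|g (-2)<|g (-2)<|g (-2)<|g (-2)<|g (-1)<|g (-1)<|m);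
 (g 0<|g 0<|g 0<|g (-1)<|g (-1)<|g (-1)<|h));
 (let h:=(g 0<|g 0<|g 0<|g 0<|g 0<|g 0<|g 0<|
 h);
 (g 0<|g 0<|g 0<|g 0<|g 0<|g 0<|h)));
 (let h:=(let h:=(g 0<|g 0<|g 0<|g 0<|g 0<|g 0<|g 0<|h);
 (g 0<|g 0<|g 0<|g 0<|g 0<|g 0<|h));
 (let h:=(g 0<|g 0<|g 0<|g 0<|g 0<|g 0<|h);
 (f 0<|f 0<|
 f 0<|f 0<|f 0<|f 0<|h))))<|k (let h:=(let h:=(let h:=(g 1<|g 1<|g 2<|g 1<|g 1<|g 1<|m);
 (g 0<|g 0<|g 0<|g 0<|g 1<|h));
 (let h:=(g 0<|g 0<|g 0<|g 0<|g 0<|g 0<|h);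
 (g 0<|g 0<|g 0<|g 0<|g 0<|h)));
 (let h:=(let h:=(g 0<|g 0<|g 0<|
 g 0<|g 0<|g 0<|h);
 (g 0<|g 0<|g 0<|g 0<|g 0<|h));
 (let h:=(g 0<|g 0<|g 0<|g 0<|g 0<|g 0<|h);
 (f 0<|f 0<|f 0<|f 0<|f 0<|h))))<|k (let h:=(let h:=(let h:=(g (-1)<|g (-1)<|g (-1)<|g (-1)<|g (-1)<|m);
 (g 0<|g 0<|g 0<|g 0<|g 0<|h));
 (let h:=(g 0<|g 0<|g 0<|g 0<|g 0<|h);
 (g 0<|g 0<|g 0<|g 0<|h)));
 (let h:=(let h:=(g 0<|g 0<|g 0<|g 0<|g 0<|h);
 (g 0<|
 g 0<|g 0<|g 0<|h));
 (let h:=(g 0<|g 0<|g 0<|g 0<|g 0<|h);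
 (f 0<|f 0<|f 0<|f 0<|h))))<|k (let h:=(let h:=(let h:=(g 1<|g 0<|g 0<|g (-1)<|g (-1)<|m);
 (g 0<|g 0<|g 0<|g 1<|h));
 (let h:=(g 0<|g 0<|g 0<|g 0<|h);
 (g 0<|g 0<|g 0<|g 0<|h)));
 (let h:=(let h:=(g 0<|g 0<|g 0<|g 0<|g 0<|h);
 (g 0<|g 0<|g 0<|g 0<|h));
 (let h:=(g 0<|g 0<|
 g 0<|g 0<|h);
 (f 0<|f 0<|f 0<|f 0<|h))))<|k m<|k (f 0<|f 0<|f 0<|f 0<|f 0<|
 f 0<|f 0<|f 0<|f 0<|f 0<|f 0<|f 0<|f 0<|f 0<|f 0<|f 0<|f 0<|f 0<|f 0<|f 0<|f 0<|f 0<|f 0<|f 0<|f 0<|f 1<|f 1<|f 1<|f 1<|f 1<|m)<|k (f 0<|f 0<|f 0<|f 0<|f 0<|f 0<|f 0<|f 0<|f 0<|f 0<|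
 f 0<|f 0<|f 0<|f 0<|f 0<|f 0<|f 0<|f 0<|f (-1)<|f (-1)<|f (-1)<|f (-2)<|f (-1)<|f (-1)<|f (-1)<|m)<|k (f 0<|f 0<|f 0<|f 0<|f 0<|f 0<|f 0<|f 0<|f 0<|f 0<|f 0<|f 1<|f 1<|f 2<|f 2<|f 2<|f 2<|f 2<|
 f 1<|f 1<|f 1<|m)<|k (f (-1)<|f (-2)<|f (-3)<|f (-5)<|f (-7)<|f (-9)<|f (-11)<|f (-13)<|f (-14)<|f (-15)<|f (-15)<|f (-14)<|f (-13)<|f (-11)<|f (-9)<|f (-7)<|f (-5)<|f (-3)<|f (-2)<|f (-1)<|m)<|q)<|k (k (let h:=(let h:=(let h:=(g 5<|g 5<|g 4<|g 3<|g 2<|g 1<|m);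
 (g 1<|
 g 2<|g 3<|g 4<|g 5<|g 5<|h));
 (let h:=(g 0<|g 0<|g 0<|g 0<|g 0<|g 0<|h);
 (g 0<|g 0<|g 0<|g 0<|g 0<|g 0<|h)));
 (let h:=(let h:=(g 0<|g 0<|g 0<|g 0<|g 0<|g 0<|h);
 (g 0<|g 0<|g 0<|g 0<|g 0<|g 0<|h));
 (let h:=(g 0<|g 0<|g 0<|g 0<|g 0<|g 0<|h);
 (f 0<|
 f 0<|f 0<|f 0<|f 0<|f 0<|h))))<|k (let h:=(let h:=(let h:=(g (-1)<|g (-1)<|g (-1)<|g (-1)<|g (-1)<|m);
 (g 0<|g 0<|g 0<|g 0<|g 0<|h));
 (let h:=(g 0<|g 0<|g 0<|g 0<|g 0<|h);
 (g 0<|g 0<|g 0<|g 0<|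
 g 0<|h)));
 (let h:=(let h:=(g 0<|g 0<|g 0<|g 0<|g 0<|h);
 (g 0<|g 0<|g 0<|g 0<|g 0<|h));
 (let h:=(g 0<|g 0<|g 0<|g 0<|g 0<|h);
 (f 0<|f 0<|f 0<|f 0<|f 0<|h))))<|k (let h:=(let h:=(let h:=(g 0<|g 1<|g 1<|g 1<|g 1<|m);
 (g 0<|g 0<|g 0<|g 0<|h));
 (let h:=(g 0<|g 0<|g 0<|g 0<|g 0<|h);
 (g 0<|g 0<|g 0<|g 0<|h)));
 (let h:=(let h:=(g 0<|g 0<|g 0<|g 0<|g 0<|
 h);
 (g 0<|g 0<|g 0<|g 0<|h));
 (let h:=(g 0<|g 0<|g 0<|g 0<|h);
 (f 0<|f 0<|f 0<|f 0<|h))))<|k (f 0<|f 0<|f 0<|f 0<|f 0<|f 0<|f 0<|f 0<|f 0<|f 0<|f 0<|f 0<|f 0<|f 0<|f 0<|f 0<|f 0<|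
 f 0<|f 0<|f 0<|f 0<|f 0<|f 0<|f 0<|f 0<|f 0<|f (-1)<|f (-1)<|f (-1)<|f (-1)<|f (-1)<|m)<|k (f 0<|f 0<|f 0<|f 0<|f 0<|f 0<|f 0<|f 0<|f 0<|f 0<|f 0<|f 0<|f 0<|f 0<|f 0<|f 0<|f 0<|f 0<|f 0<|
 f 0<|f 0<|f 0<|f 1<|f 1<|f 1<|f 1<|m)<|k (f 0<|f 0<|f 0<|f 0<|f 0<|f 0<|f 0<|f 0<|f 0<|f 0<|f 0<|f 0<|f 0<|f 0<|f 0<|f 0<|f 0<|f 0<|f 1<|f 2<|f 3<|f 4<|f 5<|f 5<|f 5<|f 5<|f 4<|f 3<|
 f 2<|f 1<|m)<|k (f 0<|f 0<|f 0<|f 0<|f 0<|f 0<|f 0<|f 0<|f 0<|f 0<|f 0<|f 0<|f 0<|f 0<|f 0<|f 0<|f 0<|f (-1)<|f (-1)<|f (-1)<|f (-1)<|f (-1)<|m)<|k (f 0<|f 0<|f 0<|f 0<|f 0<|f 0<|f 0<|f 0<|f 0<|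
 f 0<|f 0<|f 0<|f 0<|f 1<|f 1<|f 1<|f 1<|m)<|k (f 0<|f 0<|f 0<|f 0<|f 0<|f 0<|f 0<|f 0<|f (-1)<|f (-1)<|f (-1)<|f (-1)<|f (-1)<|m)<|k (f 1<|f 2<|f 3<|f 4<|f 5<|f 5<|f 5<|f 5<|f 4<|f 3<|f 2<|
 f 1<|m)<|q)<|q))

/-- the entries with a given sign and level -/
def cS (B s j : ℕ) (l : List (ℕ × ℕ × Fin 10)) : ℕ := List.rec (motive := fun _ => ℕ) 0
  (fun y _ ih => Bool.rec ih (Nat.add (Nat.pow B y.1) ih) (an (Nat.beq y.2.1 s) (Nat.beq y.2.2.val j))) l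

/-- the entries without sign -/
def cZ (B : ℕ) (l : List (ℕ × ℕ × Fin 10)) : ℕ := List.rec (motive := fun _ => ℕ) 0
  (fun y _ ih => Bool.rec (Nat.add (Nat.pow B y.1) ih) ih (orr (Nat.beq y.2.1 1) (Nat.beq y.2.1 2))) l

theorem cS_cons (B s : ℕ) (j : Fin 10) (y : ℕ × ℕ × Fin 10) (l : List (ℕ × ℕ × Fin 10)) :
    (cS B s j (y :: l) : ℤ) = (if y.2.1 = s ∧ y.2.2 = j then ((B ^ y.1 : ℕ) : ℤ) else 0) + cS B s j l := by
  show ((Bool.rec (cS B s j l) (B ^ y.1 + cS B s j l) (an (Nat.beq y.2.1 s) (Nat.beq y.2.2.val j)) : ℕ) : ℤ) = _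
  by_cases h : y.2.1 = s ∧ y.2.2 = j
  · rw [if_pos h, h.1, h.2, Nat.beq_refl, Nat.beq_refl, ← Nat.cast_add]
    rfl
  · rw [if_neg h, zero_add, show an (Nat.beq y.2.1 s) (Nat.beq y.2.2.val j) = false from Bool.eq_false_iff.2 fun e => by
      rw [an_eq, Bool.and_eq_true, Nat.beq_eq, Nat.beq_eq] at e
      exact h ⟨e.1, Fin.ext e.2⟩]

theorem sB_eq (B : ℕ) (u : Fin 10 → ℤ) (k : Fin 10) (l : List (ℕ × ℕ × Fin 10)) : sB B u k l =
    (∑ j : Fin 10, ((cS B 1 j l : ℤ) * (B * u j) + (cS B 2 j l : ℤ) * (((B : ℤ) - 1) * u k + u j))) + (cZ B l : ℤ) * (B * u k) := by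
  induction l with
  | nil => simp only [sB, show ∀ s j, cS B s j [] = 0 from fun _ _ => rfl, show cZ B [] = 0 from rfl, Nat.cast_zero, zero_mul,
      add_zero, Finset.sum_const_zero]
  | cons y l ih =>
    obtain ⟨e, s, j⟩ := y
    rw [sB, ih]
    simp only [cS_cons, add_mul, Finset.sum_add_distrib]
    rcases s with _ | _ | _ | s
    · rw [show cZ B ((e, 0, j) :: l) = B ^ e + cZ B l from rfl]
      simp only [tB, _root_.Nat.cast_pow, _root_.zero_ne_one, _root_.false_and, ↓ _root_.reduceIte, _root_.MulZeroClass.zero_mul, _root_.Finset.sum_const_zero, _root_.zero_add, _root_.OfNat.zero_ne_ofNat, _root_.Nat.cast_add]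
      ring
    · rw [show cZ B ((e, 0 + 1, j) :: l) = cZ B l from rfl]
      simp only [tB, _root_.Nat.cast_pow, _root_.zero_add, _root_.true_and, _root_.ite_mul, _root_.MulZeroClass.zero_mul, _root_.Finset.sum_ite_eq, _root_.Finset.mem_univ, ↓ _root_.reduceIte, _root_.OfNat.one_ne_ofNat, _root_.false_and, _root_.Finset.sum_const_zero]
      ring
    · rw [show cZ B ((e, 0 + 1 + 1, j) :: l) = cZ B l from rfl]
      simp only [tB, _root_.Nat.cast_pow, _root_.zero_add, _root_.Nat.reduceAdd, _root_.OfNat.ofNat_ne_one, _root_.false_and, ↓ _root_.reduceIte, _root_.MulZeroClass.zero_mul, _root_.Finset.sum_const_zero, _root_.true_and, _root_.ite_mul, _root_.Finset.sum_ite_eq, _root_.Finset.mem_univ]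
      ring
    · rw [show cZ B ((e, s + 1 + 1 + 1, j) :: l) = B ^ e + cZ B l from rfl]
      simp only [tB, _root_.Nat.cast_pow, _root_.Nat.add_eq_right, _root_.Nat.add_eq_zero_iff, _root_.one_ne_zero, _root_.and_false, _root_.and_self, _root_.false_and, ↓ _root_.reduceIte, _root_.MulZeroClass.zero_mul, _root_.Finset.sum_const_zero, _root_.zero_add, _root_.Nat.reduceEqDiff, _root_.Nat.cast_add]
      ring

theorem check : checkK dg 1 NN UU 1073741824 560 560 64 := by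
  refine ⟨by decide +kernel, by decide +kernel, by decide +kernel, by decide +kernel, fun i k => ?_⟩
  rw [sB_eq]
  revert i
  revert k
  decide +kernel

theorem hN : ∀ i j, i < j → posL (addL (NN i) (smL (-1) (NN j))) = true := by decide +kernel

theorem hU0 : ∀ i, posL (UU i 0) = true := by decide +kernel

end E8D7

/-- `E₈`, the parabolic subgroup of type `D₇` -/
theorem int_E8_D7 (K : Type u) [Field K] [Fintype K]
    [Fintype (PJ CoxeterMatrix.E₈.toCoxeterSystem hpE8.isCartan (TT chevE8 K) (XX chevE8 8 K) {j | j ≠ 0})]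
    {χ : ↥((chevE8).group K) → ℂ} (hχ : IsIrrCharacter ↥((chevE8).group K) χ)
    (h0 : ∑ g : PJ CoxeterMatrix.E₈.toCoxeterSystem hpE8.isCartan (TT chevE8 K) (XX chevE8 8 K) {j | j ≠ 0}, χ g ≠ 0)
    (g : ↥((chevE8).group K)) : ∃ k : ℤ, χ g = k :=
  int_chev_kron hpE8 K isCartan_cE8 E8D7.tab E8D7.ex1 E8D7.hdg E8D7.hne E8D7.check E8D7.hN E8D7.hU0 hχ h0 g

end Cfsg.Agent.H498.RP
end

private theorem dce_40e3d8611c38 : _root_.True := by
  try have : _root_.True := by simp only [_root_.Cfsg.Agent.H498.RP.evZ.eq_2]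
  try have : _root_.True := by simp only [_root_.Cfsg.Agent.H498.RP.gath.eq_2]
  try have : _root_.True := by simp only [_root_.Cfsg.Agent.H498.RP.dotL.eq_1]
  try have : _root_.True := by simp only [_root_.Cfsg.Agent.H498.RP.chkA.eq_3]
  try have : _root_.True := by simp only [_root_.Cfsg.Agent.H498.RP.eqZ.eq_def]
  try have : _root_.True := by simp only [_root_.Cfsg.Agent.H667.BR.Fl.eq_1]
  try have : _root_.True := by simp only [_root_.Cfsg.Agent.H498.RP.nl.eq_def]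
  try have : _root_.True := by simp only [_root_.Cfsg.Agent.H498.RP.sB.eq_2]
  try have : _root_.True := by simp only [_root_.Cfsg.Agent.H498.RP.nz.eq_3]
  try have : _root_.True := by simp only [_root_.Cfsg.Agent.H498.RP.nl.eq_1]
  try have : _root_.True := by simp only [_root_.Cfsg.Agent.H498.RP.eqZ.eq_1]
  try have : _root_.True := by simp only [_root_.Cfsg.Agent.H667.BR.Nm.congr_simp]
  try have : _root_.True := by simp only [_root_.Cfsg.Agent.H498.RP.sB.eq_def]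
  try have : _root_.True := by simp only [_root_.Cfsg.Agent.H667.BR.sg.eq_1]
  try have : _root_.True := by simp only [_root_.Cfsg.Agent.H498.RP.evL.eq_def]
  try have : _root_.True := by simp only [_root_.Cfsg.Agent.H498.RP.chkA.eq_def]
  try have : _root_.True := by simp only [_root_.Cfsg.Agent.H498.RP.nrm.eq_1]
  try have : _root_.True := by simp only [_root_.Cfsg.Agent.H498.RP.chkB.eq_1]
  try have : _root_.True := by simp only [_root_.Cfsg.Agent.H498.RP.allB.eq_def]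
  try have : _root_.True := by simp only [_root_.Cfsg.Agent.H498.RP.ZL.eq_2]
  try have : _root_.True := by simp only [_root_.Cfsg.Agent.H498.RP.nn.eq_def]
  try have : _root_.True := by simp only [_root_.Cfsg.Agent.H498.RP.zB.eq_def]
  try have : _root_.True := by simp only [_root_.Cfsg.Agent.H498.RP.nz.eq_def]
  try have : _root_.True := by simp only [_root_.Cfsg.Agent.H498.RP.nn.eq_3]
  try have : _root_.True := by simp only [_root_.Cfsg.Agent.H498.RP.dotL._sparseCasesOn_1.else_eq]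
  try have : _root_.True := by simp only [_root_.Cfsg.Agent.H498.RP.dnA.eq_1]
  try have : _root_.True := by simp only [_root_.Cfsg.Agent.H498.RP.zB.eq_2]
  try have : _root_.True := by simp only [_root_.Cfsg.Agent.H498.RP.nn.eq_2]
  try have : _root_.True := by simp only [_root_.Cfsg.Agent.H498.RP.ZL.eq_def]
  try have : _root_.True := by simp only [_root_.Cfsg.Agent.H498.RP.allB.eq_2]
  try have : _root_.True := by simp only [_root_.Cfsg.Agent.H498.RP.chkA.eq_2]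
  try have : _root_.True := by simp only [_root_.Cfsg.Agent.H498.RP.evL.eq_2]
  try have : _root_.True := by simp only [_root_.Cfsg.Agent.H498.RP.subAt.eq_1]
  try have : _root_.True := by simp only [_root_.Cfsg.Agent.H498.RP.allB.eq_1]
  try have : _root_.True := by simp only [_root_.Cfsg.Agent.H498.RP.zB.eq_1]
  try have : _root_.True := by simp only [_root_.Cfsg.Agent.H498.RP.dnA.eq_2]
  try have : _root_.True := by simp only [_root_.Cfsg.Agent.H498.RP.nn.eq_1]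
  try have : _root_.True := by simp only [_root_.Cfsg.Agent.H498.RP.subAt.eq_2]
  try have : _root_.True := by simp only [_root_.Cfsg.Agent.H498.RP.chkA.eq_1]
  try have : _root_.True := by simp only [_root_.Cfsg.Agent.H498.RP.evL.eq_1]
  try have : _root_.True := by simp only [_root_.Cfsg.Agent.H498.RP.nrm.eq_def]
  try have : _root_.True := by simp only [_root_.Cfsg.Agent.H498.RP.nl.eq_2]
  try have : _root_.True := by simp only [_root_.Cfsg.Agent.H498.RP.sB.eq_1]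
  try have : _root_.True := by simp only [_root_.Cfsg.Agent.H498.RP.eqE.eq_3]
  try have : _root_.True := by simp only [_root_.Cfsg.Agent.H498.RP.eqZ.eq_2]
  try have : _root_.True := by simp only [_root_.Cfsg.Agent.H498.RP.SL.eq_1]
  try have : _root_.True := by simp only [_root_.Cfsg.Agent.H498.RP.evZ.eq_def]
  try have : _root_.True := by simp only [_root_.Cfsg.Agent.H498.RP.eqZ._sparseCasesOn_1.else_eq]
  try have : _root_.True := by simp only [_root_.Cfsg.Agent.H498.RP.gath.eq_def]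
  try have : _root_.True := by simp only [_root_.Cfsg.Agent.H498.RP.gath.eq_1]
  try have : _root_.True := by simp only [_root_.Cfsg.Agent.H498.RP.dotL.eq_2]
  try have : _root_.True := by simp only [_root_.Cfsg.Agent.H498.RP.evZ.eq_1]
  try have : _root_.True := by simp only [_root_.Cfsg.Agent.H498.RP.SL.eq_def]
  try have : _root_.True := by simp only [_root_.Cfsg.Agent.H498.RP.subAt.eq_3]
  try have : _root_.True := by simp only [_root_.Cfsg.Agent.H498.RP.SL.eq_2]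
  try have : _root_.True := by simp only [_root_.Cfsg.Agent.H498.RP.dotL.eq_def]
  try have : _root_.True := by simp only [_root_.Cfsg.Agent.H498.RP.mkOrb.congr_simp]
  try have : _root_.True := by simp only [_root_.Cfsg.Agent.H498.RP.eqE.eq_def]
  try have : _root_.True := by simp only [_root_.Cfsg.Agent.H667.BR.Fl.congr_simp]
  try have : _root_.True := by simp only [_root_.Cfsg.Agent.H498.RP.subAt.eq_def]
  try have : _root_.True := by simp only [_root_.Cfsg.Agent.H498.RP.nrm.eq_2]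
  try have : _root_.True := by simp only [_root_.Cfsg.Agent.H667.BR.Rm.eq_1]
  try have : _root_.True := by simp only [_root_.Cfsg.Agent.H498.RP.ZL.eq_1]
  try have : _root_.True := by simp only [_root_.Cfsg.Agent.H498.RP.dnA.eq_def]
  try have : _root_.True := by simp only [_root_.Cfsg.Agent.H796.BR.Km.eq_1]
  try have : _root_.True := by simp only [_root_.Cfsg.Agent.H498.RP.nz.eq_1]
  try have : _root_.True := by simp only [_root_.Cfsg.Agent.H498.RP.nl.eq_3]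
  try have : _root_.True := by simp only [_root_.Cfsg.Agent.H498.RP.eqZ.eq_3]
  try have : _root_.True := by simp only [_root_.Cfsg.Agent.H498.RP.eqE.eq_2]
  try have : _root_.True := by simp only [_root_.Cfsg.Agent.H498.RP.eqE.eq_1]
  try have : _root_.True := by simp only [_root_.Cfsg.Agent.H498.RP.nz.eq_2]
  exact _root_.True.intro
end

-- part: H687/BR/CntPar
section
prune_inst 0x3005004002000004000240005cc084000192006b8001514406440606f7412d012f21e4e01e1a1930a26400018048100000390010000000048e00411900a084aa42421300b19527000fc0fa8f590c00008000000000000000000000041000014010000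
set_option linter.all false
open scoped Cfsg.Agent.FastGrp

/-!
# The numbers `cnt P (G ⧸ H)` (helper687, S4857)

`P` a Sylow `p`-subgroup of `G`.

* `cnt_zero` : it is `0` if `p` divides the index of `H`;
* `cnt_eq_index` : if `P ≤ H` it is the index in `N_G(P)` of `N_H(P) C_G(P)`;
* `cnt_dvd` : `cnt P (G ⧸ K)` divides `cnt P (G ⧸ H)` if `H ≤ K` and `p` does not divide the index of `H`;
* `cnt_dvd_pred` : `cnt P (G ⧸ H)` divides `p - 1` if `P` is cyclic and `p` does not divide the index of `H`;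
* `cnt_eq_of_two` : `cnt P (G ⧸ K) = cnt P (G ⧸ H)` if `K = H ∪ H s H` and `|K : H| = 1` modulo `p`;
* `rowQ_of_cosets` : the criterion.
-/

set_option autoImplicit false
set_option linter.unusedSectionVars false

namespace Cfsg.Agent.H687.BR

open Cfsg Subgroup Cfsg.Agent.H145.BR
open scoped Pointwise

universe u v

variable {G : Type u} [Group G] [Finite G] {p : ℕ} [hp : Fact p.Prime]

/-- the fixed points in `G ⧸ H` -/
theorem fixed_iff (P H : Subgroup G) (g : G) : (∀ x ∈ P, x • (g : G ⧸ H) = (g : G ⧸ H)) ↔ ∀ x ∈ P, g⁻¹ * x * g ∈ H := by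
  constructor
  · intro h x hx
    have h1 := h x hx
    have h2 : ((x * g : G) : G ⧸ H) = (g : G ⧸ H) := h1
    rw [eq_comm, QuotientGroup.eq] at h2
    rwa [← mul_assoc] at h2
  · intro h x hx
    show ((x * g : G) : G ⧸ H) = (g : G ⧸ H)
    rw [eq_comm, QuotientGroup.eq, ← mul_assoc]
    exact h x hx

theorem cnt_zero (P : Sylow p G) (H : Subgroup G) (h : p ∣ H.index) : cnt (P : Subgroup G) (G ⧸ H) = 0 := by
  have hE : IsEmpty {x : G ⧸ H // ∀ g ∈ (P : Subgroup G), g • x = x} := by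
    refine ⟨fun x => ?_⟩
    obtain ⟨x, hx⟩ := x
    obtain ⟨g, rfl⟩ := QuotientGroup.mk_surjective x
    have h1 : (P : Subgroup G) ≤ MulAction.stabilizer G (g : G ⧸ H) := fun y hy => hx y hy
    have h2 : (MulAction.stabilizer G (g : G ⧸ H)).index = H.index := by
      rw [MulAction.index_stabilizer, MulAction.orbit_eq_univ, Set.ncard_univ]
      rfl
    exact P.not_dvd_index ((h2 ▸ h).trans (Subgroup.index_dvd_of_le h1))
  unfold cnt
  have : IsEmpty (Quot fun x y : {x : G ⧸ H // ∀ g ∈ (P : Subgroup G), g • x = x} =>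
      ∃ c ∈ centralizer ((P : Subgroup G) : Set G), c • x.1 = y.1) := ⟨fun q => by
        induction q using Quot.inductionOn with
        | _ x => exact hE.false x⟩
  exact Nat.card_of_isEmpty

/-- the relation defining `cnt` is an equivalence -/
theorem quot_eq_iff {P : Subgroup G} {X : Type v} [MulAction G X] (x y : {x : X // ∀ g ∈ P, g • x = x}) :
    (Quot.mk (fun x y : {x : X // ∀ g ∈ P, g • x = x} => ∃ c ∈ centralizer (P : Set G), c • x.1 = y.1) x =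
      Quot.mk _ y) ↔ ∃ c ∈ centralizer (P : Set G), c • x.1 = y.1 := by
  constructor
  · intro h
    have h1 := Quot.eqvGen_exact h
    have he : Equivalence (fun x y : {x : X // ∀ g ∈ P, g • x = x} => ∃ c ∈ centralizer (P : Set G), c • x.1 = y.1) := by
      refine ⟨fun x => ⟨1, one_mem _, one_smul _ _⟩, ?_, ?_⟩
      · rintro x y ⟨c, hc, e⟩
        exact ⟨c⁻¹, inv_mem hc, by rw [← e, inv_smul_smul]⟩
      · rintro x y z ⟨c, hc, e⟩ ⟨d, hd, e'⟩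
        exact ⟨d * c, mul_mem hd hc, by rw [mul_smul, e, e']⟩
    exact (he.eqvGen_iff).1 h1
  · intro h
    exact Quot.sound h

/-- the subgroup `N_H(P) C_G(P)` of `N_G(P)` -/
def DD (P H : Subgroup G) : Subgroup (normalizer (P : Set G)) :=
  H.subgroupOf (normalizer (P : Set G)) ⊔ (centralizer (P : Set G)).subgroupOf (normalizer (P : Set G))

instance instNormalCent (P : Subgroup G) : ((centralizer (P : Set G)).subgroupOf (normalizer (P : Set G))).Normal := by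
  rw [← normalizerMonoidHom_ker]
  infer_instance

theorem mem_DD {P H : Subgroup G} {n : normalizer (P : Set G)} :
    n ∈ DD P H ↔ ∃ k ∈ H, ∃ c ∈ centralizer (P : Set G), (n : G) = k * c ∧ k ∈ normalizer (P : Set G) := by
  unfold DD
  rw [← SetLike.mem_coe, Subgroup.mul_normal, Set.mem_mul]
  constructor
  · rintro ⟨a, ha, b, hb, rfl⟩
    exact ⟨a, ha, b, hb, rfl, a.2⟩
  · rintro ⟨k, hk, c, hc, e, hkN⟩
    have hcN : c ∈ normalizer (P : Set G) := by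
      have : c = k⁻¹ * n := by rw [e]; group
      rw [this]
      exact mul_mem (inv_mem hkN) n.2
    exact ⟨⟨k, hkN⟩, hk, ⟨c, hcN⟩, hc, Subtype.ext e.symm⟩

theorem cent_le_norm (P : Subgroup G) : centralizer (P : Set G) ≤ normalizer (P : Set G) :=
  Subgroup.centralizer_le_normalizer _

/-- two Sylow subgroups of `G` contained in `H` are conjugate in `H` -/
theorem exists_conj (P : Sylow p G) {H : Subgroup G} (hPH : (P : Subgroup G) ≤ H) {g : G}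
    (hg : ∀ x ∈ (P : Subgroup G), g⁻¹ * x * g ∈ H) : ∃ k ∈ H, g * k ∈ normalizer ((P : Subgroup G) : Set G) := by
  have h1 : ((g⁻¹ • P : Sylow p G) : Subgroup G) ≤ H := by
    rw [Sylow.coe_subgroup_smul]
    intro y hy
    obtain ⟨x, hx, rfl⟩ := hy
    have := hg x hx
    simpa only [MulAut.conj_apply, _root_.map_inv, _root_.MulDistribMulAction.toMonoidEnd_apply, _root_.MulDistribMulAction.toMonoidHom_apply, _root_.MulAut.smul_def, _root_.MulAut.inv_apply, _root_.MulAut.conj_symm_apply] using this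
  obtain ⟨k, hk⟩ := MulAction.exists_smul_eq H ((g⁻¹ • P : Sylow p G).subtype h1) (P.subtype hPH)
  refine ⟨(k : G)⁻¹, inv_mem k.2, ?_⟩
  have h2 : ((k : G) * g⁻¹) • P = P := by
    apply Sylow.ext
    rw [mul_smul, Sylow.coe_subgroup_smul]
    have h3 := congrArg (fun Q : Sylow p H => (Q : Subgroup H).map H.subtype) hk
    have h4 : ((P.subtype hPH : Sylow p H) : Subgroup H).map H.subtype = (P : Subgroup G) := by
      rw [Sylow.coe_subtype, Subgroup.subgroupOf_map_subtype, inf_eq_left.2 hPH]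
    rw [h4] at h3
    rw [← h3]
    ext y
    constructor
    · rintro ⟨z, hz, rfl⟩
      refine ⟨k * ⟨z, h1 hz⟩ * k⁻¹, ?_, by simp only [MulAut.conj_apply, _root_.Subgroup.subtype_apply, _root_.Subgroup.coe_mul, _root_.InvMemClass.coe_inv, _root_.MulDistribMulAction.toMonoidEnd_apply, _root_.MulDistribMulAction.toMonoidHom_apply, _root_.MulAut.smul_def]⟩
      rw [Sylow.coe_subgroup_smul]
      exact ⟨⟨z, h1 hz⟩, hz, by simp only [MulAut.conj_apply, _root_.MulDistribMulAction.toMonoidEnd_apply, _root_.MulDistribMulAction.toMonoidHom_apply, _root_.MulAut.smul_def]⟩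
    · rintro ⟨z, hz, rfl⟩
      rw [Sylow.coe_subgroup_smul] at hz
      obtain ⟨w, hw, rfl⟩ := hz
      exact ⟨w, hw, by simp only [MulAut.conj_apply, _root_.MulDistribMulAction.toMonoidEnd_apply, _root_.MulDistribMulAction.toMonoidHom_apply, _root_.MulAut.smul_def, _root_.Subgroup.subtype_apply, _root_.Subgroup.coe_mul, _root_.InvMemClass.coe_inv]⟩
  have h5 : (k : G) * g⁻¹ ∈ normalizer ((P : Subgroup G) : Set G) := by
    have := Sylow.smul_eq_iff_mem_normalizer.1 h2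
    exact this
  have h6 : g * (k : G)⁻¹ = ((k : G) * g⁻¹)⁻¹ := by group
  rw [h6]
  exact inv_mem h5

theorem cnt_eq_index (P : Sylow p G) {H : Subgroup G} (hPH : (P : Subgroup G) ≤ H) :
    cnt (P : Subgroup G) (G ⧸ H) = (DD (P : Subgroup G) H).index := by
  unfold cnt Subgroup.index
  set N := normalizer ((P : Subgroup G) : Set G) with hN
  set r := fun x y : {x : G ⧸ H // ∀ g ∈ (P : Subgroup G), g • x = x} =>
      ∃ c ∈ centralizer ((P : Subgroup G) : Set G), c • x.1 = y.1 with hr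
  have hfix : ∀ n : N, ∀ x ∈ (P : Subgroup G), x • ((n : G) : G ⧸ H) = ((n : G) : G ⧸ H) := by
    intro n
    rw [fixed_iff]
    intro x hx
    apply hPH
    have h1 : (n : G)⁻¹ ∈ N := inv_mem n.2
    have := (Subgroup.mem_normalizer_iff.1 h1 x).1 hx
    simpa only [_root_.inv_inv] using this
  -- the map
  let f : N → Quot r := fun n => Quot.mk r ⟨((n : G) : G ⧸ H), hfix n⟩
  have hf : ∀ a b : N, f a = f b ↔ a⁻¹ * b ∈ DD (P : Subgroup G) H := by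
    intro a b
    show Quot.mk r _ = Quot.mk r _ ↔ _
    rw [quot_eq_iff, mem_DD]
    constructor
    · rintro ⟨c, hc, e⟩
      have e1 : ((c * a : G) : G ⧸ H) = ((b : G) : G ⧸ H) := e
      rw [eq_comm, QuotientGroup.eq] at e1
      -- `b⁻¹ c a ∈ H`
      have hcN : c ∈ N := cent_le_norm _ hc
      have h2 : (b : G)⁻¹ * (c * a) ∈ N := mul_mem (inv_mem b.2) (mul_mem hcN a.2)
      refine ⟨(a : G)⁻¹ * c⁻¹ * b, ?_, (b : G)⁻¹ * c * b, ?_, ?_, ?_⟩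
      · have : (a : G)⁻¹ * c⁻¹ * b = ((b : G)⁻¹ * (c * a))⁻¹ := by group
        rw [this]
        exact inv_mem e1
      · have h3 := (instNormalCent (P : Subgroup G)).conj_mem ⟨c, hcN⟩ hc (b⁻¹)
        have h4 : (((b⁻¹ * ⟨c, hcN⟩ * b⁻¹⁻¹ : N) : G)) ∈ centralizer ((P : Subgroup G) : Set G) := h3
        simpa only [_root_.Sylow.coe_coe, _root_.inv_inv, _root_.Subgroup.coe_mul, _root_.InvMemClass.coe_inv] using h4
      · show ((a⁻¹ * b : N) : G) = _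
        push_cast
        group
      · have : (a : G)⁻¹ * c⁻¹ * b = ((b : G)⁻¹ * (c * a))⁻¹ := by group
        rw [this]
        exact inv_mem h2
    · rintro ⟨k, hk, c, hc, e, hkN⟩
      have e' : (b : G) = a * k * c := by
        have : (a : G)⁻¹ * b = k * c := e
        rw [mul_assoc, ← this]
        group
      have hcN : c ∈ N := cent_le_norm _ hc
      refine ⟨((a : G) * k) * c * ((a : G) * k)⁻¹, ?_, ?_⟩
      · have h3 := (instNormalCent (P : Subgroup G)).conj_mem ⟨c, hcN⟩ hc (a * ⟨k, hkN⟩)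
        exact h3
      · show ((((a : G) * k) * c * ((a : G) * k)⁻¹ * a : G) : G ⧸ H) = ((b : G) : G ⧸ H)
        rw [eq_comm, QuotientGroup.eq, e']
        have : ((a : G) * k * c)⁻¹ * (a * k * c * (a * k)⁻¹ * a) = k⁻¹ := by group
        rw [this]
        exact inv_mem hk
  symm
  refine Nat.card_eq_of_bijective (fun q : N ⧸ DD (P : Subgroup G) H => Quotient.liftOn' q f (fun a b h => ?_)) ⟨?_, ?_⟩
  · rw [QuotientGroup.leftRel_apply] at h
    exact (hf a b).2 h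
  · intro a b
    induction a using QuotientGroup.induction_on with
    | _ a =>
      induction b using QuotientGroup.induction_on with
      | _ b =>
        intro h
        exact QuotientGroup.eq.2 ((hf a b).1 h)
  · intro y
    induction y using Quot.inductionOn with
    | _ y =>
      obtain ⟨y, hy⟩ := y
      obtain ⟨g, rfl⟩ := QuotientGroup.mk_surjective y
      obtain ⟨k, hk, hgk⟩ := exists_conj P hPH ((fixed_iff _ _ g).1 hy)
      refine ⟨((⟨g * k, hgk⟩ : N) : N ⧸ DD (P : Subgroup G) H), ?_⟩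
      show Quot.mk r _ = Quot.mk r _
      congr 1
      apply Subtype.ext
      show ((g * k : G) : G ⧸ H) = (g : G ⧸ H)
      rw [eq_comm, QuotientGroup.eq]
      simpa using hk

/-- `cnt` does not depend on the Sylow subgroup -/
theorem cnt_conj (P Q : Sylow p G) (X : Type v) [MulAction G X] : cnt (P : Subgroup G) X = cnt (Q : Subgroup G) X := by
  obtain ⟨g, rfl⟩ := MulAction.exists_smul_eq G P Q
  unfold cnt
  have hmem : ∀ y : G, y ∈ ((g • P : Sylow p G) : Subgroup G) ↔ g⁻¹ * y * g ∈ (P : Subgroup G) := by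
    intro y
    rw [Sylow.coe_subgroup_smul]
    constructor
    · rintro ⟨x, hx, rfl⟩
      show g⁻¹ * (g * x * g⁻¹) * g ∈ (P : Subgroup G)
      have : g⁻¹ * (g * x * g⁻¹) * g = x := by group
      rw [this]
      exact hx
    · intro h
      exact ⟨_, h, by simp only [MulAut.conj_apply, mul_assoc, _root_.MulDistribMulAction.toMonoidEnd_apply, _root_.MulDistribMulAction.toMonoidHom_apply, _root_.smul_mul', _root_.smul_inv', _root_.MulAut.smul_def, _root_.mul_inv_cancel, _root_.mul_one, _root_.inv_mul_cancel, _root_.inv_mul_cancel_left]⟩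
  have hmem' : ∀ x : G, x ∈ (P : Subgroup G) → g * x * g⁻¹ ∈ ((g • P : Sylow p G) : Subgroup G) := by
    intro x hx
    refine (hmem _).2 ?_
    have : g⁻¹ * (g * x * g⁻¹) * g = x := by group
    rw [this]
    exact hx
  have hcen : ∀ c : G, c ∈ centralizer (((g • P : Sylow p G) : Subgroup G) : Set G) ↔
      g⁻¹ * c * g ∈ centralizer ((P : Subgroup G) : Set G) := by
    intro c
    rw [mem_centralizer_iff, mem_centralizer_iff]
    constructor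
    · intro h x hx
      have h1 := h (g * x * g⁻¹) (hmem' x hx)
      have h2 : g⁻¹ * (g * x * g⁻¹ * c) * g = g⁻¹ * (c * (g * x * g⁻¹)) * g := by rw [h1]
      have e1 : g⁻¹ * (g * x * g⁻¹ * c) * g = x * (g⁻¹ * c * g) := by group
      have e2 : g⁻¹ * (c * (g * x * g⁻¹)) * g = g⁻¹ * c * g * x := by group
      rw [e1, e2] at h2
      exact h2
    · intro h y hy
      have h1 := h _ ((hmem y).1 hy)
      have h2 : g * (g⁻¹ * y * g * (g⁻¹ * c * g)) * g⁻¹ = g * (g⁻¹ * c * g * (g⁻¹ * y * g)) * g⁻¹ := by rw [h1]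
      have e1 : g * (g⁻¹ * y * g * (g⁻¹ * c * g)) * g⁻¹ = y * c := by group
      have e2 : g * (g⁻¹ * c * g * (g⁻¹ * y * g)) * g⁻¹ = c * y := by group
      rw [e1, e2] at h2
      exact h2
  let e : {x : X // ∀ y ∈ (P : Subgroup G), y • x = x} ≃
      {x : X // ∀ y ∈ ((g • P : Sylow p G) : Subgroup G), y • x = x} :=
    { toFun := fun x => ⟨g • x.1, fun y hy => by
        have h1 := x.2 _ ((hmem y).1 hy)
        have : y • g • x.1 = g • (g⁻¹ * y * g) • x.1 := by rw [smul_smul, smul_smul]; congr 1; group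
        rw [this, h1]⟩
      invFun := fun x => ⟨g⁻¹ • x.1, fun y hy => by
        have h1 := x.2 (g * y * g⁻¹) (hmem' y hy)
        have : y • g⁻¹ • x.1 = g⁻¹ • (g * y * g⁻¹) • x.1 := by rw [smul_smul, smul_smul]; congr 1; group
        rw [this, h1]⟩
      left_inv := fun x => Subtype.ext (inv_smul_smul g x.1)
      right_inv := fun x => Subtype.ext (smul_inv_smul g x.1) }
  refine Nat.card_congr (Quot.congr e ?_)
  intro x y
  constructor
  · rintro ⟨c, hc, h⟩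
    refine ⟨g * c * g⁻¹, (hcen _).2 (by simpa [mul_assoc] using hc), ?_⟩
    show (g * c * g⁻¹) • g • x.1 = g • y.1
    rw [← h, smul_smul, smul_smul]
    congr 1
    group
  · rintro ⟨c, hc, h⟩
    refine ⟨g⁻¹ * c * g, (hcen _).1 hc, ?_⟩
    have h' : c • g • x.1 = g • y.1 := h
    have : (g⁻¹ * c * g) • x.1 = g⁻¹ • c • g • x.1 := by rw [mul_smul, mul_smul]
    rw [this, h', inv_smul_smul]

theorem exists_sylow_le (H : Subgroup G) (h : ¬ p ∣ H.index) : ∃ P : Sylow p G, (P : Subgroup G) ≤ H := by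
  obtain ⟨Q⟩ : Nonempty (Sylow p H) := inferInstance
  obtain ⟨P, hP⟩ := Sylow.exists_comap_subtype_eq Q
  refine ⟨P, ?_⟩
  -- the orders agree
  have h1 : Nat.card (P : Subgroup G) = Nat.card Q := by
    rw [P.card_eq_multiplicity, Q.card_eq_multiplicity]
    congr 1
    rw [← H.card_mul_index, Nat.factorization_mul Nat.card_pos.ne' H.index_ne_zero_of_finite, Finsupp.add_apply,
      Nat.factorization_eq_zero_of_not_dvd h, add_zero]
  have h2 : (Q : Subgroup H).map H.subtype ≤ (P : Subgroup G) := by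
    rw [← hP]
    exact Subgroup.map_comap_le _ _
  have h3 : (Q : Subgroup H).map H.subtype = (P : Subgroup G) := by
    apply Subgroup.eq_of_le_of_card_ge h2
    rw [h1, Nat.card_congr ((Q : Subgroup H).equivMapOfInjective H.subtype H.subtype_injective).toEquiv.symm]
  rw [← h3]
  exact Subgroup.map_subtype_le _

theorem DD_mono (P : Subgroup G) {H K : Subgroup G} (h : H ≤ K) : DD P H ≤ DD P K :=
  sup_le_sup_right (fun _ hx => h hx) _

/-- **Monotonicity.** -/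
theorem cnt_dvd (P : Sylow p G) {H K : Subgroup G} (hHK : H ≤ K) (h : ¬ p ∣ H.index) :
    cnt (P : Subgroup G) (G ⧸ K) ∣ cnt (P : Subgroup G) (G ⧸ H) := by
  obtain ⟨Q, hQ⟩ := exists_sylow_le H h
  rw [cnt_conj P Q, cnt_conj P Q, cnt_eq_index Q hQ, cnt_eq_index Q (hQ.trans hHK)]
  exact Subgroup.index_dvd_of_le (DD_mono _ hHK)

theorem cnt_pos (P : Sylow p G) {H : Subgroup G} (h : ¬ p ∣ H.index) : 0 < cnt (P : Subgroup G) (G ⧸ H) := by
  obtain ⟨Q, hQ⟩ := exists_sylow_le H h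
  rw [cnt_conj P Q, cnt_eq_index Q hQ]
  exact Nat.pos_of_ne_zero (Subgroup.index_ne_zero_of_finite)

/-- **`cnt P (G ⧸ H)` divides `p - 1`.** -/
theorem cnt_dvd_pred (P : Sylow p G) (hP : IsCyclic P) {H : Subgroup G} (h : ¬ p ∣ H.index) :
    cnt (P : Subgroup G) (G ⧸ H) ∣ p - 1 := by
  obtain ⟨Q, hQ⟩ := exists_sylow_le H h
  have hQc : IsCyclic Q := isCyclic_of_surjective _ (Sylow.equiv P Q).surjective
  rw [cnt_conj P Q, cnt_eq_index Q hQ]
  have h1 : (DD (Q : Subgroup G) H).index ∣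
      (centralizer ((Q : Subgroup G) : Set G)).relIndex (normalizer ((Q : Subgroup G) : Set G)) :=
    Subgroup.index_dvd_of_le le_sup_right
  refine h1.trans ?_
  have hcomm : IsMulCommutative Q := IsCyclic.isMulCommutative (α := Q)
  have h2 := SmallSimple.BurnsideNC.coprime_relIndex Q hcomm
  have h3 := SmallSimple.BurnsideNC.relIndex_dvd_card_mulAut (Q : Subgroup G)
  have h4 := hQc.card_mulAut
  obtain ⟨n, hn⟩ := (IsPGroup.iff_card.1 Q.isPGroup')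
  rw [h4, hn] at h3
  rcases n with _ | n
  · rw [pow_zero, Nat.totient_one] at h3
    exact h3.trans (one_dvd _)
  · rw [Nat.totient_prime_pow_succ hp.out] at h3
    exact (Nat.Coprime.pow_right n h2.symm).dvd_of_dvd_mul_left h3

/-- **Equality.** -/
theorem cnt_eq_of_two (P : Sylow p G) {H K : Subgroup G} (hHK : H ≤ K) (h : ¬ p ∣ H.index) (s : G)
    (hs : ∀ g ∈ K, g ∈ H ∨ ∃ a ∈ H, ∃ b ∈ H, g = a * s * b) (h1 : H.relIndex K ≡ 1 [MOD p]) :
    cnt (P : Subgroup G) (G ⧸ K) = cnt (P : Subgroup G) (G ⧸ H) := by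
  obtain ⟨Q, hQ⟩ := exists_sylow_le H h
  rw [cnt_conj P Q, cnt_conj P Q, cnt_eq_index Q hQ, cnt_eq_index Q (hQ.trans hHK)]
  -- `N_K(Q) ≤ H`
  have key : ∀ g ∈ K, g ∈ normalizer ((Q : Subgroup G) : Set G) → g ∈ H := by
    intro g hgK hgN
    by_contra hgH
    -- the action of `H` on the cosets
    let X := {x : G ⧸ H // x ≠ ((1 : G) : G ⧸ H) ∧ ∃ g ∈ K, x = (g : G ⧸ H)}
    let act : MulAction H X :=
      { smul := fun a x => ⟨(a : G) • x.1, by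
          refine ⟨fun h2 => x.2.1 ?_, ?_⟩
          · have h3 : x.1 = (a : G)⁻¹ • ((1 : G) : G ⧸ H) := eq_inv_smul_iff.2 h2
            rw [h3]
            show (((a : G)⁻¹ * 1 : G) : G ⧸ H) = ((1 : G) : G ⧸ H)
            rw [QuotientGroup.eq]
            simpa using a.2
          · obtain ⟨y, hy, e⟩ := x.2.2
            exact ⟨a * y, mul_mem (hHK a.2) hy, by rw [e]; rfl⟩⟩
        one_smul := fun x => Subtype.ext (one_smul G x.1)
        mul_smul := fun a b x => Subtype.ext (mul_smul (a : G) (b : G) x.1) }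
    have hsm : ∀ (a : H) (x : X), ((a • x : X) : G ⧸ H) = (a : G) • x.1 := fun _ _ => rfl
    have hx0 : ((g : G) : G ⧸ H) ≠ ((1 : G) : G ⧸ H) := by
      intro h2
      rw [eq_comm, QuotientGroup.eq] at h2
      exact hgH (by simpa using h2)
    let x₀ : X := ⟨(g : G ⧸ H), hx0, g, hgK, rfl⟩
    -- transitivity
    have hrep : ∀ y ∈ K, (y : G ⧸ H) ≠ ((1 : G) : G ⧸ H) → ∃ a ∈ H, (y : G ⧸ H) = ((a * s : G) : G ⧸ H) := by
      intro y hy hne
      rcases hs y hy with h2 | ⟨a, ha, b, hb, rfl⟩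
      · exfalso
        apply hne
        rw [eq_comm, QuotientGroup.eq]
        simpa using h2
      · refine ⟨a, ha, ?_⟩
        rw [eq_comm, QuotientGroup.eq]
        have : (a * s)⁻¹ * (a * s * b) = b := by group
        rwa [this]
    have htrans : ∀ x : X, ∃ a : H, a • x₀ = x := by
      rintro ⟨x, hx, y, hy, rfl⟩
      obtain ⟨a, ha, e⟩ := hrep y hy hx
      obtain ⟨b, hb, e'⟩ := hrep g hgK hx0
      refine ⟨⟨a, ha⟩ * ⟨b, hb⟩⁻¹, Subtype.ext ?_⟩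
      rw [hsm]
      show (a * b⁻¹) • (g : G ⧸ H) = (y : G ⧸ H)
      rw [e', e]
      show ((a * b⁻¹ * (b * s) : G) : G ⧸ H) = ((a * s : G) : G ⧸ H)
      congr 1
      group
    have hfin : Finite X := inferInstance
    have horb : MulAction.orbit H x₀ = Set.univ := by
      ext x
      simp only [Set.mem_univ, iff_true]
      obtain ⟨a, ha⟩ := htrans x
      exact ⟨a, ha⟩
    have hidx : (MulAction.stabilizer H x₀).index = Nat.card X := by
      rw [MulAction.index_stabilizer, horb, Set.ncard_univ]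
    -- the number of points
    have hcard : Nat.card X + 1 = H.relIndex K := by
      have e1 : H.relIndex K = Nat.card {x : G ⧸ H // ∃ g ∈ K, x = (g : G ⧸ H)} := by
        rw [Subgroup.relIndex, Subgroup.index]
        refine Nat.card_eq_of_bijective (fun q : K ⧸ H.subgroupOf K => Quotient.liftOn' q
          (fun a : K => (⟨((a : G) : G ⧸ H), a, a.2, rfl⟩ : {x : G ⧸ H // ∃ g ∈ K, x = (g : G ⧸ H)})) (fun a b h => ?_))
          ⟨?_, ?_⟩
        · rw [QuotientGroup.leftRel_apply] at h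
          exact Subtype.ext (QuotientGroup.eq.2 h)
        · intro a b
          induction a using QuotientGroup.induction_on with
          | _ a =>
            induction b using QuotientGroup.induction_on with
            | _ b =>
              intro h
              have h2 := congrArg Subtype.val h
              have h3 : ((a : G) : G ⧸ H) = ((b : G) : G ⧸ H) := h2
              rw [QuotientGroup.eq] at h3
              exact QuotientGroup.eq.2 h3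
        · rintro ⟨x, y, hy, rfl⟩
          exact ⟨((⟨y, hy⟩ : K) : K ⧸ H.subgroupOf K), rfl⟩
      rw [e1]
      classical
      have := Fintype.ofFinite (G ⧸ H)
      have e2 : Nat.card X = (Finset.univ.filter fun x : G ⧸ H => x ≠ ((1 : G) : G ⧸ H) ∧
          ∃ g ∈ K, x = (g : G ⧸ H)).card := by
        rw [Nat.card_eq_fintype_card, Fintype.card_subtype]
      have e3 : Nat.card {x : G ⧸ H // ∃ g ∈ K, x = (g : G ⧸ H)} =
          (Finset.univ.filter fun x : G ⧸ H => ∃ g ∈ K, x = (g : G ⧸ H)).card := by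
        rw [Nat.card_eq_fintype_card, Fintype.card_subtype]
      rw [e2, e3]
      have e4 : (Finset.univ.filter fun x : G ⧸ H => ∃ g ∈ K, x = (g : G ⧸ H)) =
          insert ((1 : G) : G ⧸ H) (Finset.univ.filter fun x : G ⧸ H => x ≠ ((1 : G) : G ⧸ H) ∧
            ∃ g ∈ K, x = (g : G ⧸ H)) := by
        ext x
        simp only [Finset.mem_filter, Finset.mem_univ, true_and, Finset.mem_insert]
        constructor
        · intro hx
          by_cases hx1 : x = ((1 : G) : G ⧸ H)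
          · exact Or.inl hx1
          · exact Or.inr ⟨hx1, hx⟩
        · rintro (rfl | hx)
          · exact ⟨1, one_mem _, rfl⟩
          · exact hx.2
      rw [e4, Finset.card_insert_of_notMem]
      simp only [_root_.ne_eq, _root_.Finset.mem_filter, _root_.Finset.mem_univ, _root_.not_true_eq_false, _root_.false_and, _root_.and_false, _root_.not_false_eq_true]
    have hdvd : p ∣ Nat.card X := by
      rw [← hcard] at h1
      have h2 : Nat.card X + 1 ≡ 0 + 1 [MOD p] := by simpa only [_root_.zero_add, _root_.Nat.add_modEq_right_iff] using h1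
      exact (Nat.modEq_zero_iff_dvd).1 (Nat.ModEq.add_right_cancel' 1 h2)
    -- `Q` fixes the point
    have hle : (Q : Subgroup G).subgroupOf H ≤ MulAction.stabilizer H x₀ := by
      intro y hy
      apply Subtype.ext
      rw [hsm]
      show ((y : G) * g : G ⧸ H) = (g : G ⧸ H)
      have h5 : (g⁻¹ * (y : G) * g) ∈ (Q : Subgroup G) := by
        have := (Subgroup.mem_normalizer_iff.1 (inv_mem hgN) (y : G)).1 hy
        simpa using this
      show (((y : G) * g : G) : G ⧸ H) = (g : G ⧸ H)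
      rw [eq_comm, QuotientGroup.eq, ← mul_assoc]
      exact hQ h5
    have h6 : (MulAction.stabilizer H x₀).index ∣ ((Q : Subgroup G).subgroupOf H).index := Subgroup.index_dvd_of_le hle
    have h7 : ¬ p ∣ ((Q : Subgroup G).subgroupOf H).index := by
      intro h8
      refine Q.not_dvd_index (h8.trans ?_)
      rw [← Subgroup.relIndex_mul_index hQ]
      exact Dvd.intro _ rfl
    exact h7 ((hidx ▸ hdvd).trans h6)
  congr 1
  apply le_antisymm _ (DD_mono _ hHK)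
  refine sup_le ?_ le_sup_right
  intro n hn
  exact le_sup_left (α := Subgroup (normalizer ((Q : Subgroup G) : Set G))) (key n hn n.2)

/-- **The criterion.** -/
theorem rowQ_of_cosets (P : Sylow p G) {ι : Type*} (s : Finset ι) (H : ι → Subgroup G) (ε : ι → ℤ)
    (hQ : ∀ [Fintype G] (χ : IrrCharacter G), classInner (gpc G s (fun i => G ⧸ H i) ε) (χ : G → ℂ) ≠ 0 →
      ∀ g, ∃ k : ℚ, (χ : G → ℂ) g = k)
    (h : ¬ (∑ i ∈ s, ε i * (cnt (P : Subgroup G) (G ⧸ H i) : ℤ)) ≡ ∑ i ∈ s, ε i [ZMOD p]) : RowQ p G := by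
  intro M hM
  have := Fintype.ofFinite G
  obtain ⟨χ, h1, h2, -, h4, -⟩ := exists_of_count s (fun i => G ⧸ H i) ε hM P ⊥ IsPGroup.of_bot (fun a ha g => by
    rw [Subgroup.mem_bot.1 ha]; rfl) (by
    intro h3
    apply h
    refine h3.trans ?_
    have e : ∑ i ∈ s, ε i * (Nat.card (MulAction.orbitRel.Quotient G (G ⧸ H i)) : ℤ) = ∑ i ∈ s, ε i :=
      Finset.sum_congr rfl fun i _ => by rw [card_orb_one, Nat.cast_one, mul_one]
    rw [e])
  exact ⟨χ, h1, h2, hQ χ h4⟩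

end Cfsg.Agent.H687.BR
end

-- part: H667/BR/E8M
section
prune_inst 0x7404504002000000000040001c209400010000288000600202440f08634024000921842010080820a0840000000811000010420000000a040000011800a0800802000010a99122000900028c410000008000000000000000000000000000014010000
set_option linter.all false
open scoped Cfsg.Agent.FastGrp

-- part: H687/BR/DblCos
section
/-!
# Two double cosets (helper687, S4857)

* `two_step` : `W_{J ∪ {s}} = W_J ∪ W_J s W_J` if `W_J = W_K ∪ W_K t W_K`, `s` commutes with `W_K` and `m(s,t) = 3`;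
* `dc_PJ` : the same for the parabolic subgroups.
-/

set_option autoImplicit false
set_option linter.unusedSectionVars false

namespace Cfsg.Agent.H687.BR

open CoxeterSystem Cfsg.Agent.ChevalleyStructure.CoxeterGeom Cfsg.Agent.Tits.Roots Cfsg.Agent.Tits.Core
  Cfsg.Agent.Tits.RootComb Cfsg.Agent.Nodes.Reps Cfsg.Agent.Nodes.BNOf
  Cfsg.Agent.Nodes.StabComb Cfsg.Agent.Nodes.Bruhat Cfsg.Agent.Nodes.LeviDec

section

variable {I W : Type*} [Group W] {M : CoxeterMatrix I} {cs : CoxeterSystem M W}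

/-- `W_{J'} = W_J ∪ W_J s W_J` -/
def Two (cs : CoxeterSystem M W) (J J' : Set I) (s : I) : Prop :=
  ∀ w ∈ WJ cs J', w ∈ WJ cs J ∨ ∃ a ∈ WJ cs J, ∃ b ∈ WJ cs J, w = a * cs.simple s * b

theorem WJ_mono {J J' : Set I} (h : J ⊆ J') : WJ cs J ≤ WJ cs J' :=
  Subgroup.closure_mono (Set.image_mono h)

theorem simple_mem_WJ {J : Set I} {i : I} (h : i ∈ J) : cs.simple i ∈ WJ cs J :=
  Subgroup.subset_closure ⟨i, h, rfl⟩

/-- induction over `W_{J ∪ {s}}` -/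
theorem two_of_closed {J : Set I} {s : I}
    (h : ∀ a ∈ WJ cs J, cs.simple s * a * cs.simple s ∈ WJ cs J ∨
      ∃ x ∈ WJ cs J, ∃ y ∈ WJ cs J, cs.simple s * a * cs.simple s = x * cs.simple s * y) : Two cs J (insert s J) s := by
  intro w hw
  unfold WJ at hw
  induction hw using Subgroup.closure_induction_left with
  | one => exact Or.inl (one_mem _)
  | mul_left x hx y _ ih =>
    obtain ⟨i, hi, rfl⟩ := hx
    rcases hi with rfl | hi
    · rcases ih with h1 | ⟨a, ha, b, hb, rfl⟩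
      · exact Or.inr ⟨1, one_mem _, y, h1, by rw [one_mul]⟩
      · rcases h a ha with h2 | ⟨u, hu, v, hv, e⟩
        · refine Or.inl ?_
          rw [← mul_assoc, ← mul_assoc]
          exact mul_mem h2 hb
        · refine Or.inr ⟨u, hu, v * b, mul_mem hv hb, ?_⟩
          rw [← mul_assoc, ← mul_assoc, e, mul_assoc]
    · rcases ih with h1 | ⟨a, ha, b, hb, rfl⟩
      · exact Or.inl (mul_mem (simple_mem_WJ hi) h1)
      · exact Or.inr ⟨cs.simple i * a, mul_mem (simple_mem_WJ hi) ha, b, hb, by rw [mul_assoc, mul_assoc, mul_assoc]⟩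
  | inv_mul_cancel x hx y _ ih =>
    obtain ⟨i, hi, rfl⟩ := hx
    rw [cs.inv_simple]
    rcases hi with rfl | hi
    · rcases ih with h1 | ⟨a, ha, b, hb, rfl⟩
      · exact Or.inr ⟨1, one_mem _, y, h1, by rw [one_mul]⟩
      · rcases h a ha with h2 | ⟨u, hu, v, hv, e⟩
        · refine Or.inl ?_
          rw [← mul_assoc, ← mul_assoc]
          exact mul_mem h2 hb
        · refine Or.inr ⟨u, hu, v * b, mul_mem hv hb, ?_⟩
          rw [← mul_assoc, ← mul_assoc, e, mul_assoc]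
    · rcases ih with h1 | ⟨a, ha, b, hb, rfl⟩
      · exact Or.inl (mul_mem (simple_mem_WJ hi) h1)
      · exact Or.inr ⟨cs.simple i * a, mul_mem (simple_mem_WJ hi) ha, b, hb, by rw [mul_assoc, mul_assoc, mul_assoc]⟩

theorem simple_comm {s k : I} (h : M s k = 2) : cs.simple s * cs.simple k = cs.simple k * cs.simple s := by
  have h1 := cs.simple_mul_simple_pow s k
  rw [h, pow_two] at h1
  have h2 : cs.simple s * cs.simple k = (cs.simple s * cs.simple k)⁻¹ := eq_inv_of_mul_eq_one_left h1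
  rw [h2, mul_inv_rev, cs.inv_simple, cs.inv_simple]

theorem simple_braid {s t : I} (h : M s t = 3) :
    cs.simple s * cs.simple t * cs.simple s = cs.simple t * cs.simple s * cs.simple t := by
  have h1 := cs.simple_mul_simple_pow s t
  rw [h, pow_three] at h1
  have h2 : (cs.simple s * cs.simple t * cs.simple s) * (cs.simple t * cs.simple s * cs.simple t) = 1 := by
    rw [← h1]; group
  have h3 := eq_inv_of_mul_eq_one_left h2
  rw [h3, mul_inv_rev, mul_inv_rev, cs.inv_simple, cs.inv_simple, ← mul_assoc]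

theorem comm_WJ {K : Set I} {s : I} (h : ∀ k ∈ K, M s k = 2) {a : W} (ha : a ∈ WJ cs K) :
    cs.simple s * a = a * cs.simple s := by
  unfold WJ at ha
  induction ha using Subgroup.closure_induction with
  | mem x hx =>
    obtain ⟨i, hi, rfl⟩ := hx
    exact simple_comm (h i hi)
  | one => rw [one_mul, mul_one]
  | mul x y _ _ hx hy => rw [← mul_assoc, hx, mul_assoc, hy, mul_assoc]
  | inv x _ hx =>
    have : (x⁻¹ * (cs.simple s * x) * x⁻¹) = x⁻¹ * (x * cs.simple s) * x⁻¹ := by rw [hx]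
    have e1 : x⁻¹ * (cs.simple s * x) * x⁻¹ = x⁻¹ * cs.simple s := by group
    have e2 : x⁻¹ * (x * cs.simple s) * x⁻¹ = cs.simple s * x⁻¹ := by group
    rw [e1, e2] at this
    exact this.symm

/-- the first step -/
theorem two_nil (s : I) : Two cs (∅ : Set I) (insert s ∅) s := by
  apply two_of_closed
  intro a ha
  have : a = 1 := by
    unfold WJ at ha
    simpa using ha
  subst this
  left
  rw [mul_one, cs.simple_mul_simple_self]
  exact one_mem _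

/-- **The step along a path.** -/
theorem two_step {K J : Set I} {s t : I} (htJ : t ∈ J) (hKJ : K ⊆ J) (hW : Two cs K J t) (hc : ∀ k ∈ K, M s k = 2)
    (hb : M s t = 3) : Two cs J (insert s J) s := by
  apply two_of_closed
  intro a ha
  rcases hW a ha with h1 | ⟨x, hx, y, hy, rfl⟩
  · left
    rw [comm_WJ hc h1, mul_assoc, cs.simple_mul_simple_self, mul_one]
    exact ha
  · right
    refine ⟨x * cs.simple t, mul_mem (WJ_mono hKJ hx) (simple_mem_WJ htJ), cs.simple t * y,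
      mul_mem (simple_mem_WJ htJ) (WJ_mono hKJ hy), ?_⟩
    have e1 : cs.simple s * (x * cs.simple t * y) * cs.simple s =
        (cs.simple s * x) * cs.simple t * (y * cs.simple s) := by group
    rw [e1, comm_WJ hc hx, ← comm_WJ hc hy]
    have e2 : x * cs.simple s * cs.simple t * (cs.simple s * y) = x * (cs.simple s * cs.simple t * cs.simple s) * y := by
      group
    rw [e2, simple_braid hb]
    group

end

section

variable {I W Y : Type*} [Fintype I] [DecidableEq I] [Group W] [Group Y] {M : CoxeterMatrix I}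
  {cs : CoxeterSystem M W} {A : I → I → ℤ} {h : IsCartan M A} {r : ℕ} {T : Subgroup Y} {n : I → Y}
  {X : (I → ℤ) → Subgroup Y}

theorem dc_PJ [Finite W] (R : RGD cs h r T n X) {J J' : Set I} {s : I} (hW : Two cs J J' s) :
    ∀ g ∈ PJ cs h T X J', g ∈ PJ cs h T X J ∨ ∃ a ∈ PJ cs h T X J, ∃ b ∈ PJ cs h T X J, g = a * n s * b := by
  intro g hg
  obtain ⟨w, hw, hc⟩ := (mem_PJ_iff_cell R).1 hg
  rcases hW w hw with h1 | ⟨a, ha, b, hb, rfl⟩
  · exact Or.inl ((mem_PJ_iff_cell R).2 ⟨w, h1, hc⟩)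
  · right
    obtain ⟨b₁, hb₁, k, hk, b₂, hb₂, rfl⟩ := hc
    obtain ⟨ka, hka⟩ := exists_rp cs R.nsys a
    obtain ⟨kb, hkb⟩ := exists_rp cs R.nsys b
    have h2 := (hka.mul (rp_simple cs R.nsys s)).mul hkb
    have h3 := h2.unique hk
    refine ⟨b₁ * ka, mul_mem (B_le_PJ hb₁) (LJ_le_PJ (rp_mem_LJ R ha hka)), kb * ((ka * n s * kb)⁻¹ * k) * b₂,
      mul_mem (mul_mem (LJ_le_PJ (rp_mem_LJ R hb hkb)) (B_le_PJ ?_)) (B_le_PJ hb₂), ?_⟩
    · exact (Cell.mem_of_one (hN := R.nsys) (cell_of_rp (rp_of_mem h3)))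
    · group

end

end Cfsg.Agent.H687.BR
end

-- part: H687/BR/ParE
section
/-!
# The numbers `cnt P (G ⧸ P_J)` for the parabolic subgroups (helper687, S4857)

* `Pa hp K J` : the parabolic subgroup of the set `J` of nodes;
* `Deg hp K dS J dJ` : the index of `P_J` is `∏_{d ∈ dS} (q ^ d - 1) / ∏_{d ∈ dJ} (q ^ d - 1)`;
* `zero_of_deg`, `not_dvd_of_deg`, `cnt_eq_of_deg` : what it says about `cnt`.
-/

set_option autoImplicit false
set_option linter.unusedSectionVars false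

namespace Cfsg.Agent.H687.BR

open Cfsg CoxeterSystem Cfsg.Agent.ChevalleyStructure.CoxeterGeom Cfsg.Agent.Tits.Roots Cfsg.Agent.Tits.Core
  Cfsg.Agent.Tits.RootComb Cfsg.Agent.Nodes.Reps Cfsg.Agent.Nodes.BNOf
  Cfsg.Agent.Nodes.StabComb Cfsg.Agent.Nodes.Bruhat Cfsg.Agent.Nodes.LeviDec Cfsg.Agent.H35.Poin
  Cfsg.Agent.H35.ExcIdx Cfsg.Agent.H134.StrP
  Cfsg.Agent.ChevalleyStructure.CoxeterGeomTypes Cfsg.Lie
open Cfsg.Agent.Nodes.RGDChev Cfsg.Agent.ChevalleyStructure.NPerm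
open Cfsg.Agent.H35.PoinNum (pr E pr_cons pr_nil)
open Cfsg.Agent.H116.RatB0 (ParOrd idx_of_parOrd dvd_idx exists_pow ne_of_cast pr_perm pr_append pr_pos dvd_E)
open Cfsg.Agent.H145.BR (cnt)

universe u

/-! ### Numbers -/

theorem not_dvd_pr {q p d : ℕ} [hp : Fact p.Prime] (hq : 1 ≤ q) (hd : orderOf (q : ZMod p) = d) :
    ∀ l : List ℕ, (∀ e ∈ l, ¬ d ∣ e) → ¬ p ∣ pr q l
  | [], _ => by rw [pr_nil]; exact hp.out.not_dvd_one
  | e :: l, h => by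
    rw [pr_cons, hp.out.dvd_mul]
    rintro (h1 | h1)
    · apply h e List.mem_cons_self
      rw [← hd, orderOf_dvd_iff_pow_eq_one]
      have h2 : ((q ^ e - 1 : ℕ) : ZMod p) = 0 := (ZMod.natCast_eq_zero_iff _ p).2 h1
      rw [Nat.cast_sub (Nat.one_le_pow _ _ hq), Nat.cast_pow, Nat.cast_one, sub_eq_zero] at h2
      exact h2
    · exact not_dvd_pr hq hd l (fun e he => h e (List.mem_cons_of_mem _ he)) h1

/-- **An index prime to `p`.** -/
theorem not_dvd_idx {q p d e k : ℕ} [hp : Fact p.Prime] (hq : 2 ≤ q) (hd : orderOf (q : ZMod p) = d) (he : d ∣ e)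
    (he0 : 0 < e) (hk : ¬ p ∣ k) {dS dJ rS rJ : List ℕ} {idx : ℕ} (hI : idx * pr q dJ = pr q dS)
    (hS : dS.Perm (e * k :: rS)) (hJ : dJ.Perm (e :: rJ)) (hrS : ∀ x ∈ rS, ¬ d ∣ x) : ¬ p ∣ idx := by
  have h1 : (q : ZMod p) ^ e = 1 := by
    rw [← orderOf_dvd_iff_pow_eq_one, hd]
    exact he
  have hqe : 1 ≤ q ^ e := Nat.one_le_pow _ _ (by omega)
  have h2 : (q ^ e - 1) * ∑ i ∈ Finset.range k, (q ^ e) ^ i = q ^ (e * k) - 1 := by
    zify [hqe, Nat.one_le_pow (e * k) q (by omega)]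
    rw [mul_geom_sum, pow_mul]
  have h3 : ¬ p ∣ ∑ i ∈ Finset.range k, (q ^ e) ^ i := by
    rw [← ZMod.natCast_eq_zero_iff]
    push_cast
    simp only [h1, one_pow, Finset.sum_const, Finset.card_range, nsmul_eq_mul, mul_one]
    rw [ZMod.natCast_eq_zero_iff]
    exact hk
  rw [pr_perm q hS, pr_perm q hJ, pr_cons, pr_cons, ← h2] at hI
  have hpos : 0 < q ^ e - 1 := by
    have h4 : q ^ 1 ≤ q ^ e := Nat.pow_le_pow_right (by omega) he0
    rw [pow_one] at h4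
    omega
  have h5 : idx * pr q rJ = (∑ i ∈ Finset.range k, (q ^ e) ^ i) * pr q rS := by
    apply Nat.eq_of_mul_eq_mul_left hpos
    calc (q ^ e - 1) * (idx * pr q rJ) = idx * ((q ^ e - 1) * pr q rJ) := by ring
      _ = (q ^ e - 1) * ((∑ i ∈ Finset.range k, (q ^ e) ^ i) * pr q rS) := by rw [hI, mul_assoc]
  intro h6
  have h7 : p ∣ (∑ i ∈ Finset.range k, (q ^ e) ^ i) * pr q rS := by
    rw [← h5]
    exact Dvd.dvd.mul_right h6 _
  rcases hp.out.dvd_mul.1 h7 with h8 | h8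
  · exact h3 h8
  · exact not_dvd_pr (by omega) hd rS hrS h8

section Gen

variable {D : ChevalleyDatum} {l : ℕ} {M : CoxeterMatrix (Fin l)} (hp : IsType D l M) (K : Type u) [Field K]

/-- the parabolic subgroup of the set `J` of nodes -/
def Pa (J : Finset (Fin l)) : Subgroup ↥(D.group K) :=
  PJ M.toCoxeterSystem hp.isCartan (TT D K) (XX D l K) {j | j ∈ J}

variable [Fintype K]

theorem Pa_mono {J J' : Finset (Fin l)} (h : J ⊆ J') : Pa hp K J ≤ Pa hp K J' := by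
  intro g hg
  obtain ⟨r, f, _, hr, hf, hK⟩ := exists_pow K
  have : Fact r.Prime := ⟨hr⟩
  have hfin := finite_W hp M.toCoxeterSystem
  have R := rgd (K := K) hp M.toCoxeterSystem r
  obtain ⟨w, hw, hc⟩ := (mem_PJ_iff_cell R).1 hg
  exact (mem_PJ_iff_cell R).2 ⟨w, WJ_mono (fun j hj => h hj) hw, hc⟩

/-- the index of `P_J` as a quotient of products -/
def Deg (dS : List ℕ) (J : Finset (Fin l)) (dJ : List ℕ) : Prop :=
  (Pa hp K J).index * pr (Fintype.card K) dJ = pr (Fintype.card K) dS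

variable {hp K} {p d : ℕ} [hpr : Fact p.Prime]

theorem dvd_index_of_deg (hpK : (p : K) ≠ 0) (hd : orderOf ((Fintype.card K : ℕ) : ZMod p) = d) {dS dJ : List ℕ}
    {J : Finset (Fin l)} (h : Deg hp K dS J dJ) {N : ℕ} (hS : ∀ d ∈ dS, 0 < d ∧ d < N)
    (hJ : ∀ d ∈ dJ, 0 < d ∧ d < N) (hle : ∀ m < N, H35.PoinNum.cnt dJ m ≤ H35.PoinNum.cnt dS m) (hdN : d < N)
    (hlt : H35.PoinNum.cnt dJ d < H35.PoinNum.cnt dS d) : p ∣ (Pa hp K J).index := by
  refine dvd_idx Fintype.one_lt_card hS hJ h hle ?_ hdN hlt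
  rw [← hd]
  exact dvd_E (H116.RatB0.not_dvd_card hpK)

theorem zero_of_dvd (P : Sylow p ↥(D.group K)) {J J' : Finset (Fin l)} (h : p ∣ (Pa hp K J).index) (hJ : J' ⊆ J) :
    cnt (P : Subgroup ↥(D.group K)) (↥(D.group K) ⧸ Pa hp K J') = 0 :=
  cnt_zero P _ (h.trans (Subgroup.index_dvd_of_le (Pa_mono hp K hJ)))

theorem not_dvd_of_deg (hd : orderOf ((Fintype.card K : ℕ) : ZMod p) = d) {dS dJ : List ℕ} {J : Finset (Fin l)}
    (h : Deg hp K dS J dJ) {e k : ℕ} (rS rJ : List ℕ) (he : d ∣ e) (he0 : 0 < e) (hk : ¬ p ∣ k)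
    (hS : dS.Perm (e * k :: rS)) (hJ : dJ.Perm (e :: rJ)) (hrS : ∀ x ∈ rS, ¬ d ∣ x) : ¬ p ∣ (Pa hp K J).index :=
  not_dvd_idx Fintype.one_lt_card hd he he0 hk h hS hJ hrS

/-- `cnt` of `P_J` and `P_{J ∪ {s}}` -/
theorem cnt_eq_of_deg (P : Sylow p ↥(D.group K)) (hd : orderOf ((Fintype.card K : ℕ) : ZMod p) = d) (hd1 : d ≠ 1)
    {dS dJ dJ' : List ℕ} {J J' : Finset (Fin l)} (hJJ : J ⊆ J') (s : Fin l)
    (hT : Two M.toCoxeterSystem {j | j ∈ J} {j | j ∈ J'} s) (h : Deg hp K dS J dJ) (h' : Deg hp K dS J' dJ')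
    (hn : ¬ p ∣ (Pa hp K J).index) (rJ : List ℕ) (hJ : dJ.Perm (1 :: rJ)) (hJ' : dJ'.Perm ((d + 1) :: rJ))
    (hr : ∀ x ∈ rJ, 0 < x) :
    cnt (P : Subgroup ↥(D.group K)) (↥(D.group K) ⧸ Pa hp K J') =
      cnt (P : Subgroup ↥(D.group K)) (↥(D.group K) ⧸ Pa hp K J) := by
  obtain ⟨r, f, _, hr', hf, hK⟩ := exists_pow K
  have : Fact r.Prime := ⟨hr'⟩
  have hfin := finite_W hp M.toCoxeterSystem
  have R := rgd (K := K) hp M.toCoxeterSystem r
  refine cnt_eq_of_two P (Pa_mono hp K hJJ) hn _ (dc_PJ R hT) ?_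
  have hq : 2 ≤ Fintype.card K := Fintype.one_lt_card
  set q := Fintype.card K with hqq
  have h1 : (Pa hp K J).relIndex (Pa hp K J') * (Pa hp K J').index = (Pa hp K J).index :=
    Subgroup.relIndex_mul_index (Pa_mono hp K hJJ)
  have h2 : (Pa hp K J).relIndex (Pa hp K J') * (q - 1) = q ^ (d + 1) - 1 := by
    unfold Deg at h h'
    rw [← h1] at h
    rw [← h', pr_perm _ hJ, pr_perm _ hJ', pr_cons, pr_cons, pow_one] at h
    have h3 : 0 < pr q rJ := pr_pos hq rJ hr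
    have h4 : 0 < (Pa hp K J').index := Nat.pos_of_ne_zero Subgroup.index_ne_zero_of_finite
    apply Nat.eq_of_mul_eq_mul_left (Nat.mul_pos h4 h3)
    calc (Pa hp K J').index * pr q rJ * ((Pa hp K J).relIndex (Pa hp K J') * (q - 1)) =
        (Pa hp K J).relIndex (Pa hp K J') * (Pa hp K J').index * ((q - 1) * pr q rJ) := by ring
      _ = (Pa hp K J').index * ((q ^ (d + 1) - 1) * pr q rJ) := h
      _ = (Pa hp K J').index * pr q rJ * (q ^ (d + 1) - 1) := by ring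
  rw [← ZMod.natCast_eq_natCast_iff, Nat.cast_one]
  have h5 := congrArg (fun n : ℕ => (n : ZMod p)) h2
  simp only [Nat.cast_mul] at h5
  rw [Nat.cast_sub (by omega), Nat.cast_sub (Nat.one_le_pow _ _ (by omega)), Nat.cast_pow, Nat.cast_one, pow_succ,
    ← hd, pow_orderOf_eq_one, one_mul] at h5
  have h6 : (q : ZMod p) - 1 ≠ 0 := by
    intro h7
    apply hd1
    rw [← hd, orderOf_eq_one_iff]
    exact sub_eq_zero.1 h7
  exact mul_right_cancel₀ h6 (by rw [h5, one_mul])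

end Gen

end Cfsg.Agent.H687.BR
end

-- part: H687/BR/SumE
section
/-!
# The alternating sums for `E₆(q)` and `E₇(q)` (helper687, S4857)
-/

set_option autoImplicit false
set_option linter.unusedSectionVars false

namespace Cfsg.Agent.H687.BR

open Cfsg CoxeterSystem Cfsg.Agent.ChevalleyStructure.CoxeterGeom Cfsg.Agent.Tits.Roots Cfsg.Agent.Tits.Core
  Cfsg.Agent.Tits.RootComb Cfsg.Agent.Nodes.Reps Cfsg.Agent.Nodes.BNOf
  Cfsg.Agent.Nodes.StabComb Cfsg.Agent.Nodes.Bruhat Cfsg.Agent.Nodes.LeviDec Cfsg.Agent.H35.Poin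
  Cfsg.Agent.H35.ExcIdx Cfsg.Agent.H134.StrP
  Cfsg.Agent.ChevalleyStructure.CoxeterGeomTypes Cfsg.Lie
open Cfsg.Agent.Nodes.RGDChev Cfsg.Agent.ChevalleyStructure.NPerm
open Cfsg.Agent.H35.PoinNum (pr E pr_cons pr_nil)
open Cfsg.Agent.H116.RatB0
open Cfsg.Agent.H145.BR (cnt)

universe u

/-! ### Sums over subsets -/

theorem sum_subsets {l : ℕ} (n : Finset (Fin l) → ℤ) (J : Finset (Fin l)) (Zs R : List (Finset (Fin l)))
    (hz : ∀ Z ∈ Zs, ∀ K ⊆ Z, n K = 0) (hnd : R.Nodup)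
    (hR : (J.powerset.filter fun K => ∀ Z ∈ Zs, ¬ K ⊆ Z) = R.toFinset) :
    ∑ K ∈ J.powerset, (-1 : ℤ) ^ K.card * n K = (R.map fun K => (-1 : ℤ) ^ K.card * n K).sum := by
  rw [← List.sum_toFinset _ hnd, ← hR]
  symm
  apply Finset.sum_filter_of_ne
  intro K _ hne Z hZ hs
  apply hne
  rw [hz Z hZ K hs, mul_zero]

theorem sum_signs {l : ℕ} {J : Finset (Fin l)} (hJ : J.Nonempty) : ∑ K ∈ J.powerset, (-1 : ℤ) ^ K.card = 0 := by
  rw [Finset.sum_powerset_neg_one_pow_card, if_neg hJ.ne_empty]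

/-- a number between `1` and `p - 1` -/
theorem not_modEq_zero {p : ℕ} {T : ℤ} (h1 : 0 < T) (h2 : T < p) : ¬ T ≡ 0 [ZMOD p] := by
  rw [Int.modEq_zero_iff_dvd]
  intro h
  have := Int.le_of_dvd h1 h
  omega

theorem eq_of_modEq {p : ℕ} {a b : ℕ} (ha : a < p) (hb : b < p) (h : (a : ℤ) ≡ b [ZMOD p]) : a = b := by
  have h1 : a ≡ b [MOD p] := (Int.natCast_modEq_iff).1 h
  exact Nat.ModEq.eq_of_lt_of_lt h1 ha hb

/-! ### `E₇` -/

section E7

variable (K : Type u) [Field K] [Fintype K]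

/-- the degrees of `E₇` -/
def dE7 : List ℕ := [2, 6, 8, 10, 12, 14, 18]

theorem deg_E7 {L : List (Fin 7)} {dJ : List ℕ} (J : Finset (Fin 7)) (hL : ∀ j, j ∈ L ↔ j ∈ J)
    (h : ∀ (r : ℕ) (_ : Finite CoxeterMatrix.E₇.Group), RGD CoxeterMatrix.E₇.toCoxeterSystem hpE7.isCartan r
      (TT chevE7 K) (fun i => (⟨nn hpE7 K i, nn_mem_group hpE7 i⟩ : ↥(chevE7.group K))) (XX chevE7 7 K) →
      (∀ i, Nat.card (XX chevE7 7 K (sr i)) = Fintype.card K) →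
      ParOrd CoxeterMatrix.E₇.toCoxeterSystem hpE7.isCartan (TT chevE7 K) (XX chevE7 7 K) (Fintype.card K) 7 L dJ) :
    Deg hpE7 K dE7 J dJ := by
  obtain ⟨r, f, _, hr, hf, hK⟩ := exists_pow K
  have : Fact r.Prime := ⟨hr⟩
  have hfin := finite_W hpE7 CoxeterMatrix.E₇.toCoxeterSystem
  have R := rgd (K := K) hpE7 CoxeterMatrix.E₇.toCoxeterSystem r
  have hc : ∀ i, Nat.card (XX chevE7 7 K (sr i)) = Fintype.card K := fun i => by
    rw [card_XX hpE7 K CoxeterMatrix.E₇.toCoxeterSystem (isRoot_sr _ _ i), Nat.card_eq_fintype_card]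
  have h1 := h r hfin R hc
  unfold Deg Pa
  have h2 : ({j | j ∈ J} : Set (Fin 7)) = {j | j ∈ L} := by
    ext j
    exact (hL j).symm
  rw [h2]
  rw [hK] at h1 ⊢
  refine idx_of_parOrd hpE7 K hr hf hK _ (g := Nat.gcd 2 (r ^ f - 1)) (Nat.gcd_dvd_right _ _)
    (by rw [← hK]; exact Cfsg.Agent.S1035.result rfl (chevE7, Nat.gcd 2 (Fintype.card K - 1)) (by simp only [_root_.List.mem_cons, _root_.Prod.mk.injEq, _root_.Nat.coprime_two_left, _root_.and_true, _root_.List.not_mem_nil, _root_.or_false, _root_.true_or, _root_.or_true]))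
    (dS := dE7) (by decide) ⟨f * 63, ?_⟩ h1
  have h3 := Cfsg.Agent.S1064.result hK
  rw [pow_mul]
  unfold dE7
  simp only [pr_cons, pr_nil]
  rw [h3]
  ring

theorem d7_D6 : Deg hpE7 K dE7 {1, 2, 3, 4, 5, 6} [1, 2, 4, 6, 6, 8, 10] :=
  deg_E7 K _ (by decide) fun _ _ R hs => oE7_123456 R Fintype.one_lt_card hs

theorem d7_D5 : Deg hpE7 K dE7 {1, 2, 3, 4, 5} [1, 1, 2, 4, 5, 6, 8] :=
  deg_E7 K _ (by decide) fun _ _ R hs => oE7_12345 R Fintype.one_lt_card hs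

theorem d7_D4 : Deg hpE7 K dE7 {1, 2, 3, 4} [1, 1, 1, 2, 4, 4, 6] :=
  deg_E7 K _ (by decide) fun _ _ R hs => oE7_1234 R Fintype.one_lt_card hs

theorem d7_D5' : Deg hpE7 K dE7 {0, 1, 2, 3, 4} [1, 1, 2, 4, 5, 6, 8] :=
  deg_E7 K _ (by decide) fun _ _ R hs => oE7_01234 R Fintype.one_lt_card hs

theorem d7_E6 : Deg hpE7 K dE7 {0, 1, 2, 3, 4, 5} [1, 2, 5, 6, 8, 9, 12] :=
  deg_E7 K _ (by decide) fun _ _ R hs => oE7_012345 R Fintype.one_lt_card hs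

theorem d7_13456 : Deg hpE7 K dE7 {1, 3, 4, 5, 6} [1, 1, 2, 3, 4, 5, 6] :=
  deg_E7 K _ (by decide) fun _ _ R hs => oE7_13456 R Fintype.one_lt_card hs

theorem d7_12456 : Deg hpE7 K dE7 {1, 2, 4, 5, 6} [1, 1, 2, 2, 2, 3, 4] :=
  deg_E7 K _ (L := [1, 2, 4, 5, 6]) (by decide) fun _ _ R hs =>
    ParOrd.path (oE7_1456 R Fintype.one_lt_card hs) R Fintype.one_lt_card hs (C := [2]) (i0 := 0)
      (by constructor <;> decide +kernel) (by decide)

theorem d7_12356 : Deg hpE7 K dE7 {1, 2, 3, 5, 6} [1, 1, 2, 2, 3, 3, 4] :=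
  deg_E7 K _ (L := [1, 2, 3, 5, 6]) (by decide) fun _ _ R hs =>
    ParOrd.path (oE7_56 R Fintype.one_lt_card hs) R Fintype.one_lt_card hs (C := [1, 3, 2]) (i0 := 0)
      (by constructor <;> decide +kernel) (by decide)

theorem d7_12346 : Deg hpE7 K dE7 {1, 2, 3, 4, 6} [1, 1, 2, 2, 4, 4, 6] :=
  deg_E7 K _ (L := [1, 2, 3, 4, 6]) (by decide) fun _ _ R hs =>
    ParOrd.path (oE7_1234 R Fintype.one_lt_card hs) R Fintype.one_lt_card hs (C := [6]) (i0 := 0)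
      (by constructor <;> decide +kernel) (by decide)

theorem d7_345 : Deg hpE7 K dE7 {3, 4, 5} [1, 1, 1, 1, 2, 3, 4] :=
  deg_E7 K _ (L := [3, 4, 5]) (by decide) fun _ _ R hs =>
    ParOrd.path (ParOrd.nil R) R Fintype.one_lt_card hs (C := [3, 4, 5]) (i0 := 0)
      (by constructor <;> decide +kernel) (by decide)

theorem d7_23456 : Deg hpE7 K dE7 {2, 3, 4, 5, 6} [1, 1, 2, 3, 4, 5, 6] :=
  deg_E7 K _ (L := [2, 3, 4, 5, 6]) (by decide) fun _ _ R hs =>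
    ParOrd.path (ParOrd.nil R) R Fintype.one_lt_card hs (C := [2, 3, 4, 5, 6]) (i0 := 0)
      (by constructor <;> decide +kernel) (by decide)

theorem d7_3456 : Deg hpE7 K dE7 {3, 4, 5, 6} [1, 1, 1, 2, 3, 4, 5] :=
  deg_E7 K _ (L := [3, 4, 5, 6]) (by decide) fun _ _ R hs =>
    ParOrd.path (ParOrd.nil R) R Fintype.one_lt_card hs (C := [3, 4, 5, 6]) (i0 := 0)
      (by constructor <;> decide +kernel) (by decide)

theorem d7_2345 : Deg hpE7 K dE7 {2, 3, 4, 5} [1, 1, 1, 2, 3, 4, 5] :=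
  deg_E7 K _ (L := [2, 3, 4, 5]) (by decide) fun _ _ R hs =>
    ParOrd.path (ParOrd.nil R) R Fintype.one_lt_card hs (C := [2, 3, 4, 5]) (i0 := 0)
      (by constructor <;> decide +kernel) (by decide)

theorem d7_1345 : Deg hpE7 K dE7 {1, 3, 4, 5} [1, 1, 1, 2, 3, 4, 5] :=
  deg_E7 K _ (L := [1, 3, 4, 5]) (by decide) fun _ _ R hs =>
    ParOrd.path (ParOrd.nil R) R Fintype.one_lt_card hs (C := [1, 3, 4, 5]) (i0 := 0)
      (by constructor <;> decide +kernel) (by decide)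

theorem d7_02345 : Deg hpE7 K dE7 {0, 2, 3, 4, 5} [1, 1, 2, 3, 4, 5, 6] :=
  deg_E7 K _ (L := [0, 2, 3, 4, 5]) (by decide) fun _ _ R hs =>
    ParOrd.path (ParOrd.nil R) R Fintype.one_lt_card hs (C := [0, 2, 3, 4, 5]) (i0 := 0)
      (by constructor <;> decide +kernel) (by decide)

theorem d7_01345 : Deg hpE7 K dE7 {0, 1, 3, 4, 5} [1, 1, 2, 2, 3, 4, 5] :=
  deg_E7 K _ (L := [0, 1, 3, 4, 5]) (by decide) fun _ _ R hs =>
    ParOrd.path (L' := [1, 3, 4, 5]) (D' := [1, 1, 1, 2, 3, 4, 5])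
      (ParOrd.path (ParOrd.nil R) R Fintype.one_lt_card hs (C := [1, 3, 4, 5]) (i0 := 0)
        (by constructor <;> decide +kernel) (by decide)) R Fintype.one_lt_card hs (C := [0]) (i0 := 0)
      (by constructor <;> decide +kernel) (by decide)

theorem d7_01245 : Deg hpE7 K dE7 {0, 1, 2, 4, 5} [1, 1, 2, 2, 2, 3, 3] :=
  deg_E7 K _ (L := [0, 1, 2, 4, 5]) (by decide) fun _ _ R hs =>
    ParOrd.path (L' := [1, 4, 5]) (D' := [1, 1, 1, 1, 2, 2, 3])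
      (ParOrd.path (L' := [4, 5]) (D' := [1, 1, 1, 1, 1, 2, 3])
        (ParOrd.path (ParOrd.nil R) R Fintype.one_lt_card hs (C := [4, 5]) (i0 := 0)
          (by constructor <;> decide +kernel) (by decide)) R Fintype.one_lt_card hs (C := [1]) (i0 := 0)
        (by constructor <;> decide +kernel) (by decide)) R Fintype.one_lt_card hs (C := [0, 2]) (i0 := 0)
      (by constructor <;> decide +kernel) (by decide)

theorem d7_01235 : Deg hpE7 K dE7 {0, 1, 2, 3, 5} [1, 1, 2, 2, 3, 4, 5] :=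
  deg_E7 K _ (L := [0, 1, 2, 3, 5]) (by decide) fun _ _ R hs =>
    ParOrd.path (L' := [0, 1, 2, 3]) (D' := [1, 1, 1, 2, 3, 4, 5])
      (ParOrd.path (ParOrd.nil R) R Fintype.one_lt_card hs (C := [0, 2, 3, 1]) (i0 := 0)
        (by constructor <;> decide +kernel) (by decide)) R Fintype.one_lt_card hs (C := [5]) (i0 := 0)
      (by constructor <;> decide +kernel) (by decide)

end E7

/-! ### Chains of nodes -/

theorem two_chain {l : ℕ} {M : CoxeterMatrix (Fin l)} {J J' J'' : Finset (Fin l)}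
    {s t : Fin l} (hW : Two M.toCoxeterSystem ({j | j ∈ J} : Set (Fin l)) {j | j ∈ J'} t) (ht : t ∈ J') (hJ : J ⊆ J')
    (hJ'' : J'' = insert s J') (hc : ∀ k ∈ J, M s k = 2) (hb : M s t = 3) :
    Two M.toCoxeterSystem ({j | j ∈ J'} : Set (Fin l)) {j | j ∈ J''} s := by
  have h1 := two_step (s := s) (t := t) (show t ∈ ({j | j ∈ J'} : Set (Fin l)) from ht)
    (show ({j | j ∈ J} : Set (Fin l)) ⊆ {j | j ∈ J'} from fun j hj => hJ hj) hW (fun k hk => hc k hk) hb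
  have h2 : ({j | j ∈ J''} : Set (Fin l)) = insert s {j | j ∈ J'} := by
    subst hJ''
    ext j
    simp
  rw [h2]
  exact h1

theorem two_start {l : ℕ} {M : CoxeterMatrix (Fin l)} {J : Finset (Fin l)} {s : Fin l} (hJ : J = {s}) :
    Two M.toCoxeterSystem ({j | j ∈ (∅ : Finset (Fin l))} : Set (Fin l)) {j | j ∈ J} s := by
  have h2 : ({j | j ∈ J} : Set (Fin l)) = insert s ∅ := by
    subst hJ
    ext j
    simp
  have h3 : ({j | j ∈ (∅ : Finset (Fin l))} : Set (Fin l)) = ∅ := by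
    ext j
    simp
  rw [h2, h3]
  exact two_nil s

section CountE7

variable {K : Type u} [Field K] [Fintype K] {p : ℕ} [hpr : Fact p.Prime] (hpK : (p : K) ≠ 0)
  (P : Sylow p ↥(chevE7.group K)) (hc : IsCyclic P)

theorem two_6543 : Two CoxeterMatrix.E₇.toCoxeterSystem ({j | j ∈ ({3, 4, 5, 6} : Finset (Fin 7))} : Set (Fin 7))
    {j | j ∈ ({2, 3, 4, 5, 6} : Finset (Fin 7))} 2 := by
  have h0 := two_start (M := CoxeterMatrix.E₇) (J := {6}) (s := 6) rfl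
  have h1 := two_chain h0 (by decide) (by decide) (J'' := {5, 6}) (s := 5) (by decide) (by decide) (by decide)
  have h2 := two_chain h1 (by decide) (by decide) (J'' := {4, 5, 6}) (s := 4) (by decide) (by decide) (by decide)
  have h3 := two_chain h2 (by decide) (by decide) (J'' := {3, 4, 5, 6}) (s := 3) (by decide) (by decide) (by decide)
  exact two_chain h3 (by decide) (by decide) (by decide) (by decide) (by decide)

theorem two_1345 : Two CoxeterMatrix.E₇.toCoxeterSystem ({j | j ∈ ({1, 3, 4, 5} : Finset (Fin 7))} : Set (Fin 7))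
    {j | j ∈ ({1, 3, 4, 5, 6} : Finset (Fin 7))} 6 := by
  have h0 := two_start (M := CoxeterMatrix.E₇) (J := {1}) (s := 1) rfl
  have h1 := two_chain h0 (by decide) (by decide) (J'' := {1, 3}) (s := 3) (by decide) (by decide) (by decide)
  have h2 := two_chain h1 (by decide) (by decide) (J'' := {1, 3, 4}) (s := 4) (by decide) (by decide) (by decide)
  have h3 := two_chain h2 (by decide) (by decide) (J'' := {1, 3, 4, 5}) (s := 5) (by decide) (by decide) (by decide)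
  exact two_chain h3 (by decide) (by decide) (by decide) (by decide) (by decide)

theorem z7 (P : Sylow p ↥(chevE7.group K)) {d : ℕ} (hpK : (p : K) ≠ 0)
    (hd : orderOf ((Fintype.card K : ℕ) : ZMod p) = d) {J J' : Finset (Fin 7)}
    {dJ : List ℕ} (h : Deg hpE7 K dE7 J dJ) (hJ : ∀ d ∈ dJ, 0 < d ∧ d < 31)
    (hle : ∀ m < 31, H35.PoinNum.cnt dJ m ≤ H35.PoinNum.cnt dE7 m)
    (hdN : d < 31) (hlt : H35.PoinNum.cnt dJ d < H35.PoinNum.cnt dE7 d) (hJJ : J' ⊆ J) :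
    ((cnt (P : Subgroup ↥(chevE7.group K)) (↥(chevE7.group K) ⧸ Pa hpE7 K J') : ℕ) : ℤ) = 0 := by
  rw [zero_of_dvd P (dvd_index_of_deg hpK hd h (by decide) hJ hle hdN hlt) hJJ, Nat.cast_zero]

include hc in
/-- **`E₇`, `d = 5`, type `D₆`** -/
theorem sum_E7_D6_five (hpK : (p : K) ≠ 0) (hp2 : p ≠ 2) (hd : orderOf ((Fintype.card K : ℕ) : ZMod p) = 5) :
    ¬ (∑ J ∈ ({1, 2, 3, 4, 5, 6} : Finset (Fin 7)).powerset, (-1 : ℤ) ^ J.card *
      ((cnt (P : Subgroup ↥(chevE7.group K)) (↥(chevE7.group K) ⧸ Pa hpE7 K J) : ℕ) : ℤ)) ≡ 0 [ZMOD p] := by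
  have hn2 : ¬ p ∣ 2 := fun h => hp2 ((Nat.prime_dvd_prime_iff_eq hpr.out Nat.prime_two).1 h)
  rw [sum_subsets _ _ [{1, 2, 4, 5, 6}, {1, 2, 3, 5, 6}, {1, 2, 3, 4, 6}, {3, 4, 5}]
    [{3, 4, 5, 6}, {2, 3, 4, 5}, {1, 3, 4, 5}, {2, 3, 4, 5, 6}, {1, 3, 4, 5, 6}, {1, 2, 3, 4, 5}, {1, 2, 3, 4, 5, 6}]
    ?_ (by decide +kernel) (by decide +kernel)]
  · have c1 : ({3, 4, 5, 6} : Finset (Fin 7)).card = 4 := rfl
    have c2 : ({2, 3, 4, 5} : Finset (Fin 7)).card = 4 := rfl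
    have c3 : ({1, 3, 4, 5} : Finset (Fin 7)).card = 4 := rfl
    have c4 : ({2, 3, 4, 5, 6} : Finset (Fin 7)).card = 5 := rfl
    have c5 : ({1, 3, 4, 5, 6} : Finset (Fin 7)).card = 5 := rfl
    have c6 : ({1, 2, 3, 4, 5} : Finset (Fin 7)).card = 5 := rfl
    have c7 : ({1, 2, 3, 4, 5, 6} : Finset (Fin 7)).card = 6 := rfl
    simp only [List.map_cons, List.map_nil, List.sum_cons, List.sum_nil]
    rw [c1, c2, c3, c4, c5, c6, c7]
    -- the numbers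
    have nd : ∀ {J : Finset (Fin 7)}, Deg hpE7 K dE7 J [1, 1, 1, 2, 3, 4, 5] → ¬ p ∣ (Pa hpE7 K J).index := fun h =>
      not_dvd_of_deg hd h (e := 5) (k := 2) [2, 6, 8, 12, 14, 18] [1, 1, 1, 2, 3, 4] (by decide) (by decide) hn2
        (by decide) (by decide) (by decide)
    have e1 := cnt_eq_of_deg P hd (by decide) (by decide) 2 two_6543 (d7_3456 K) (d7_23456 K) (nd (d7_3456 K))
      [1, 1, 2, 3, 4, 5] (by decide) (by decide) (by decide)
    have e2 := cnt_eq_of_deg P hd (by decide) (by decide) 6 two_1345 (d7_1345 K) (d7_13456 K) (nd (d7_1345 K))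
      [1, 1, 2, 3, 4, 5] (by decide) (by decide) (by decide)
    have m1 : (Pa hpE7 K {2, 3, 4, 5}) ≤ Pa hpE7 K {1, 2, 3, 4, 5} := Pa_mono hpE7 K (by decide)
    have m2 : (Pa hpE7 K {1, 2, 3, 4, 5}) ≤ Pa hpE7 K {1, 2, 3, 4, 5, 6} := Pa_mono hpE7 K (by decide)
    have n1 := nd (d7_2345 K)
    have n2 : ¬ p ∣ (Pa hpE7 K {1, 2, 3, 4, 5}).index := fun h => n1 (h.trans (Subgroup.index_dvd_of_le m1))
    have n3 : ¬ p ∣ (Pa hpE7 K {1, 2, 3, 4, 5, 6}).index := fun h => n2 (h.trans (Subgroup.index_dvd_of_le m2))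
    have l1 := Nat.le_of_dvd (cnt_pos P n1) (cnt_dvd P m1 n1)
    have l2 := Nat.le_of_dvd (cnt_pos P n2) (cnt_dvd P m2 n2)
    have l3 := cnt_pos P n3
    have l4 := Nat.le_of_dvd (by have := hpr.out.two_le; omega) (cnt_dvd_pred P hc n1)
    have hp1 := hpr.out.one_lt
    rw [e1, e2]
    apply not_modEq_zero
    · push_cast
      omega
    · push_cast
      omega
  · intro Z hZ J hJ
    simp only [List.mem_cons, List.not_mem_nil, or_false] at hZ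
    rcases hZ with rfl | rfl | rfl | rfl
    · exact z7 P hpK hd (d7_12456 K) (by decide) (by decide +kernel) (by decide) (by decide) hJ
    · exact z7 P hpK hd (d7_12356 K) (by decide) (by decide +kernel) (by decide) (by decide) hJ
    · exact z7 P hpK hd (d7_12346 K) (by decide) (by decide +kernel) (by decide) (by decide) hJ
    · exact z7 P hpK hd (d7_345 K) (by decide) (by decide +kernel) (by decide) (by decide) hJ

include hc in
/-- **`E₇`, `d = 8`** -/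
theorem cases_E7_eight (hpK : (p : K) ≠ 0) (hd : orderOf ((Fintype.card K : ℕ) : ZMod p) = 8) :
    ¬ (((cnt (P : Subgroup ↥(chevE7.group K)) (↥(chevE7.group K) ⧸ Pa hpE7 K {0, 1, 2, 3, 4, 5}) : ℕ) : ℤ)) ≡ 1 [ZMOD p] ∨
    ¬ (((cnt (P : Subgroup ↥(chevE7.group K)) (↥(chevE7.group K) ⧸ Pa hpE7 K {1, 2, 3, 4, 5, 6}) : ℕ) : ℤ)) ≡ 1 [ZMOD p] ∨
    ¬ (∑ J ∈ ({1, 2, 3, 4, 5, 6} : Finset (Fin 7)).powerset, (-1 : ℤ) ^ J.card *
      ((cnt (P : Subgroup ↥(chevE7.group K)) (↥(chevE7.group K) ⧸ Pa hpE7 K J) : ℕ) : ℤ)) ≡ 0 [ZMOD p] ∨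
    ¬ (∑ J ∈ ({0, 1, 2, 3, 4, 5} : Finset (Fin 7)).powerset, (-1 : ℤ) ^ J.card *
      ((cnt (P : Subgroup ↥(chevE7.group K)) (↥(chevE7.group K) ⧸ Pa hpE7 K J) : ℕ) : ℤ)) ≡ 0 [ZMOD p] := by
  have hp1 := hpr.out.one_lt
  have hn1 : ¬ p ∣ 1 := hpr.out.not_dvd_one
  have S1 : ∑ J ∈ ({1, 2, 3, 4, 5, 6} : Finset (Fin 7)).powerset, (-1 : ℤ) ^ J.card *
      ((cnt (P : Subgroup ↥(chevE7.group K)) (↥(chevE7.group K) ⧸ Pa hpE7 K J) : ℕ) : ℤ) =
      ((cnt (P : Subgroup ↥(chevE7.group K)) (↥(chevE7.group K) ⧸ Pa hpE7 K {1, 2, 3, 4, 5, 6}) : ℕ) : ℤ) -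
      ((cnt (P : Subgroup ↥(chevE7.group K)) (↥(chevE7.group K) ⧸ Pa hpE7 K {1, 2, 3, 4, 5}) : ℕ) : ℤ) := by
    rw [sum_subsets _ _ [{2, 3, 4, 5, 6}, {1, 3, 4, 5, 6}, {1, 2, 4, 5, 6}, {1, 2, 3, 5, 6}, {1, 2, 3, 4, 6}]
      [{1, 2, 3, 4, 5, 6}, {1, 2, 3, 4, 5}] ?_ (by decide +kernel) (by decide +kernel)]
    · have c6 : ({1, 2, 3, 4, 5} : Finset (Fin 7)).card = 5 := rfl
      have c7 : ({1, 2, 3, 4, 5, 6} : Finset (Fin 7)).card = 6 := rfl
      simp only [List.map_cons, List.map_nil, List.sum_cons, List.sum_nil]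
      rw [c6, c7]
      ring
    · intro Z hZ J hJ
      simp only [List.mem_cons, List.not_mem_nil, or_false] at hZ
      rcases hZ with rfl | rfl | rfl | rfl | rfl
      · exact z7 P hpK hd (d7_23456 K) (by decide) (by decide +kernel) (by decide) (by decide) hJ
      · exact z7 P hpK hd (d7_13456 K) (by decide) (by decide +kernel) (by decide) (by decide) hJ
      · exact z7 P hpK hd (d7_12456 K) (by decide) (by decide +kernel) (by decide) (by decide) hJ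
      · exact z7 P hpK hd (d7_12356 K) (by decide) (by decide +kernel) (by decide) (by decide) hJ
      · exact z7 P hpK hd (d7_12346 K) (by decide) (by decide +kernel) (by decide) (by decide) hJ
  have S2 : ∑ J ∈ ({0, 1, 2, 3, 4, 5} : Finset (Fin 7)).powerset, (-1 : ℤ) ^ J.card *
      ((cnt (P : Subgroup ↥(chevE7.group K)) (↥(chevE7.group K) ⧸ Pa hpE7 K J) : ℕ) : ℤ) =
      ((cnt (P : Subgroup ↥(chevE7.group K)) (↥(chevE7.group K) ⧸ Pa hpE7 K {0, 1, 2, 3, 4, 5}) : ℕ) : ℤ) -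
      ((cnt (P : Subgroup ↥(chevE7.group K)) (↥(chevE7.group K) ⧸ Pa hpE7 K {1, 2, 3, 4, 5}) : ℕ) : ℤ) -
      ((cnt (P : Subgroup ↥(chevE7.group K)) (↥(chevE7.group K) ⧸ Pa hpE7 K {0, 1, 2, 3, 4}) : ℕ) : ℤ) := by
    rw [sum_subsets _ _ [{0, 2, 3, 4, 5}, {0, 1, 3, 4, 5}, {0, 1, 2, 4, 5}, {0, 1, 2, 3, 5}, {1, 2, 3, 4}]
      [{0, 1, 2, 3, 4, 5}, {1, 2, 3, 4, 5}, {0, 1, 2, 3, 4}] ?_ (by decide +kernel) (by decide +kernel)]
    · have c6 : ({1, 2, 3, 4, 5} : Finset (Fin 7)).card = 5 := rfl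
      have c5 : ({0, 1, 2, 3, 4} : Finset (Fin 7)).card = 5 := rfl
      have c7 : ({0, 1, 2, 3, 4, 5} : Finset (Fin 7)).card = 6 := rfl
      simp only [List.map_cons, List.map_nil, List.sum_cons, List.sum_nil]
      rw [c5, c6, c7]
      ring
    · intro Z hZ J hJ
      simp only [List.mem_cons, List.not_mem_nil, or_false] at hZ
      rcases hZ with rfl | rfl | rfl | rfl | rfl
      · exact z7 P hpK hd (d7_02345 K) (by decide) (by decide +kernel) (by decide) (by decide) hJ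
      · exact z7 P hpK hd (d7_01345 K) (by decide) (by decide +kernel) (by decide) (by decide) hJ
      · exact z7 P hpK hd (d7_01245 K) (by decide) (by decide +kernel) (by decide) (by decide) hJ
      · exact z7 P hpK hd (d7_01235 K) (by decide) (by decide +kernel) (by decide) (by decide) hJ
      · exact z7 P hpK hd (d7_D4 K) (by decide) (by decide +kernel) (by decide) (by decide) hJ
  rw [S1, S2]
  have nd : ∀ {J : Finset (Fin 7)}, Deg hpE7 K dE7 J [1, 1, 2, 4, 5, 6, 8] → ¬ p ∣ (Pa hpE7 K J).index := fun h =>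
    not_dvd_of_deg hd h (e := 8) (k := 1) [2, 6, 10, 12, 14, 18] [1, 1, 2, 4, 5, 6] (by decide) (by decide) hn1
      (by decide) (by decide) (by decide)
  have nD5 := nd (d7_D5 K)
  have nD5' := nd (d7_D5' K)
  have nD6 : ¬ p ∣ (Pa hpE7 K {1, 2, 3, 4, 5, 6}).index := fun h =>
    nD5 (h.trans (Subgroup.index_dvd_of_le (Pa_mono hpE7 K (by decide))))
  have nE6 : ¬ p ∣ (Pa hpE7 K {0, 1, 2, 3, 4, 5}).index := fun h =>
    nD5 (h.trans (Subgroup.index_dvd_of_le (Pa_mono hpE7 K (by decide))))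
  have bd : ∀ {J : Finset (Fin 7)}, ¬ p ∣ (Pa hpE7 K J).index →
      0 < cnt (P : Subgroup ↥(chevE7.group K)) (↥(chevE7.group K) ⧸ Pa hpE7 K J) ∧
      cnt (P : Subgroup ↥(chevE7.group K)) (↥(chevE7.group K) ⧸ Pa hpE7 K J) < p := fun h =>
    ⟨cnt_pos P h, lt_of_le_of_lt (Nat.le_of_dvd (by omega) (cnt_dvd_pred P hc h)) (by omega)⟩
  obtain ⟨a1, a2⟩ := bd nD5
  obtain ⟨b1, b2⟩ := bd nD5'
  obtain ⟨c1, c2⟩ := bd nD6
  obtain ⟨d1, d2⟩ := bd nE6
  generalize cnt (P : Subgroup ↥(chevE7.group K)) (↥(chevE7.group K) ⧸ Pa hpE7 K {0, 1, 2, 3, 4, 5}) = x at d1 d2 ⊢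
  generalize cnt (P : Subgroup ↥(chevE7.group K)) (↥(chevE7.group K) ⧸ Pa hpE7 K {1, 2, 3, 4, 5, 6}) = y at c1 c2 ⊢
  generalize cnt (P : Subgroup ↥(chevE7.group K)) (↥(chevE7.group K) ⧸ Pa hpE7 K {1, 2, 3, 4, 5}) = z at a1 a2 ⊢
  generalize cnt (P : Subgroup ↥(chevE7.group K)) (↥(chevE7.group K) ⧸ Pa hpE7 K {0, 1, 2, 3, 4}) = t at b1 b2 ⊢
  by_contra hcon
  push Not at hcon
  obtain ⟨h1, h2, h3, h4⟩ := hcon
  have e1 : x = 1 := eq_of_modEq d2 hp1 (by rw [Nat.cast_one]; exact h1)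
  have e2 : y = 1 := eq_of_modEq c2 hp1 (by rw [Nat.cast_one]; exact h2)
  subst e1 e2
  have e3 : z = 1 := by
    refine eq_of_modEq a2 hp1 ?_
    have := (Int.ModEq.add_right (z : ℤ) h3).symm
    simpa using this
  subst e3
  have e4 : t = 0 := by
    refine eq_of_modEq b2 (by omega) ?_
    have := (Int.ModEq.add_right (t : ℤ) h4).symm
    simpa using this
  omega

end CountE7

/-! ### `E₆` -/

section E6

variable (K : Type u) [Field K] [Fintype K]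

/-- the degrees of `E₆` -/
def dE6 : List ℕ := [2, 5, 6, 8, 9, 12]

theorem deg_E6 {L : List (Fin 6)} {dJ : List ℕ} (J : Finset (Fin 6)) (hL : ∀ j, j ∈ L ↔ j ∈ J)
    (h : ∀ (r : ℕ) (_ : Finite CoxeterMatrix.E₆.Group), RGD CoxeterMatrix.E₆.toCoxeterSystem hpE6.isCartan r
      (TT chevE6 K) (fun i => (⟨nn hpE6 K i, nn_mem_group hpE6 i⟩ : ↥(chevE6.group K))) (XX chevE6 6 K) →
      (∀ i, Nat.card (XX chevE6 6 K (sr i)) = Fintype.card K) →
      ParOrd CoxeterMatrix.E₆.toCoxeterSystem hpE6.isCartan (TT chevE6 K) (XX chevE6 6 K) (Fintype.card K) 6 L dJ) :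
    Deg hpE6 K dE6 J dJ := by
  obtain ⟨r, f, _, hr, hf, hK⟩ := exists_pow K
  have : Fact r.Prime := ⟨hr⟩
  have hfin := finite_W hpE6 CoxeterMatrix.E₆.toCoxeterSystem
  have R := rgd (K := K) hpE6 CoxeterMatrix.E₆.toCoxeterSystem r
  have hc : ∀ i, Nat.card (XX chevE6 6 K (sr i)) = Fintype.card K := fun i => by
    rw [card_XX hpE6 K CoxeterMatrix.E₆.toCoxeterSystem (isRoot_sr _ _ i), Nat.card_eq_fintype_card]
  have h1 := h r hfin R hc
  unfold Deg Pa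
  have h2 : ({j | j ∈ J} : Set (Fin 6)) = {j | j ∈ L} := by
    ext j
    exact (hL j).symm
  rw [h2]
  rw [hK] at h1 ⊢
  refine idx_of_parOrd hpE6 K hr hf hK _ (g := Nat.gcd 3 (r ^ f - 1)) (Nat.gcd_dvd_right _ _)
    (by rw [← hK]; exact Cfsg.Agent.S1035.result rfl (chevE6, Nat.gcd 3 (Fintype.card K - 1)) (by simp only [_root_.List.mem_cons, _root_.Prod.mk.injEq, _root_.List.not_mem_nil, _root_.or_false, _root_.true_or, _root_.or_true]))
    (dS := dE6) (by decide) ⟨f * 36, ?_⟩ h1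
  have h3 := Cfsg.Agent.S1063.result hK
  rw [pow_mul]
  unfold dE6
  simp only [pr_cons, pr_nil]
  rw [h3]
  ring

theorem d6_A5 : Deg hpE6 K dE6 {0, 2, 3, 4, 5} [1, 2, 3, 4, 5, 6] :=
  deg_E6 K _ (by decide) fun _ _ R hs => oE6_02345 R Fintype.one_lt_card hs

theorem d6_0234 : Deg hpE6 K dE6 {0, 2, 3, 4} [1, 1, 2, 3, 4, 5] :=
  deg_E6 K _ (L := [0, 2, 3, 4]) (by decide) fun _ _ R hs =>
    ParOrd.path (ParOrd.nil R) R Fintype.one_lt_card hs (C := [0, 2, 3, 4]) (i0 := 0)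
      (by constructor <;> decide +kernel) (by decide)

theorem d6_2345 : Deg hpE6 K dE6 {2, 3, 4, 5} [1, 1, 2, 3, 4, 5] :=
  deg_E6 K _ (L := [2, 3, 4, 5]) (by decide) fun _ _ R hs =>
    ParOrd.path (ParOrd.nil R) R Fintype.one_lt_card hs (C := [2, 3, 4, 5]) (i0 := 0)
      (by constructor <;> decide +kernel) (by decide)

theorem d6_234 : Deg hpE6 K dE6 {2, 3, 4} [1, 1, 1, 2, 3, 4] :=
  deg_E6 K _ (L := [2, 3, 4]) (by decide) fun _ _ R hs =>
    ParOrd.path (ParOrd.nil R) R Fintype.one_lt_card hs (C := [2, 3, 4]) (i0 := 0)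
      (by constructor <;> decide +kernel) (by decide)

theorem d6_0235 : Deg hpE6 K dE6 {0, 2, 3, 5} [1, 1, 2, 2, 3, 4] :=
  deg_E6 K _ (L := [0, 2, 3, 5]) (by decide) fun _ _ R hs =>
    ParOrd.path (L' := [5]) (D' := [1, 1, 1, 1, 1, 2])
      (ParOrd.path (ParOrd.nil R) R Fintype.one_lt_card hs (C := [5]) (i0 := 0)
        (by constructor <;> decide +kernel) (by decide)) R Fintype.one_lt_card hs (C := [0, 2, 3]) (i0 := 0)
      (by constructor <;> decide +kernel) (by decide)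

theorem d6_0245 : Deg hpE6 K dE6 {0, 2, 4, 5} [1, 1, 2, 2, 3, 3] :=
  deg_E6 K _ (L := [0, 2, 4, 5]) (by decide) fun _ _ R hs =>
    ParOrd.path (L' := [4, 5]) (D' := [1, 1, 1, 1, 2, 3])
      (ParOrd.path (ParOrd.nil R) R Fintype.one_lt_card hs (C := [4, 5]) (i0 := 0)
        (by constructor <;> decide +kernel) (by decide)) R Fintype.one_lt_card hs (C := [0, 2]) (i0 := 0)
      (by constructor <;> decide +kernel) (by decide)

theorem d6_0345 : Deg hpE6 K dE6 {0, 3, 4, 5} [1, 1, 2, 2, 3, 4] :=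
  deg_E6 K _ (L := [0, 3, 4, 5]) (by decide) fun _ _ R hs =>
    ParOrd.path (L' := [0]) (D' := [1, 1, 1, 1, 1, 2])
      (ParOrd.path (ParOrd.nil R) R Fintype.one_lt_card hs (C := [0]) (i0 := 0)
        (by constructor <;> decide +kernel) (by decide)) R Fintype.one_lt_card hs (C := [3, 4, 5]) (i0 := 0)
      (by constructor <;> decide +kernel) (by decide)

end E6

section CountE6

variable {K : Type u} [Field K] [Fintype K] {p : ℕ} [hpr : Fact p.Prime] (hpK : (p : K) ≠ 0)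
  (P : Sylow p ↥(chevE6.group K)) (hc : IsCyclic P)

theorem two_02345 : Two CoxeterMatrix.E₆.toCoxeterSystem ({j | j ∈ ({0, 2, 3, 4} : Finset (Fin 6))} : Set (Fin 6))
    {j | j ∈ ({0, 2, 3, 4, 5} : Finset (Fin 6))} 5 := by
  have h0 := two_start (M := CoxeterMatrix.E₆) (J := {0}) (s := 0) rfl
  have h1 := two_chain h0 (by decide) (by decide) (J'' := {0, 2}) (s := 2) (by decide) (by decide) (by decide)
  have h2 := two_chain h1 (by decide) (by decide) (J'' := {0, 2, 3}) (s := 3) (by decide) (by decide) (by decide)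
  have h3 := two_chain h2 (by decide) (by decide) (J'' := {0, 2, 3, 4}) (s := 4) (by decide) (by decide) (by decide)
  exact two_chain h3 (by decide) (by decide) (by decide) (by decide) (by decide)

theorem z6 (P : Sylow p ↥(chevE6.group K)) {d : ℕ} (hpK : (p : K) ≠ 0)
    (hd : orderOf ((Fintype.card K : ℕ) : ZMod p) = d) {J J' : Finset (Fin 6)}
    {dJ : List ℕ} (h : Deg hpE6 K dE6 J dJ) (hJ : ∀ d ∈ dJ, 0 < d ∧ d < 31)
    (hle : ∀ m < 31, H35.PoinNum.cnt dJ m ≤ H35.PoinNum.cnt dE6 m)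
    (hdN : d < 31) (hlt : H35.PoinNum.cnt dJ d < H35.PoinNum.cnt dE6 d) (hJJ : J' ⊆ J) :
    ((cnt (P : Subgroup ↥(chevE6.group K)) (↥(chevE6.group K) ⧸ Pa hpE6 K J') : ℕ) : ℤ) = 0 := by
  rw [zero_of_dvd P (dvd_index_of_deg hpK hd h (by decide) hJ hle hdN hlt) hJJ, Nat.cast_zero]

include hc in
/-- **`E₆`, `d = 5`, type `A₅`** -/
theorem sum_E6_A5_five (hpK : (p : K) ≠ 0) (hd : orderOf ((Fintype.card K : ℕ) : ZMod p) = 5) :
    ¬ (∑ J ∈ ({0, 2, 3, 4, 5} : Finset (Fin 6)).powerset, (-1 : ℤ) ^ J.card *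
      ((cnt (P : Subgroup ↥(chevE6.group K)) (↥(chevE6.group K) ⧸ Pa hpE6 K J) : ℕ) : ℤ)) ≡ 0 [ZMOD p] := by
  rw [sum_subsets _ _ [{0, 2, 3, 5}, {0, 2, 4, 5}, {0, 3, 4, 5}, {2, 3, 4}]
    [{0, 2, 3, 4}, {2, 3, 4, 5}, {0, 2, 3, 4, 5}] ?_ (by decide +kernel) (by decide +kernel)]
  · have c1 : ({0, 2, 3, 4} : Finset (Fin 6)).card = 4 := rfl
    have c2 : ({2, 3, 4, 5} : Finset (Fin 6)).card = 4 := rfl
    have c7 : ({0, 2, 3, 4, 5} : Finset (Fin 6)).card = 5 := rfl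
    simp only [List.map_cons, List.map_nil, List.sum_cons, List.sum_nil]
    rw [c1, c2, c7]
    -- the numbers
    have nd : ∀ {J : Finset (Fin 6)}, Deg hpE6 K dE6 J [1, 1, 2, 3, 4, 5] → ¬ p ∣ (Pa hpE6 K J).index := fun h =>
      not_dvd_of_deg hd h (e := 5) (k := 1) [2, 6, 8, 9, 12] [1, 1, 2, 3, 4] (by decide) (by decide) hpr.out.not_dvd_one
        (by decide) (by decide) (by decide)
    have e1 := cnt_eq_of_deg P hd (by decide) (by decide) 5 two_02345 (d6_0234 K) (d6_A5 K) (nd (d6_0234 K))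
      [1, 2, 3, 4, 5] (by decide) (by decide) (by decide)
    have n1 := nd (d6_2345 K)
    have l3 := cnt_pos P n1
    have hp1 := hpr.out.one_lt
    have l4 := Nat.le_of_dvd (by omega) (cnt_dvd_pred P hc n1)
    rw [e1]
    apply not_modEq_zero
    · push_cast
      omega
    · push_cast
      omega
  · intro Z hZ J hJ
    simp only [List.mem_cons, List.not_mem_nil, or_false] at hZ
    rcases hZ with rfl | rfl | rfl | rfl
    · exact z6 P hpK hd (d6_0235 K) (by decide) (by decide +kernel) (by decide) (by decide) hJ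
    · exact z6 P hpK hd (d6_0245 K) (by decide) (by decide +kernel) (by decide) (by decide) hJ
    · exact z6 P hpK hd (d6_0345 K) (by decide) (by decide +kernel) (by decide) (by decide) hJ
    · exact z6 P hpK hd (d6_234 K) (by decide) (by decide +kernel) (by decide) (by decide) hJ

end CountE6

end Cfsg.Agent.H687.BR
end

-- part: H687/BR/RowE67
section
/-!
# The rows `e6` and `e7` of S4857, from the integrality of the constituents of `St_J` (helper687)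

* `MinusInt hp K J0` : the irreducible characters `χ` with `∑_{J ⊆ J0} (-1)^|J| [1_{P_J}^G, χ] ≠ 0` are integer valued;
* `row57_E7_of`, `row57_E6_of` : the rows.
-/

set_option autoImplicit false
set_option linter.unusedSectionVars false

namespace Cfsg.Agent.H687.BR

open Cfsg CoxeterSystem Cfsg.Agent.ChevalleyStructure.CoxeterGeom Cfsg.Agent.Tits.Roots Cfsg.Agent.Tits.Core
  Cfsg.Agent.Nodes.BNOf Cfsg.Agent.Nodes.Bruhat Cfsg.Agent.Nodes.LeviDec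
  Cfsg.Agent.H35.ExcIdx Cfsg.Agent.ChevalleyStructure.CoxeterGeomTypes Cfsg.Lie
open Cfsg.Agent.Nodes.RGDChev Cfsg.Agent.ChevalleyStructure.NPerm
open Cfsg.Agent.H116.RatB0 Cfsg.Agent.H685.BR
open Cfsg.Agent.H145.BR (cnt gpc permC classInner_gpc RowZ RowInt)
open scoped ComplexConjugate

universe u

/-! ### The criteria -/

section Crit

variable {G : Type u} [Group G] [Finite G] {p : ℕ} [hp : Fact p.Prime]

theorem classInner_permC [Fintype G] (H : Subgroup G) [Fintype H] (χ : IrrCharacter G) :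
    classInner (permC G (G ⧸ H)) (χ : G → ℂ) = conj ((Nat.card H : ℂ)⁻¹ * ∑ h : H, (χ : G → ℂ) h) := by
  have h1 := H139.RealB0.Crit.classInner_fixedPointCharacter H χ
  rw [← map_sum] at h1
  rw [map_mul, map_inv₀, Complex.conj_natCast]
  exact h1

/-- the criterion with one permutation character -/
theorem row57_of_plus (H : Subgroup G) [Fintype H]
    (hint : ∀ χ : G → ℂ, IsIrrCharacter G χ → ∑ h : H, χ h ≠ 0 → ∀ g, ∃ k : ℤ, χ g = k) (P : Sylow p G)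
    (hcnt : ¬ (((cnt (P : Subgroup G) (G ⧸ H) : ℕ) : ℤ)) ≡ 1 [ZMOD p]) : Row57 p G := by
  refine row57_of_rowQ (rowQ_of_cosets P (Finset.univ : Finset Unit) (fun _ => H) (fun _ => 1) ?_ ?_)
  · intro _ χ hχ g
    obtain ⟨k, hk⟩ := hint χ χ.2 (fun h0 => hχ (by
      rw [classInner_gpc]
      simp only [Finset.univ_unique, Finset.sum_singleton, Int.cast_one, one_mul]
      rw [classInner_permC, h0, mul_zero, map_zero])) g
    exact ⟨(k : ℚ), by rw [hk]; push_cast; rfl⟩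
  · simpa using hcnt

/-- the criterion with an alternating sum -/
theorem row57_of_alt {ι : Type*} (s : Finset ι) (H : ι → Subgroup G) [∀ i, Fintype (H i)] (ε : ι → ℤ)
    (hint : ∀ χ : G → ℂ, IsIrrCharacter G χ →
      ∑ i ∈ s, (ε i : ℂ) * ((Nat.card (H i) : ℂ)⁻¹ * ∑ h : H i, χ h) ≠ 0 → ∀ g, ∃ k : ℤ, χ g = k) (P : Sylow p G)
    (hε : ∑ i ∈ s, ε i = 0)
    (hcnt : ¬ (∑ i ∈ s, ε i * ((cnt (P : Subgroup G) (G ⧸ H i) : ℕ) : ℤ)) ≡ 0 [ZMOD p]) : Row57 p G := by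
  refine row57_of_rowQ (rowQ_of_cosets P s H ε ?_ (by rw [hε]; exact hcnt))
  intro _ χ hχ g
  obtain ⟨k, hk⟩ := hint χ χ.2 (fun h0 => hχ (by
    rw [classInner_gpc, Finset.sum_congr rfl fun i _ => by
      rw [classInner_permC, show (ε i : ℂ) = conj (ε i : ℂ) from (map_intCast (starRingEnd ℂ) (ε i)).symm, ← map_mul],
      ← map_sum, h0, map_zero])) g
  exact ⟨(k : ℚ), by rw [hk]; push_cast; rfl⟩

end Crit

/-- **The minus hypothesis** -/
def MinusInt {D : ChevalleyDatum} {l : ℕ} {M : CoxeterMatrix (Fin l)} (hp : IsType D l M) (K : Type u) [Field K]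
    (J0 : Finset (Fin l)) : Prop :=
  ∀ [∀ J, Fintype ↥(Pa hp K J)] (χ : ↥(D.group K) → ℂ), IsIrrCharacter ↥(D.group K) χ →
    ∑ J ∈ J0.powerset, (-1 : ℂ) ^ J.card * ((Nat.card ↥(Pa hp K J) : ℂ)⁻¹ * ∑ g : Pa hp K J, χ g) ≠ 0 →
    ∀ g, ∃ k : ℤ, χ g = k

theorem row57_of_minus {D : ChevalleyDatum} {l : ℕ} {M : CoxeterMatrix (Fin l)} {hp : IsType D l M} {K : Type u} [Field K]
    [Fintype K] {J0 : Finset (Fin l)} (hJ : J0.Nonempty) (hm : MinusInt hp K J0) {p : ℕ} [hpr : Fact p.Prime]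
    (P : Sylow p ↥(D.group K))
    (hcnt : ¬ (∑ J ∈ J0.powerset, (-1 : ℤ) ^ J.card *
      ((cnt (P : Subgroup ↥(D.group K)) (↥(D.group K) ⧸ Pa hp K J) : ℕ) : ℤ)) ≡ 0 [ZMOD p]) :
    Row57 p ↥(D.group K) := by
  classical
  have hF : ∀ J, Fintype ↥(Pa hp K J) := fun J => Fintype.ofFinite _
  refine row57_of_alt J0.powerset (fun J => Pa hp K J) (fun J => (-1 : ℤ) ^ J.card) (fun χ hχ h0 g => ?_) P
    (sum_signs hJ) hcnt
  refine hm χ hχ ?_ g
  simpa only [_root_.Nat.card_eq_fintype_card, _root_.ne_eq, _root_.Int.reduceNeg, _root_.Int.cast_pow, _root_.Int.cast_neg, _root_.Int.cast_one] using h0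

/-! ### The case distinctions -/

theorem card_E7_eq {F : Type} [Field F] [Fintype F] {p d : ℕ} [hp : Fact p.Prime]
    (hpF : (p : F) ≠ 0) (hd : orderOf ((Fintype.card F : ℕ) : ZMod p) = d) (hG : p ∣ Nat.card ↥(chevE7.group F))
    (h : ¬ d ∣ 1 ∧ ¬ d ∣ 2 ∧ ¬ d ∣ 4 ∧ ¬ d ∣ 6)
    (h1 : (([2, 6, 8, 10, 12, 14, 18] : List ℕ).filter (fun e => d ∣ e)).length = 1) (P : Sylow p ↥(chevE7.group F)) :
    IsCyclic P :=
  cyclic_of_cnt (L := [2, 6, 8, 10, 12, 14, 18]) (by simp) hpF hd (by norm_num) h hG h1 P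

theorem card_E6_eq {F : Type} [Field F] [Fintype F] {p d : ℕ} [hp : Fact p.Prime]
    (hpF : (p : F) ≠ 0) (hd : orderOf ((Fintype.card F : ℕ) : ZMod p) = d) (hG : p ∣ Nat.card ↥(chevE6.group F))
    (h : ¬ d ∣ 1 ∧ ¬ d ∣ 2 ∧ ¬ d ∣ 4 ∧ ¬ d ∣ 6)
    (h1 : (([2, 5, 6, 8, 9, 12] : List ℕ).filter (fun e => d ∣ e)).length = 1) (P : Sylow p ↥(chevE6.group F)) :
    IsCyclic P :=
  cyclic_of_cnt (L := [2, 5, 6, 8, 9, 12]) (by simp) hpF hd (by norm_num) h hG h1 P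

theorem dvd_sq_of_four {p q : ℕ} [hp : Fact p.Prime] (h : orderOf (q : ZMod p) = 4) : p ∣ q ^ 2 + 1 := by
  have h1 : (q : ZMod p) ^ 4 = 1 := by rw [← h]; exact pow_orderOf_eq_one _
  have h2 : (q : ZMod p) ^ 2 ≠ 1 := by
    intro h3
    have := orderOf_dvd_of_pow_eq_one h3
    rw [h] at this
    omega
  rw [← ZMod.natCast_eq_zero_iff]
  push_cast
  have h3 : ((q : ZMod p) ^ 2 - 1) * ((q : ZMod p) ^ 2 + 1) = 0 := by linear_combination h1
  rcases mul_eq_zero.1 h3 with h4 | h4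
  · exact absurd (sub_eq_zero.1 h4) h2
  · exact h4

section Rows

variable {F : Type} [Field F] [Fintype F] {p : ℕ} [hpr : Fact p.Prime]

theorem intD6 : ∀ [Fintype ↥(Pa hpE7 F {1, 2, 3, 4, 5, 6})] (χ : ↥(chevE7.group F) → ℂ),
    IsIrrCharacter ↥(chevE7.group F) χ → ∑ h : Pa hpE7 F {1, 2, 3, 4, 5, 6}, χ h ≠ 0 → ∀ g, ∃ k : ℤ, χ g = k := by
  have h1 : ({j | j ∈ ({1, 2, 3, 4, 5, 6} : Finset (Fin 7))} : Set (Fin 7)) = {j | j ≠ 0} := by
    ext j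
    revert j
    decide
  unfold Pa
  rw [h1]
  intro _ χ hχ h0 g
  exact H498.RP.int_E7_D6 F hχ h0 g

theorem intE6 : ∀ [Fintype ↥(Pa hpE7 F {0, 1, 2, 3, 4, 5})] (χ : ↥(chevE7.group F) → ℂ),
    IsIrrCharacter ↥(chevE7.group F) χ → ∑ h : Pa hpE7 F {0, 1, 2, 3, 4, 5}, χ h ≠ 0 → ∀ g, ∃ k : ℤ, χ g = k := by
  have h1 : ({j | j ∈ ({0, 1, 2, 3, 4, 5} : Finset (Fin 7))} : Set (Fin 7)) = {j | j ≠ 6} := by
    ext j
    revert j
    decide
  unfold Pa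
  rw [h1]
  intro _ χ hχ h0 g
  exact H498.RP.int_E7_E6 F hχ h0 g

theorem intA5 : ∀ [Fintype ↥(Pa hpE6 F {0, 2, 3, 4, 5})] (χ : ↥(chevE6.group F) → ℂ),
    IsIrrCharacter ↥(chevE6.group F) χ → ∑ h : Pa hpE6 F {0, 2, 3, 4, 5}, χ h ≠ 0 → ∀ g, ∃ k : ℤ, χ g = k := by
  have h1 : ({j | j ∈ ({0, 2, 3, 4, 5} : Finset (Fin 6))} : Set (Fin 6)) = {j | j ≠ 1} := by
    ext j
    revert j
    decide
  unfold Pa
  rw [h1]
  intro _ χ hχ h0 g
  exact H498.RP.int_E6_A5 F hχ h0 g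

/-- **`E₇(q)`, all primes `p ∤ 2 q`** -/
theorem row57_E7_of (hp2 : p ≠ 2) (hm1 : MinusInt hpE7 F {1, 2, 3, 4, 5, 6}) (hm2 : MinusInt hpE7 F {0, 1, 2, 3, 4, 5})
    (hpF : (p : F) ≠ 0) (hG : p ∣ Nat.card ↥(chevE7.group F)) : Row57 p ↥(chevE7.group F) := by
  classical
  have h2 := ord_mem_E7 hpF hG
  obtain ⟨P⟩ : Nonempty (Sylow p ↥(chevE7.group F)) := inferInstance
  have hFD : Fintype ↥(Pa hpE7 F {1, 2, 3, 4, 5, 6}) := Fintype.ofFinite _
  have hFE : Fintype ↥(Pa hpE7 F {0, 1, 2, 3, 4, 5}) := Fintype.ofFinite _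
  obtain ⟨d, hd⟩ : ∃ d, orderOf ((Fintype.card F : ℕ) : ZMod p) = d := ⟨_, rfl⟩
  rw [hd] at h2
  have hE : (p : ℤ) ∣ H35.PoinNum.E (Fintype.card F) d := by
    rw [← hd]
    exact dvd_E (H116.RatB0.not_dvd_card hpF)
  have hindex : ∀ d ∈ ([3, 7, 9, 12] : List ℕ), orderOf ((Fintype.card F : ℕ) : ZMod p) = d →
      Row57 p ↥(chevE7.group F) := by
    intro d hmem hd
    refine H498.RP.row57_of_int (Pa hpE7 F {1, 2, 3, 4, 5, 6}) ?_ intD6
    refine dvd_index_of_deg hpF hd (d7_D6 F) (N := 31) (by decide) (by decide) (by decide +kernel) ?_ ?_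
    · clear hd; revert d; decide
    · clear hd; revert d; decide
  simp only [List.mem_cons, List.not_mem_nil, or_false] at h2
  rcases h2 with rfl | rfl | rfl | rfl | rfl | rfl | rfl | rfl | rfl | rfl | rfl | rfl | rfl
  · exact row57_of_rowInt (H541.RatB0.rowInt_one_E7 hp2 (dvd_of_ord_one Fintype.card_pos hd))
  · exact row57_of_rowInt (rowInt_E7_of_dvd hpF (m := 2) (by decide) hE)
  · exact hindex 3 (by decide) hd
  · -- `d = 4`
    have hF : Fintype ↥(PJ CoxeterMatrix.E₇.toCoxeterSystem hpE7.isCartan (TT chevE7 F) (XX chevE7 7 F) {j | j ≠ 0}) :=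
      Fintype.ofFinite _
    exact row57_of_rowZ (H422.RatB.rowZ_E7_of_int F hp2 (dvd_sq_of_four hd) fun χ hχ h0 g =>
      H498.RP.int_E7_D6 F hχ h0 g)
  · -- `d = 5`
    exact row57_of_minus ⟨1, by decide⟩ hm1 P
      (sum_E7_D6_five P (card_E7_eq hpF hd hG (by decide) (by decide) P) hpF hp2 hd)
  · exact row57_of_rowInt (rowInt_E7_of_dvd hpF (m := 6) (by decide) hE)
  · exact hindex 7 (by decide) hd
  · -- `d = 8`
    rcases cases_E7_eight P (card_E7_eq hpF hd hG (by decide) (by decide) P) hpF hd with h | h | h | h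
    · exact row57_of_plus _ intE6 P h
    · exact row57_of_plus _ intD6 P h
    · exact row57_of_minus ⟨1, by decide⟩ hm1 P h
    · exact row57_of_minus ⟨1, by decide⟩ hm2 P h
  · exact hindex 9 (by decide) hd
  · -- `d = 10`
    refine H498.RP.row57_of_int (Pa hpE7 F {0, 1, 2, 3, 4, 5}) ?_ intE6
    exact dvd_index_of_deg hpF hd (d7_E6 F) (N := 31) (by decide) (by decide) (by decide +kernel) (by decide) (by decide)
  · exact hindex 12 (by decide) hd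
  · exact row57_of_rowInt (rowInt_E7_of_dvd hpF (m := 14) (by decide) hE)
  · exact row57_of_rowInt (rowInt_E7_of_dvd hpF (m := 18) (by decide) hE)

/-- **`E₆(q)`, all primes `p ∤ 2 q`** -/
theorem row57_E6_of (hp2 : p ≠ 2) (hm : MinusInt hpE6 F {0, 2, 3, 4, 5})
    (hpF : (p : F) ≠ 0) (hG : p ∣ Nat.card ↥(chevE6.group F)) : Row57 p ↥(chevE6.group F) := by
  classical
  have h2 := ord_mem_E6 hpF hG
  obtain ⟨P⟩ : Nonempty (Sylow p ↥(chevE6.group F)) := inferInstance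
  have hFA : Fintype ↥(Pa hpE6 F {0, 2, 3, 4, 5}) := Fintype.ofFinite _
  obtain ⟨d, hd⟩ : ∃ d, orderOf ((Fintype.card F : ℕ) : ZMod p) = d := ⟨_, rfl⟩
  rw [hd] at h2
  have hE : (p : ℤ) ∣ H35.PoinNum.E (Fintype.card F) d := by
    rw [← hd]
    exact dvd_E (H116.RatB0.not_dvd_card hpF)
  have hindex : ∀ d ∈ ([2, 4, 8] : List ℕ), orderOf ((Fintype.card F : ℕ) : ZMod p) = d →
      Row57 p ↥(chevE6.group F) := by
    intro d hmem hd
    refine H498.RP.row57_of_int (Pa hpE6 F {0, 2, 3, 4, 5}) ?_ intA5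
    refine dvd_index_of_deg hpF hd (d6_A5 F) (N := 31) (by decide) (by decide) (by decide +kernel) ?_ ?_
    · clear hd; revert d; decide
    · clear hd; revert d; decide
  simp only [List.mem_cons, List.not_mem_nil, or_false] at h2
  rcases h2 with rfl | rfl | rfl | rfl | rfl | rfl | rfl | rfl | rfl
  · exact row57_of_rowInt (H541.RatB0.rowInt_one_E6 hp2 (dvd_of_ord_one Fintype.card_pos hd))
  · exact hindex 2 (by decide) hd
  · exact row57_of_rowInt (rowInt_E6_of_dvd hpF (m := 3) (by decide) hE)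
  · exact hindex 4 (by decide) hd
  · -- `d = 5`
    exact row57_of_minus ⟨0, by decide⟩ hm P
      (sum_E6_A5_five P (card_E6_eq hpF hd hG (by decide) (by decide) P) hpF hd)
  · exact row57_of_rowInt (rowInt_E6_of_dvd hpF (m := 6) (by decide) hE)
  · exact hindex 8 (by decide) hd
  · exact row57_of_rowInt (rowInt_E6_of_dvd hpF (m := 9) (by decide) hE)
  · exact row57_of_rowInt (rowInt_E6_of_dvd hpF (m := 12) (by decide) hE)

/-- **the row `e7` of S4857** -/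
theorem row57_e7_of (hp2 : p ≠ 2) (hm1 : ∀ (F : Type) [Field F] [Fintype F], MinusInt hpE7 F {1, 2, 3, 4, 5, 6})
    (hm2 : ∀ (F : Type) [Field F] [Fintype F], MinusInt hpE7 F {0, 1, 2, 3, 4, 5}) :
    RowFor57 p (fun X _ => ∃ (F : Type) (_ : Field F) (_ : Fintype F), (p : F) ≠ 0 ∧
      Nonempty (X ≃* Lie.chevE7.group F)) := by
  intro X _ _ _ _ hd hX
  obtain ⟨F, _, _, hpF, ⟨e⟩⟩ := hX
  have hG : p ∣ Nat.card ↥(chevE7.group F) := by rwa [← Nat.card_congr e.toEquiv]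
  have hfin : Finite ↥(chevE7.group F) := Finite.of_equiv X e.toEquiv
  exact H685.BR.Row57.congr e (row57_E7_of hp2 (hm1 F) (hm2 F) hpF hG)

/-- **the row `e6` of S4857** -/
theorem row57_e6_of (hp2 : p ≠ 2) (hm : ∀ (F : Type) [Field F] [Fintype F], MinusInt hpE6 F {0, 2, 3, 4, 5}) :
    RowFor57 p (fun X _ => ∃ (F : Type) (_ : Field F) (_ : Fintype F), (p : F) ≠ 0 ∧
      Nonempty (X ≃* Lie.chevE6.group F)) := by
  intro X _ _ _ _ hd hX
  obtain ⟨F, _, _, hpF, ⟨e⟩⟩ := hX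
  have hG : p ∣ Nat.card ↥(chevE6.group F) := by rwa [← Nat.card_congr e.toEquiv]
  have hfin : Finite ↥(chevE6.group F) := Finite.of_equiv X e.toEquiv
  exact H685.BR.Row57.congr e (row57_E6_of hp2 (hm F) hpF hG)

end Rows

end Cfsg.Agent.H687.BR
end

-- part: H667/BR/E8M
section
/-!
# The dual permutation character of `E₈`, parabolic subgroup of type `D₇`

`int_chev_kron_minus` : the version of helper796's `int_chev_minus` for the large tables of helper498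
(the table is a binary tree, the eigenvector identity is checked at one large number).
`int_minus_E8_D7`, `minusInt_E8_D7`.
-/

set_option autoImplicit false
set_option linter.unusedSectionVars false
set_option maxRecDepth 100000

open Cfsg
open scoped ComplexConjugate

namespace Cfsg.Agent.H667.BR

open CoxeterSystem Cfsg.Agent.ChevalleyStructure.CoxeterGeom Cfsg.Agent.Tits.Roots Cfsg.Agent.Tits.Core
  Cfsg.Agent.Tits.Exchange Cfsg.Agent.Nodes.Reps Cfsg.Agent.Nodes.BNOf Cfsg.Agent.Nodes.StabComb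
  Cfsg.Agent.Nodes.Bruhat Cfsg.Agent.Nodes.OppDec Cfsg.Agent.Nodes.LeviDec Cfsg.Agent.Nodes.NormalForm
  Cfsg.Agent.H35.ExcIdx Cfsg.Lie Cfsg.Agent.Nodes.RGDChev Cfsg.Agent.ChevalleyStructure.NPerm
  Cfsg.Agent.H498.RP Cfsg.Agent.ChevalleyStructure.CoxeterGeomTypes

universe u v

section Inj

/-- the eigenvalues at `1 / y`, `y ≥ 2`, are distinct -/
theorem inj_kron_inv {r : ℕ} {dg : Fin r → List (ℕ × ℕ × Fin r)} (hne : ∀ k, dg k ≠ []) {k1 : Fin r}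
    {N : Fin r → List ℤ} (hN : ∀ i j, i < j → posR (addL (N i) (smL (-1) (N j))) = true) {y : ℚ} (hy : 2 ≤ y) :
    Function.Injective fun i => evL y⁻¹ (N i) / ((dg k1).map fun z => (y⁻¹) ^ z.1).sum := by
  have hy0 : (0 : ℚ) < y⁻¹ := inv_pos.2 (by linarith)
  have h5 := ZL_pos (x := y⁻¹) hy0 (hne k1)
  have key : ∀ i j, i < j → evL y⁻¹ (N i) / ((dg k1).map fun z => (y⁻¹) ^ z.1).sum ≠
      evL y⁻¹ (N j) / ((dg k1).map fun z => (y⁻¹) ^ z.1).sum := by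
    intro i j hij h
    rw [div_left_inj' h5.ne'] at h
    have h1 := evL_posR hy (hN i j hij)
    rw [evL_add, evL_sm, h] at h1
    push_cast at h1
    linarith
  intro i j hij
  by_contra hne'
  rcases lt_or_gt_of_ne hne' with h1 | h1
  · exact key i j h1 hij
  · exact key j i h1 hij.symm

end Inj

section Chev

variable {D : ChevalleyDatum} {l : ℕ} {M : CoxeterMatrix (Fin l)} (hp : IsType D l M) (K : Type u) [Field K]
  [Fintype K]

/-- **Untwisted groups, dual permutation characters, large tables.** -/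
theorem int_chev_kron_minus {A : Fin l → Fin l → ℤ} (hA : IsCartan M A) {i0 : Fin l} {m r : ℕ} [NeZero m] [NeZero r]
    {T : BT Rw} {rows : List (List ℤ)} {bs : List ℕ} {hsh : List ℤ} {b0 : ℕ} {wd : Fin r → List (Fin l)}
    (H : TabC m r A i0 T rows bs hsh b0 wd) (hex1 : ∀ k : Fin r, (T.get (nn bs k)).e = 0)
    {dg : Fin r → List (ℕ × ℕ × Fin r)} (hdg : ∀ k : Fin r, eqE (gath T (nl rows i0) i0 k m []) (dg k) = true)
    (hne : ∀ k, dg k ≠ []) {k1 : Fin r} {N : Fin r → List ℤ} {U : Fin r → Fin r → List ℤ} {B C L Dn : ℕ}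
    (hc : checkK dg k1 N U B C L Dn)
    (hN : ∀ i j, i < j → posR (addL (N i) (smL (-1) (N j))) = true) {k0 : Fin r}
    (hU0 : ∀ i, posR (U i k0) = true)
    [∀ L : Finset (Fin l), Fintype (PJ M.toCoxeterSystem hp.isCartan (TT D K) (XX D l K) (L : Set (Fin l)))]
    {χ : ↥(D.group K) → ℂ} (hχ : IsIrrCharacter ↥(D.group K) χ)
    (h0 : ∑ L ∈ (Finset.univ.erase i0).powerset, (-1 : ℂ) ^ L.card *
      ((Nat.card (PJ M.toCoxeterSystem hp.isCartan (TT D K) (XX D l K) (L : Set (Fin l))) : ℂ)⁻¹ *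
        ∑ g : PJ M.toCoxeterSystem hp.isCartan (TT D K) (XX D l K) (L : Set (Fin l)), χ g) ≠ 0)
    (g : ↥(D.group K)) : ∃ k : ℤ, χ g = k := by
  classical
  obtain ⟨p, hpc⟩ := CharP.exists K
  have hpp : Fact p.Prime := ⟨CharP.char_is_prime K p⟩
  have hfin : Finite M.Group := finite_W hp M.toCoxeterSystem
  have hfW : Fintype M.Group := Fintype.ofFinite _
  have R := rgd (K := K) hp M.toCoxeterSystem p
  have hcard : ∀ i, Nat.card (XX D l K (sr i)) = (fun _ : Fin l => Fintype.card K) i := fun i => by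
    rw [card_XX hp K M.toCoxeterSystem (isRoot_sr _ _ i), Nat.card_eq_fintype_card]
  obtain ⟨Δ, hiso, htr, hΔ, hPJ⟩ := exists_bldg_PJ R (GG_eq_top hp K _) hcard
  have hfS : Fintype ↥(D.group K) := Fintype.ofFinite _
  have hfC : Fintype (↥(D.group K) ⧸ RGD.B M.toCoxeterSystem hp.isCartan (TT D K) (XX D l K)) := Fintype.ofFinite _
  have hx : (2 : ℚ) ≤ (Fintype.card K : ℚ) := by
    have := Fintype.one_lt_card (α := K)
    exact_mod_cast this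
  have hx0 : (0 : ℚ) < (Fintype.card K : ℚ)⁻¹ := inv_pos.2 (by linarith)
  refine H667.BR.int_of_tableM (mkOrb H) hA Δ hΔ hiso htr
    (wt := fun b => ((Fintype.card K : ℚ)⁻¹) ^ (T.get b).e)
    (U := fun i k => evL (Fintype.card K : ℚ)⁻¹ (U i k))
    (θ := fun i => evL (Fintype.card K : ℚ)⁻¹ (N i) / ((dg k1).map fun y => ((Fintype.card K : ℚ)⁻¹) ^ y.1).sum)
    ?_ ?_ (inj_kron_inv hne hN hx) ?_ (fun i => ?_) (QuotientGroup.mk 1)
    (fun L => PJ M.toCoxeterSystem hp.isCartan (TT D K) (XX D l K) (L : Set (Fin l)))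
    (fun L _ g => hPJ _ g) hχ h0 g
  · intro k
    show ((Fintype.card K : ℚ)⁻¹) ^ (T.get ((Fin.ofNat m (nn bs k) : Fin m) : ℕ)).e = 1
    rw [H.val_base, hex1, pow_zero]
  · intro j hj b hb
    show ((Fintype.card K : ℚ)⁻¹) ^ (T.get ((mkOrb H).act j b)).e =
      (Fintype.card K : ℚ)⁻¹ * ((Fintype.card K : ℚ)⁻¹) ^ (T.get b).e
    rw [H.ex2 j hj b hb, pow_succ, mul_comm]
  · intro i h2
    have h3 := congrFun h2 k0
    exact (evL_posR hx (hU0 i)).ne' h3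
  · exact eig_kron (mkOrb H) (fun b => (T.get b).e) (H.isDat hdg) hne hc hx0 i

end Chev

theorem hNr_E8D7 : ∀ i j, i < j → posR (addL (E8D7.NN i) (smL (-1) (E8D7.NN j))) = true := by decide +kernel

theorem hU0r_E8D7 : ∀ i, posR (E8D7.UU i 0) = true := by decide +kernel

/-- `E₈`, the dual of the permutation character on the cosets of the parabolic subgroup of type `D₇` -/
theorem int_minus_E8_D7 (K : Type u) [Field K] [Fintype K]
    [∀ L : Finset (Fin 8), Fintype (PJ CoxeterMatrix.E₈.toCoxeterSystem hpE8.isCartan (TT chevE8 K) (XX chevE8 8 K)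
      (L : Set (Fin 8)))]
    {χ : ↥((chevE8).group K) → ℂ} (hχ : IsIrrCharacter ↥((chevE8).group K) χ)
    (h0 : ∑ L ∈ (Finset.univ.erase (0 : Fin 8)).powerset, (-1 : ℂ) ^ L.card *
      ((Nat.card (PJ CoxeterMatrix.E₈.toCoxeterSystem hpE8.isCartan (TT chevE8 K) (XX chevE8 8 K)
        (L : Set (Fin 8))) : ℂ)⁻¹ *
        ∑ g : PJ CoxeterMatrix.E₈.toCoxeterSystem hpE8.isCartan (TT chevE8 K) (XX chevE8 8 K) (L : Set (Fin 8)), χ g) ≠ 0)
    (g : ↥((chevE8).group K)) : ∃ k : ℤ, χ g = k :=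
  int_chev_kron_minus hpE8 K isCartan_cE8 E8D7.tab E8D7.ex1 E8D7.hdg E8D7.hne E8D7.check hNr_E8D7 hU0r_E8D7 hχ h0 g

/-- the same, in helper687's form -/
theorem minusInt_E8_D7 (F : Type u) [Field F] [Fintype F] :
    Cfsg.Agent.H687.BR.MinusInt hpE8 F {1, 2, 3, 4, 5, 6, 7} := by
  intro hfin χ hχ h0 g
  have e : ({1, 2, 3, 4, 5, 6, 7} : Finset (Fin 8)) = Finset.univ.erase 0 := by decide
  rw [e] at h0
  exact @int_minus_E8_D7 F _ _ hfin χ hχ h0 g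

end Cfsg.Agent.H667.BR
end

private theorem dce_f0b30aa45fb9 : _root_.True := by
  try have : _root_.True := by simp only [_root_.Cfsg.Agent.H687.BR.Pa.congr_simp]
  exact _root_.True.intro
end
end
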